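import Cfsg.Agent.Lib.Schur.F4Two.Data

/-!
The evaluation of the checks on the certificate.
-/

set_option autoImplicit false
set_option maxRecDepth 10000
set_option maxHeartbeats 4000000

namespace CfsgLib.Schur.F4Two

theorem cert_ok : cert.Ok tab where
  near :=
    { run := by decide +kernel
      dec := by decide +kernel
      pairs := by decide +kernel }
  base := by decide +kernel
  init := by decide +kernel
  chain := by decide +kernel
  total := by decide +kernel

end CfsgLib.Schur.F4Two
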