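import Cfsg.Agent.Lib.Schur.F4Two.Data
import Cfsg.Agent.Lib.Steinberg.Cover
import Cfsg.Prelude.Def_ChevF4

/-!
The Steinberg presentation of type F4 over the field with two elements as a presentation by the relations
of the tables.
-/

set_option autoImplicit false
set_option linter.unusedSectionVars false
set_option maxRecDepth 10000

namespace CfsgLib.Schur.F4Two

open Cfsg.Lie
open scoped commutatorElement

universe u

/-- The terms with odd coefficient. -/
def oddTerms (L : List (ℕ × ℤ × ℕ × ℕ)) : List ℕ :=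
  (L.filter fun c => decide (c.2.1 % 2 = 1)).map Prod.fst

/-- The tables agree with the datum. -/
def linkCheck : Bool :=
  (List.finRange 48).all fun r => decide (chevF4.neg r.val = (tab.neg r).val) &&
    (List.finRange 48).all fun s => !tab.ok r s ||
      decide ((tab.word r s).map Fin.val = oddTerms (chevF4.commTerms s.val r.val)) &&
        (chevF4.commTerms s.val r.val).all fun c => decide (c.1 < 48)

theorem linkCheck_eq : linkCheck = true := by decide +kernel

theorem neg_eq (r : Fin 48) : chevF4.neg r.val = (tab.neg r).val := by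
  have h := linkCheck_eq
  simp only [linkCheck, List.all_eq_true, List.mem_finRange, forall_const, Bool.and_eq_true,
    decide_eq_true_eq] at h
  exact (h r).1

theorem neg_neg' : ∀ r : Fin 48, tab.neg (tab.neg r) = r := by decide

theorem terms_eq {r s : Fin 48} (h1 : s ≠ r) (h2 : s ≠ tab.neg r) :
    (tab.word r s).map Fin.val = oddTerms (chevF4.commTerms s.val r.val) ∧
      ∀ c ∈ chevF4.commTerms s.val r.val, c.1 < 48 := by
  have h := linkCheck_eq
  simp only [linkCheck, List.all_eq_true, List.mem_finRange, forall_const, Bool.and_eq_true,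
    decide_eq_true_eq, Bool.or_eq_true, Bool.not_eq_true'] at h
  exact ((h r).2 s).resolve_left (by simp [Tab.ok, h1, h2])

variable {F : Type u} [Field F]

/-- The generators. -/
def gen (F : Type u) [Field F] (r : Fin 48) : chevF4.SteinbergCover F := chevF4.scGen F r.val 1

theorem scGen_add (r : ℕ) (hr : r < 48) (t u : F) :
    chevF4.scGen F r (t + u) = chevF4.scGen F r t * chevF4.scGen F r u := by
  have h := PresentedGroup.one_of_mem (rels := chevF4.steinbergRelsAB F)
    (Or.inl ⟨r, t, u, hr, rfl⟩)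
  rw [map_mul, map_mul, map_inv, mul_inv_eq_one] at h
  exact h.symm

theorem scGen_zero (r : ℕ) (hr : r < 48) : chevF4.scGen F r 0 = 1 := by
  have h := scGen_add (F := F) r hr 0 0
  rw [add_zero] at h
  exact mul_eq_left.mp h.symm

theorem mk_stWord' (L : List (ℕ × F)) :
    PresentedGroup.mk (chevF4.steinbergRelsAB F) (chevF4.stWord L) =
      (L.map fun p => chevF4.scGen F p.1 p.2).prod := by
  rw [ChevalleyDatum.stWord, map_list_prod, List.map_map]
  rfl

theorem prod_terms {M : Type*} [Monoid M] (htwo : (1 : F) + 1 = 0) (f : ℕ → F → M) (g : ℕ → M) :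
    ∀ (L : List (ℕ × ℤ × ℕ × ℕ)), (∀ c ∈ L, f c.1 0 = 1 ∧ f c.1 1 = g c.1) →
      ((L.map fun c => (c.1, (c.2.1 : F) * (-1) ^ c.2.2.1 * 1 ^ c.2.2.2)).map
        fun p => f p.1 p.2).prod = ((oddTerms L).map g).prod := by
  have hneg : (-1 : F) = 1 := neg_eq_of_add_eq_zero_left htwo
  have h2 : (2 : F) = 0 := by rw [← htwo]; norm_num
  intro L
  induction L with
  | nil => simp [oddTerms]
  | cons c L ih =>
    intro h
    rw [List.map_cons, List.map_cons, List.prod_cons, ih fun d hd => h d (List.mem_cons_of_mem _ hd)]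
    simp only [hneg, one_pow, mul_one, oddTerms]
    rcases Int.even_or_odd c.2.1 with ⟨k, hk⟩ | ⟨k, hk⟩
    · rw [List.filter_cons_of_neg (by simp [hk]; omega), hk, Int.cast_add, ← two_mul, h2, zero_mul,
        (h c List.mem_cons_self).1, one_mul]
    · rw [List.filter_cons_of_pos (by simp [hk]), hk, Int.cast_add, Int.cast_mul,
        Int.cast_ofNat, h2, zero_mul, zero_add, Int.cast_one, (h c List.mem_cons_self).2,
        List.map_cons, List.map_cons, List.prod_cons]

variable (h2 : ∀ t : F, t = 0 ∨ t = 1) (htwo : (1 : F) + 1 = 0)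
include h2 htwo

theorem gen_rels : Rels tab (gen F) := by
  have hsq : ∀ r, gen F r * gen F r = 1 := fun r => by
    rw [gen, ← scGen_add _ r.2, htwo, scGen_zero _ r.2]
  have hinv : ∀ r, (gen F r)⁻¹ = gen F r := fun r => inv_eq_of_mul_eq_one_left (hsq r)
  refine ⟨hsq, fun r s a b => ?_⟩
  have h := PresentedGroup.one_of_mem (rels := chevF4.steinbergRelsAB F)
    (Or.inr ⟨s.val, r.val, 1, 1, s.2, r.2, fun e => a (Fin.ext e.symm),
      fun e => b (by
        have e' : r = tab.neg s := Fin.ext (by rw [e, neg_eq])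
        rw [e', neg_neg']), rfl⟩)
  rw [map_mul, map_mul, map_mul, map_mul, map_inv, map_inv, map_inv, mul_inv_eq_one,
    mk_stWord'] at h
  obtain ⟨e1, e2⟩ := terms_eq a b
  have h' : ((chevF4.commWord F s.val r.val 1 1).map fun p => chevF4.scGen F p.1 p.2).prod =
      ((oddTerms (chevF4.commTerms s.val r.val)).map fun k => chevF4.scGen F k 1).prod :=
    prod_terms htwo (fun k t => chevF4.scGen F k t) (fun k => chevF4.scGen F k 1) _
      fun c hc => ⟨scGen_zero _ (e2 c hc), rfl⟩
  rw [h', ← e1, List.map_map] at h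
  rw [commutatorElement_def, hinv, hinv]
  change (gen F r)⁻¹ * (gen F s)⁻¹ * gen F r * gen F s = _ at h
  rw [hinv, hinv] at h
  exact h

theorem closure_gen : Subgroup.closure (Set.range (gen F)) = ⊤ := by
  rw [eq_top_iff, ← PresentedGroup.closure_range_of, Subgroup.closure_le]
  rintro _ ⟨⟨r, t⟩, rfl⟩
  have e : PresentedGroup.of (rels := chevF4.steinbergRelsAB F) (r, t) =
      chevF4.scGen F r.val t := by
    rw [ChevalleyDatum.scGen, ChevalleyDatum.stX, dif_pos r.2]; rfl
  rw [e]
  rcases h2 t with rfl | rfl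
  · rw [scGen_zero _ r.2]; exact one_mem _
  · exact Subgroup.subset_closure ⟨r, rfl⟩

/-- The generators present the covering group. -/
theorem gen_presents {H : Type u} [Group H] {Y : Fin 48 → H} (R : Rels tab Y) :
    ∃ f : chevF4.SteinbergCover F →* H, ∀ r, f (gen F r) = Y r := by
  classical
  let g : Fin chevF4.nroots × F → H := fun p => if p.2 = 0 then 1 else Y p.1
  let Y' : ℕ → H := fun k => if hk : k < 48 then Y ⟨k, hk⟩ else 1
  have hX : ∀ (r : ℕ) (hr : r < 48) (t : F),
      FreeGroup.lift g (chevF4.stX r t) = if t = 0 then 1 else Y ⟨r, hr⟩ := fun r hr t => by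
    rw [ChevalleyDatum.stX, dif_pos (show r < chevF4.nroots from hr), FreeGroup.lift_apply_of]
    rfl
  have hW : ∀ L : List (ℕ × F), FreeGroup.lift g (chevF4.stWord L) =
      (L.map fun p => FreeGroup.lift g (chevF4.stX p.1 p.2)).prod := fun L => by
    rw [ChevalleyDatum.stWord, map_list_prod, List.map_map]
    rfl
  have hrels : ∀ w ∈ chevF4.steinbergRelsAB F, FreeGroup.lift g w = 1 := by
    rintro w (⟨r, t₁, t₂, hr, rfl⟩ | ⟨r, s, t, v, hr, hs, hrs, hn, rfl⟩)
    · simp only [map_mul, map_inv, hX r hr]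
      rcases h2 t₁ with rfl | rfl <;> rcases h2 t₂ with rfl | rfl <;> simp [htwo, R.sq]
    · change r < 48 at hr
      change s < 48 at hs
      have a : (⟨r, hr⟩ : Fin 48) ≠ ⟨s, hs⟩ := fun e => hrs (congrArg Fin.val e).symm
      have b : (⟨r, hr⟩ : Fin 48) ≠ tab.neg ⟨s, hs⟩ := fun e => hn (by
        rw [show r = (⟨r, hr⟩ : Fin 48).val from rfl, neg_eq, e, neg_neg'])
      simp only [map_mul, map_inv, hX r hr, hX s hs, hW]
      have hz : ∀ (L : List (ℕ × ℤ × ℕ × ℕ)), (∀ c ∈ L, c.1 < 48) → ∀ f : ℤ × ℕ × ℕ → F,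
          (∀ c ∈ L, f c.2 = 0) →
          ((L.map fun c => (c.1, f c.2)).map fun p => FreeGroup.lift g (chevF4.stX p.1 p.2)).prod = 1 := by
        intro L
        induction L with
        | nil => simp
        | cons c L ih =>
          intro hL f hf
          rw [List.map_cons, List.map_cons, List.prod_cons,
            ih (fun d hd => hL d (List.mem_cons_of_mem _ hd)) f
              (fun d hd => hf d (List.mem_cons_of_mem _ hd)),
            hf c List.mem_cons_self, hX c.1 (hL c List.mem_cons_self), if_pos rfl, one_mul]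
      have hexp : ∀ c ∈ chevF4.commTerms r s, c.1 < 48 ∧ c.2.2.1 ≠ 0 ∧ c.2.2.2 ≠ 0 := by
        have h' : ((List.finRange 48).all fun r => (List.finRange 48).all fun s =>
            (chevF4.commTerms r.val s.val).all fun c =>
              decide (c.1 < 48 ∧ c.2.2.1 ≠ 0 ∧ c.2.2.2 ≠ 0)) = true := by decide +kernel
        simp only [List.all_eq_true, List.mem_finRange, forall_const, decide_eq_true_eq] at h'
        exact h' ⟨r, hr⟩ ⟨s, hs⟩
      rcases h2 t with rfl | rfl
      · have := hz (chevF4.commTerms r s) (fun c hc => (hexp c hc).1)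
          (fun q => (q.1 : F) * (-0) ^ q.2.1 * v ^ q.2.2)
          (fun c hc => by rw [neg_zero, zero_pow (hexp c hc).2.1, mul_zero, zero_mul])
        simp only [ChevalleyDatum.commWord, this]
        rcases h2 v with rfl | rfl <;> simp
      rcases h2 v with rfl | rfl
      · have := hz (chevF4.commTerms r s) (fun c hc => (hexp c hc).1)
          (fun q => (q.1 : F) * (-1) ^ q.2.1 * 0 ^ q.2.2)
          (fun c hc => by rw [zero_pow (hexp c hc).2.2, mul_zero])
        simp only [ChevalleyDatum.commWord, this]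
        simp
      have a' : (⟨r, hr⟩ : Fin 48) ≠ ⟨s, hs⟩ := a
      obtain ⟨e1', e2'⟩ := terms_eq (r := ⟨s, hs⟩) (s := ⟨r, hr⟩) a' b
      have hw := prod_terms htwo (fun k (t : F) => FreeGroup.lift g (chevF4.stX k t)) Y'
        (chevF4.commTerms r s) fun c hc => by
          have hc' : c.1 < 48 := e2' c hc
          simp [hX c.1 hc', Y', hc']
      simp only [ChevalleyDatum.commWord, hw, if_neg one_ne_zero]
      rw [mul_inv_eq_one]
      have eR := R.pair ⟨s, hs⟩ ⟨r, hr⟩ a' b
      rw [← e1', List.map_map, show Y' ∘ Fin.val = Y from funext fun k => by simp [Y'], ← eR,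
        commutatorElement_def, inv_eq_of_mul_eq_one_left (R.sq _),
        inv_eq_of_mul_eq_one_left (R.sq ⟨r, hr⟩)]
  refine ⟨PresentedGroup.toGroup hrels, fun r => ?_⟩
  show FreeGroup.lift g (chevF4.stX r.val 1) = Y r
  rw [hX r.val r.2, if_neg one_ne_zero]

end CfsgLib.Schur.F4Two
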