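import Cfsg.Agent.Lib.Schur.F4Two.Tab

/-!
The commutator words of type F4 over the field with two elements and a certificate for them.
-/

set_option autoImplicit false
set_option maxRecDepth 10000
set_option maxHeartbeats 4000000

namespace CfsgLib.Schur.F4Two

/-- The words, by rows. -/
def wordRows : List (List (List (Fin 48))) := [
  [[],[],[],[],[],[],[],[],[],[],[],[],[],[],[],[],[],[],[],[],[],[],[],[],[1],[],[2],[],[],[3,6],[],[4],[5],[],[],[],[7,17],[],[8,22],[9,25],[11,30],[],[15],[16],[18,41],[21],[23],[]],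
  [[],[],[],[],[],[],[],[],[],[],[],[],[],[],[],[],[],[],[],[],[],[],[],[0],[],[2],[],[],[3,5],[],[4],[],[6],[],[],[7,16],[],[8,21],[],[10,26],[12,31],[15],[],[17],[19,42],[22],[],[24]],
  [[],[],[],[],[],[],[],[],[],[],[],[],[],[],[],[],[],[],[],[],[],[0],[1],[],[],[],[],[3,4],[],[],[5],[6],[],[],[7,15],[],[],[9,23],[10,24],[],[13,32],[16],[17],[],[20,43],[],[25],[26]],
  [[],[],[],[],[],[],[],[],[],[],[],[],[],[],[],[],[],[],[],[],[],[],[],[],[],[],[],[],[],[],[],[],[],[7],[8],[9],[10],[11],[12],[13],[14],[18,0],[19,1],[20,2],[],[27,4],[28,5],[29,6]],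
  [[],[],[],[],[],[],[],[],[],[],[],[],[],[],[],[],[0],[1],[],[],[3,2],[],[],[],[],[5],[6],[],[],[],[],[],[],[8,15],[],[11,23],[12,24],[],[],[14,32],[],[21],[22],[],[27,45],[],[30],[31]],
  [[],[],[],[],[],[],[],[],[],[],[],[],[],[],[],[0],[],[2],[],[3,1],[],[],[4],[],[6],[],[],[],[],[],[],[],[],[9,16],[11,21],[],[13,26],[],[14,31],[],[],[23],[],[25],[28,46],[30],[],[32]],
  [[],[],[],[],[],[],[],[],[],[],[],[],[],[],[],[1],[2],[],[3,0],[],[],[4],[],[5],[],[],[],[],[],[],[],[],[],[10,17],[12,22],[13,25],[],[14,30],[],[],[],[],[24],[26],[29,47],[31],[32],[]],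
  [[],[],[],[],[],[],[],[],[],[],[],[],[],[],[3],[],[],[],[],[],[],[],[],[],[],[],[],[8],[9],[10],[11,0],[12,1],[13,2],[],[],[],[],[18],[19],[20],[],[],[],[],[33],[34,15],[35,16],[36,17]],
  [[],[],[],[],[],[],[],[],[],[],[],[],[],[3],[],[],[],[],[],[],[7],[],[],[],[],[9,0],[10,1],[],[11],[12],[],[],[14,4],[],[],[18],[19],[],[],[],[27],[],[],[33,15],[34],[],[37,21],[38,22]],
  [[],[],[],[],[],[],[],[],[],[],[],[],[3],[],[],[],[],[],[],[7],[],[],[8,0],[],[10,2],[],[],[11],[],[13],[],[14,5],[],[],[18],[],[20],[],[],[],[28],[],[33,16],[],[35],[37,23],[],[39,25]],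
  [[],[],[],[],[],[],[],[],[],[],[],[3],[],[],[],[],[],[],[7],[],[],[8,1],[],[9,2],[],[],[],[12],[13],[],[14,6],[],[],[],[19],[20],[],[],[],[],[29],[33,17],[],[],[36],[38,24],[39,26],[]],
  [[],[],[],[],[],[],[],[],[],[],[3],[],[],[],[],[],[],[7,0],[],[8],[9],[],[],[],[12,4],[],[13,5],[],[],[14],[],[],[],[18],[],[],[],[],[27],[28],[],[],[34,21],[35,23],[37],[],[],[40,30]],
  [[],[],[],[],[],[],[],[],[],[3],[],[],[],[],[],[],[7,1],[],[8],[],[10],[],[],[11,4],[],[13,6],[],[],[14],[],[],[],[],[19],[],[],[],[27],[],[29],[],[34,22],[],[36,24],[38],[],[40,31],[]],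
  [[],[],[],[],[],[],[],[],[3],[],[],[],[],[],[],[7,2],[],[],[9],[10],[],[11,5],[12,6],[],[],[],[],[14],[],[],[],[],[],[20],[],[],[],[28],[29],[],[],[35,25],[36,26],[],[39],[40,32],[],[]],
  [[],[],[],[],[],[],[],[3],[],[],[],[],[],[],[],[8,4],[9,5],[10,6],[11],[12],[13],[],[],[],[],[],[],[],[],[],[],[],[],[],[27],[28],[29],[],[],[],[],[37,30],[38,31],[39,32],[40],[],[],[]],
  [[],[],[],[],[],[0],[1],[],[],[],[],[],[],[7,2],[8,4],[],[],[],[],[],[],[],[],[],[],[16],[17],[],[18,23],[19,24],[21],[22],[],[],[],[],[],[],[],[33,43],[34,45],[],[],[],[],[],[41],[42]],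
  [[],[],[],[],[0],[],[2],[],[],[],[],[],[7,1],[],[9,5],[],[],[],[],[],[],[],[15],[],[17],[],[],[18,21],[],[20,26],[23],[],[25],[],[],[],[],[],[33,42],[],[35,46],[],[],[],[],[41],[],[43]],
  [[],[],[],[],[1],[2],[],[],[],[],[],[7,0],[],[],[10,6],[],[],[],[],[],[],[15],[],[16],[],[],[],[19,22],[20,25],[],[],[24],[26],[],[],[],[],[33,41],[],[],[36,47],[],[],[],[],[42],[43],[]],
  [[],[],[],[],[],[],[3,0],[],[],[],[7],[],[8],[9],[11],[],[],[],[],[],[],[],[],[],[19,15],[],[20,16],[],[],[],[],[27,21],[28,23],[],[],[],[33],[],[34],[35],[37],[],[],[],[],[],[],[44,41]],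
  [[],[],[],[],[],[3,1],[],[],[],[7],[],[8],[],[10],[12],[],[],[],[],[],[],[],[],[18,15],[],[20,17],[],[],[],[],[27,22],[],[29,24],[],[],[33],[],[34],[],[36],[38],[],[],[],[],[],[44,42],[]],
  [[],[],[],[],[3,2],[],[],[],[7],[],[],[9],[10],[],[13],[],[],[],[],[],[],[18,16],[19,17],[],[],[],[],[],[],[],[28,25],[29,26],[],[],[33],[],[],[35],[36],[],[39],[],[],[],[],[44,43],[],[]],
  [[],[],[0],[],[],[],[4],[],[],[],[8,1],[],[],[11,5],[],[],[],[15],[],[],[18,16],[],[],[],[22],[23],[],[],[],[27,31],[],[],[30],[],[],[],[34,42],[],[],[37,46],[],[],[],[41],[],[],[],[45]],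
  [[],[],[1],[],[],[4],[],[],[],[8,0],[],[],[],[12,6],[],[],[15],[],[],[],[19,17],[],[],[21],[],[],[24],[],[27,30],[],[],[],[31],[],[],[34,41],[],[],[],[38,47],[],[],[],[42],[],[],[45],[]],
  [[],[0],[],[],[],[],[5],[],[],[],[9,2],[],[11,4],[],[],[],[],[16],[],[18,15],[],[],[21],[],[],[],[25],[],[],[28,32],[],[30],[],[],[],[],[35,43],[],[37,45],[],[],[],[41],[],[],[],[],[46]],
  [[1],[],[],[],[],[6],[],[],[],[10,2],[],[12,4],[],[],[],[],[17],[],[19,15],[],[],[22],[],[],[],[26],[],[],[29,32],[],[31],[],[],[],[],[36,43],[],[38,45],[],[],[],[42],[],[],[],[],[47],[]],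
  [[],[2],[],[],[5],[],[],[],[9,0],[],[],[],[13,6],[],[],[16],[],[],[],[20,17],[],[23],[],[],[26],[],[],[28,30],[],[],[],[32],[],[],[35,41],[],[],[],[39,47],[],[],[],[43],[],[],[46],[],[]],
  [[2],[],[],[],[6],[],[],[],[10,1],[],[],[13,5],[],[],[],[17],[],[],[20,16],[],[],[],[24],[25],[],[],[],[29,31],[],[],[32],[],[],[],[36,42],[],[],[39,46],[],[],[],[43],[],[],[],[47],[],[]],
  [[],[],[3,4],[],[],[],[],[8],[],[11],[12],[],[],[14],[],[],[18,21],[19,22],[],[],[],[],[],[],[],[28,30],[29,31],[],[],[],[],[],[],[34],[],[37],[38],[],[],[40],[],[],[],[44,45],[],[],[],[]],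
  [[],[3,5],[],[],[],[],[],[9],[11],[],[13],[],[14],[],[],[18,23],[],[20,25],[],[],[],[],[27,30],[],[29,32],[],[],[],[],[],[],[],[],[35],[37],[],[39],[],[40],[],[],[],[44,46],[],[],[],[],[]],
  [[3,6],[],[],[],[],[],[],[10],[12],[13],[],[14],[],[],[],[19,24],[20,26],[],[],[],[],[27,31],[],[28,32],[],[],[],[],[],[],[],[],[],[36],[38],[39],[],[40],[],[],[],[44,47],[],[],[],[],[],[]],
  [[],[4],[5],[],[],[],[],[11,0],[],[],[14,6],[],[],[],[],[21],[23],[],[],[27,22],[28,25],[],[],[],[31],[],[32],[],[],[],[],[],[],[37,41],[],[],[40,47],[],[],[],[],[],[45],[46],[],[],[],[]],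
  [[4],[],[6],[],[],[],[],[12,1],[],[14,5],[],[],[],[],[],[22],[],[24],[27,21],[],[29,26],[],[],[30],[],[32],[],[],[],[],[],[],[],[38,42],[],[40,46],[],[],[],[],[],[45],[],[47],[],[],[],[]],
  [[5],[6],[],[],[],[],[],[13,2],[14,4],[],[],[],[],[],[],[],[25],[26],[28,23],[29,24],[],[30],[31],[],[],[],[],[],[],[],[],[],[],[39,43],[40,45],[],[],[],[],[],[],[46],[47],[],[],[],[],[]],
  [[],[],[],[7],[8,15],[9,16],[10,17],[],[],[],[],[18],[19],[20],[],[],[],[],[],[],[],[],[],[],[],[],[],[34],[35],[36],[37,41],[38,42],[39,43],[],[],[],[],[],[],[],[44],[],[],[],[],[],[],[]],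
  [[],[],[7,15],[8],[],[11,21],[12,22],[],[],[18],[19],[],[],[],[27],[],[],[],[],[],[33],[],[],[],[],[35,41],[36,42],[],[37],[38],[],[],[40,45],[],[],[],[],[],[],[44],[],[],[],[],[],[],[],[]],
  [[],[7,16],[],[9],[11,23],[],[13,25],[],[18],[],[20],[],[],[],[28],[],[],[],[],[33],[],[],[34,41],[],[36,43],[],[],[37],[],[39],[],[40,46],[],[],[],[],[],[],[44],[],[],[],[],[],[],[],[],[]],
  [[7,17],[],[],[10],[12,24],[13,26],[],[],[19],[20],[],[],[],[],[29],[],[],[],[33],[],[],[34,42],[],[35,43],[],[],[],[38],[39],[],[40,47],[],[],[],[],[],[],[44],[],[],[],[],[],[],[],[],[],[]],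
  [[],[8,21],[9,23],[11],[],[],[14,30],[18],[],[],[],[],[27],[28],[],[],[],[33,41],[],[34],[35],[],[],[],[38,45],[],[39,46],[],[],[40],[],[],[],[],[],[],[44],[],[],[],[],[],[],[],[],[],[],[]],
  [[8,22],[],[10,24],[12],[],[14,31],[],[19],[],[],[],[27],[],[29],[],[],[33,42],[],[34],[],[36],[],[],[37,45],[],[39,47],[],[],[40],[],[],[],[],[],[],[44],[],[],[],[],[],[],[],[],[],[],[],[]],
  [[9,25],[10,26],[],[13],[14,32],[],[],[20],[],[],[],[28],[29],[],[],[33,43],[],[],[35],[36],[],[37,46],[38,47],[],[],[],[],[40],[],[],[],[],[],[],[44],[],[],[],[],[],[],[],[],[],[],[],[],[]],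
  [[11,30],[12,31],[13,32],[14],[],[],[],[],[27],[28],[29],[],[],[],[],[34,45],[35,46],[36,47],[37],[38],[39],[],[],[],[],[],[],[],[],[],[],[],[],[44],[],[],[],[],[],[],[],[],[],[],[],[],[],[]],
  [[],[15],[16],[18,0],[21],[23],[],[],[],[],[33,17],[],[34,22],[35,25],[37,30],[],[],[],[],[],[],[],[],[],[42],[],[43],[],[],[44,47],[],[45],[46],[],[],[],[],[],[],[],[],[],[],[],[],[],[],[]],
  [[15],[],[17],[19,1],[22],[],[24],[],[],[33,16],[],[34,21],[],[36,26],[38,31],[],[],[],[],[],[],[],[],[41],[],[43],[],[],[44,46],[],[45],[],[47],[],[],[],[],[],[],[],[],[],[],[],[],[],[],[]],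
  [[16],[17],[],[20,2],[],[25],[26],[],[33,15],[],[],[35,23],[36,24],[],[39,32],[],[],[],[],[],[],[41],[42],[],[],[],[],[44,45],[],[],[46],[47],[],[],[],[],[],[],[],[],[],[],[],[],[],[],[],[]],
  [[18,41],[19,42],[20,43],[],[27,45],[28,46],[29,47],[33],[34],[35],[36],[37],[38],[39],[40],[],[],[],[],[],[],[],[],[],[],[],[],[],[],[],[],[],[],[],[],[],[],[],[],[],[],[],[],[],[],[],[],[]],
  [[21],[22],[],[27,4],[],[30],[31],[34,15],[],[37,23],[38,24],[],[],[40,32],[],[],[41],[42],[],[],[44,43],[],[],[],[],[46],[47],[],[],[],[],[],[],[],[],[],[],[],[],[],[],[],[],[],[],[],[],[]],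
  [[23],[],[25],[28,5],[30],[],[32],[35,16],[37,21],[],[39,26],[],[40,31],[],[],[41],[],[43],[],[44,42],[],[],[45],[],[47],[],[],[],[],[],[],[],[],[],[],[],[],[],[],[],[],[],[],[],[],[],[],[]],
  [[],[24],[26],[29,6],[31],[32],[],[36,17],[38,22],[39,25],[],[40,30],[],[],[],[42],[43],[],[44,41],[],[],[45],[],[46],[],[],[],[],[],[],[],[],[],[],[],[],[],[],[],[],[],[],[],[],[],[],[],[]]]

/-- The tables. -/
def tab : Tab 48 where
  word r s := (wordRows.getD r.val []).getD s.val []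
  neg r := ⟨47 - r.val, by omega⟩

/-- Steps for commuting lifts, part 0. -/
def nears0 : List (Near 48) := [
  .dec 0 1 2 22 [] [],
  .dec 0 2 1 25 [] [],
  .dec 0 3 4 20 [] [2],
  .dec 0 4 1 30 [] [],
  .dec 0 5 1 28 [3] [],
  .dec 0 7 3 33 [] [],
  .dec 0 8 3 34 [] [],
  .dec 0 9 3 35 [] [],
  .dec 0 10 12 20 [] [],
  .dec 0 11 3 37 [] [],
  .dec 0 12 10 27 [] [],
  .dec 0 13 10 28 [] [],
  .dec 0 14 12 28 [] [],
  .dec 0 15 1 41 [] [],
  .dec 0 16 1 35 [7] [],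
  .dec 0 17 6 33 [10] [],
  .dec 0 18 7 37 [] [],
  .dec 0 19 10 34 [] [],
  .dec 0 20 10 35 [] [],
  .dec 0 21 1 37 [8] [],
  .dec 0 22 6 34 [12] [],
  .dec 0 23 2 37 [9] [],
  .dec 0 25 6 35 [13] [],
  .dec 0 27 12 37 [] [],
  .dec 0 28 13 37 [] [],
  .dec 0 30 6 37 [14] [],
  .dec 0 33 10 41 [] [17],
  .dec 0 34 12 41 [] [22],
  .dec 0 35 13 41 [] [25],
  .dec 0 37 14 41 [] [30],
  .dec 0 41 17 37 [33] [],
  .symm 1 0,
  .dec 1 2 0 26 [] [],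
  .dec 1 3 4 20 [] [2],
  .dec 1 4 0 31 [] [],
  .dec 1 6 0 29 [3] [],
  .dec 1 7 3 33 [] [],
  .dec 1 8 3 34 [] [],
  .dec 1 9 11 20 [] [],
  .dec 1 10 3 36 [] [],
  .dec 1 11 9 27 [] [],
  .dec 1 12 3 38 [] [],
  .dec 1 13 9 29 [] [],
  .dec 1 14 11 29 [] [],
  .dec 1 15 0 42 [] [],
  .dec 1 16 5 33 [9] [],
  .dec 1 17 0 36 [7] [],
  .dec 1 18 9 34 [] [],
  .dec 1 19 7 38 [] [],
  .dec 1 20 9 36 [] [],
  .dec 1 21 5 34 [11] [],
  .dec 1 22 0 38 [8] [],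
  .dec 1 24 2 38 [10] [],
  .dec 1 26 5 36 [13] [],
  .dec 1 27 11 38 [] [],
  .dec 1 29 13 38 [] [],
  .dec 1 31 5 38 [14] [],
  .dec 1 33 9 42 [] [16],
  .dec 1 34 11 42 [] [21],
  .dec 1 36 13 42 [] [26],
  .dec 1 38 14 42 [] [31],
  .dec 1 42 16 38 [33] [],
  .symm 2 0,
  .symm 2 1,
  .dec 2 3 5 19 [] [1],
  .dec 2 5 0 32 [] [],
  .dec 2 6 0 29 [3] [],
  .dec 2 7 3 33 [] [],
  .dec 2 8 11 19 [] [],
  .dec 2 9 3 35 [] [],
  .dec 2 10 3 36 [] [],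
  .dec 2 11 8 28 [] [],
  .dec 2 12 8 29 [] [],
  .dec 2 13 3 39 [] [],
  .dec 2 14 11 29 [] [],
  .dec 2 15 4 33 [8] [],
  .dec 2 16 0 43 [] [],
  .dec 2 17 0 36 [7] [],
  .dec 2 18 8 35 [] [],
  .dec 2 19 8 36 [] [],
  .dec 2 20 7 39 [] [],
  .dec 2 23 4 35 [11] [],
  .dec 2 24 4 36 [12] [],
  .dec 2 25 0 39 [9] [],
  .dec 2 26 1 39 [10] [],
  .dec 2 28 11 39 [] [],
  .dec 2 29 12 39 [] [],
  .dec 2 32 4 39 [14] [],
  .dec 2 33 8 43 [] [15],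
  .dec 2 35 11 43 [] [23],
  .dec 2 36 12 43 [] [24],
  .dec 2 39 14 43 [] [32],
  .dec 2 43 15 39 [33] [],
  .symm 3 0,
  .symm 3 1,
  .symm 3 2,
  .dec 3 4 0 31 [] [],
  .dec 3 5 0 32 [] [],
  .dec 3 6 1 32 [] [],
  .dec 3 7 8 20 [] [],
  .dec 3 8 7 27 [] [],
  .dec 3 9 7 28 [] [],
  .dec 3 10 7 29 [] [],
  .dec 3 11 7 30 [] [0],
  .dec 3 12 7 31 [] [1],
  .dec 3 13 7 32 [] [2],
  .dec 3 14 8 32 [] [4],
  .dec 3 15 16 22 [] [],
  .dec 3 16 15 25 [] [],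
  .dec 3 17 15 26 [] [],
  .dec 3 18 19 23 [] [15],
  .dec 3 19 18 24 [] [15],
  .dec 3 20 18 26 [] [16],
  .dec 3 21 15 30 [] [],
  .dec 3 22 15 31 [] [],
  .dec 3 23 15 28 [18] [],
  .dec 3 24 15 29 [19] [],
  .dec 3 25 16 32 [] [],
  .dec 3 26 16 29 [20] [],
  .dec 3 27 18 31 [] [21]]

/-- Steps for commuting lifts, part 1. -/
def nears1 : List (Near 48) := [
  .dec 3 28 18 32 [] [23],
  .dec 3 29 19 32 [] [24],
  .dec 3 30 21 32 [] [],
  .dec 3 31 21 29 [27] [],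
  .dec 3 32 23 29 [28] [],
  .symm 4 0,
  .symm 4 1,
  .symm 4 3,
  .dec 4 5 0 32 [] [],
  .dec 4 6 0 29 [3] [],
  .dec 4 7 9 19 [] [],
  .dec 4 8 3 34 [] [],
  .dec 4 9 7 28 [] [],
  .dec 4 10 7 29 [] [],
  .dec 4 11 3 37 [] [],
  .dec 4 12 3 38 [] [],
  .dec 4 13 9 29 [] [],
  .dec 4 14 3 40 [] [],
  .dec 4 15 2 34 [7] [],
  .dec 4 18 7 37 [] [],
  .dec 4 19 7 38 [] [],
  .dec 4 21 0 45 [] [],
  .dec 4 22 0 38 [8] [],
  .dec 4 23 2 37 [9] [],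
  .dec 4 24 2 38 [10] [],
  .dec 4 27 8 40 [] [],
  .dec 4 28 9 40 [] [],
  .dec 4 29 10 40 [] [],
  .dec 4 30 0 40 [11] [],
  .dec 4 31 1 40 [12] [],
  .dec 4 32 2 40 [13] [],
  .dec 4 34 7 45 [] [15],
  .dec 4 37 9 45 [] [23],
  .dec 4 38 10 45 [] [24],
  .dec 4 40 13 45 [] [32],
  .dec 4 45 15 40 [34] [],
  .symm 5 0,
  .symm 5 2,
  .symm 5 3,
  .symm 5 4,
  .dec 5 6 0 29 [3] [],
  .dec 5 7 8 20 [] [],
  .dec 5 8 7 27 [] [],
  .dec 5 9 3 35 [] [],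
  .dec 5 10 7 29 [] [],
  .dec 5 11 3 37 [] [],
  .dec 5 12 8 29 [] [],
  .dec 5 13 3 39 [] [],
  .dec 5 14 3 40 [] [],
  .dec 5 16 1 35 [7] [],
  .dec 5 18 7 37 [] [],
  .dec 5 20 7 39 [] [],
  .dec 5 21 1 37 [8] [],
  .dec 5 23 0 46 [] [],
  .dec 5 25 0 39 [9] [],
  .dec 5 26 1 39 [10] [],
  .dec 5 27 8 40 [] [],
  .dec 5 28 9 40 [] [],
  .dec 5 29 10 40 [] [],
  .dec 5 30 0 40 [11] [],
  .dec 5 31 1 40 [12] [],
  .dec 5 32 2 40 [13] [],
  .dec 5 35 7 46 [] [16],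
  .dec 5 37 8 46 [] [21],
  .dec 5 39 10 46 [] [26],
  .dec 5 40 12 46 [] [31],
  .dec 5 46 16 40 [35] [],
  .symm 6 1,
  .symm 6 2,
  .symm 6 3,
  .symm 6 4,
  .symm 6 5,
  .dec 6 7 8 20 [] [],
  .dec 6 8 7 27 [] [],
  .dec 6 9 7 28 [] [],
  .dec 6 10 3 36 [] [],
  .dec 6 11 8 28 [] [],
  .dec 6 12 3 38 [] [],
  .dec 6 13 3 39 [] [],
  .dec 6 14 3 40 [] [],
  .dec 6 17 0 36 [7] [],
  .dec 6 19 7 38 [] [],
  .dec 6 20 7 39 [] [],
  .dec 6 22 0 38 [8] [],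
  .dec 6 24 1 47 [] [],
  .dec 6 25 0 39 [9] [],
  .dec 6 26 1 39 [10] [],
  .dec 6 27 8 40 [] [],
  .dec 6 28 9 40 [] [],
  .dec 6 29 10 40 [] [],
  .dec 6 30 0 40 [11] [],
  .dec 6 31 1 40 [12] [],
  .dec 6 32 2 40 [13] [],
  .dec 6 36 7 47 [] [17],
  .dec 6 38 8 47 [] [22],
  .dec 6 39 9 47 [] [25],
  .dec 6 40 11 47 [] [30],
  .dec 6 47 17 40 [36] [],
  .symm 7 0,
  .symm 7 1,
  .symm 7 2,
  .symm 7 3,
  .symm 7 4,
  .symm 7 5,
  .symm 7 6,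
  .dec 7 8 3 34 [] [],
  .dec 7 9 3 35 [] [],
  .dec 7 10 3 36 [] [],
  .dec 7 11 12 23 [] [4],
  .dec 7 12 11 24 [] [4],
  .dec 7 13 11 26 [] [5],
  .dec 7 15 0 42 [] [],
  .dec 7 16 0 43 [] [],
  .dec 7 17 1 43 [] [],
  .dec 7 18 3 41 [] [0],
  .dec 7 19 3 42 [] [1],
  .dec 7 20 3 43 [] [2],
  .dec 7 21 4 41 [] [],
  .dec 7 22 4 42 [] [],
  .dec 7 23 4 35 [11] []]

/-- Steps for commuting lifts, part 2. -/
def nears2 : List (Near 48) := [
  .dec 7 24 4 36 [12] [],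
  .dec 7 25 5 43 [] [],
  .dec 7 26 5 36 [13] [],
  .dec 7 33 8 43 [] [15],
  .dec 7 34 11 42 [] [21],
  .dec 7 35 11 43 [] [23],
  .dec 7 36 12 43 [] [24],
  .dec 7 41 21 43 [] [],
  .dec 7 42 21 36 [34] [],
  .dec 7 43 23 36 [35] [],
  .symm 8 0,
  .symm 8 1,
  .symm 8 2,
  .symm 8 3,
  .symm 8 4,
  .symm 8 5,
  .symm 8 6,
  .symm 8 7,
  .dec 8 9 10 23 [] [2],
  .dec 8 10 9 24 [] [2],
  .dec 8 11 3 37 [] [],
  .dec 8 12 3 38 [] [],
  .dec 8 14 9 31 [] [5],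
  .dec 8 15 0 42 [] [],
  .dec 8 16 2 41 [] [],
  .dec 8 17 2 42 [] [],
  .dec 8 18 3 41 [] [0],
  .dec 8 19 3 42 [] [1],
  .dec 8 21 0 45 [] [],
  .dec 8 22 1 45 [] [],
  .dec 8 23 2 37 [9] [],
  .dec 8 24 2 38 [10] [],
  .dec 8 27 3 45 [] [4],
  .dec 8 30 5 45 [] [],
  .dec 8 31 5 38 [14] [],
  .dec 8 33 9 42 [] [16],
  .dec 8 34 7 45 [] [15],
  .dec 8 37 9 45 [] [23],
  .dec 8 38 10 45 [] [24],
  .dec 8 41 16 45 [] [],
  .dec 8 42 16 38 [33] [],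
  .dec 8 45 23 38 [37] [],
  .symm 9 0,
  .symm 9 1,
  .symm 9 2,
  .symm 9 3,
  .symm 9 4,
  .symm 9 5,
  .symm 9 6,
  .symm 9 7,
  .symm 9 8,
  .dec 9 10 8 26 [] [1],
  .dec 9 11 3 37 [] [],
  .dec 9 13 3 39 [] [],
  .dec 9 14 8 32 [] [4],
  .dec 9 15 1 41 [] [],
  .dec 9 16 0 43 [] [],
  .dec 9 17 1 43 [] [],
  .dec 9 18 3 41 [] [0],
  .dec 9 20 3 43 [] [2],
  .dec 9 21 1 37 [8] [],
  .dec 9 23 0 46 [] [],
  .dec 9 25 2 46 [] [],
  .dec 9 26 1 39 [10] [],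
  .dec 9 28 3 46 [] [5],
  .dec 9 30 4 46 [] [],
  .dec 9 32 4 39 [14] [],
  .dec 9 33 8 43 [] [15],
  .dec 9 35 7 46 [] [16],
  .dec 9 37 8 46 [] [21],
  .dec 9 39 10 46 [] [26],
  .dec 9 41 15 46 [] [],
  .dec 9 43 15 39 [33] [],
  .dec 9 46 21 39 [37] [],
  .symm 10 0,
  .symm 10 1,
  .symm 10 2,
  .symm 10 3,
  .symm 10 4,
  .symm 10 5,
  .symm 10 6,
  .symm 10 7,
  .symm 10 8,
  .symm 10 9,
  .dec 10 12 3 38 [] [],
  .dec 10 13 3 39 [] [],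
  .dec 10 14 8 32 [] [4],
  .dec 10 15 0 42 [] [],
  .dec 10 16 0 43 [] [],
  .dec 10 17 0 36 [7] [],
  .dec 10 19 3 42 [] [1],
  .dec 10 20 3 43 [] [2],
  .dec 10 22 0 38 [8] [],
  .dec 10 24 1 47 [] [],
  .dec 10 25 0 39 [9] [],
  .dec 10 26 2 47 [] [],
  .dec 10 29 3 47 [] [6],
  .dec 10 31 4 47 [] [],
  .dec 10 32 4 39 [14] [],
  .dec 10 33 8 43 [] [15],
  .dec 10 36 7 47 [] [17],
  .dec 10 38 8 47 [] [22],
  .dec 10 39 9 47 [] [25],
  .dec 10 42 15 47 [] [],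
  .dec 10 43 15 39 [33] [],
  .dec 10 47 22 39 [38] [],
  .symm 11 0,
  .symm 11 1,
  .symm 11 2,
  .symm 11 3,
  .symm 11 4,
  .symm 11 5,
  .symm 11 6,
  .symm 11 7,
  .symm 11 8,
  .symm 11 9,
  .dec 11 12 7 31 [] [1],
  .dec 11 13 7 32 [] [2],
  .dec 11 14 3 40 [] [],
  .dec 11 15 1 41 [] []]

/-- Steps for commuting lifts, part 3. -/
def nears3 : List (Near 48) := [
  .dec 11 16 1 35 [7] [],
  .dec 11 18 3 41 [] [0],
  .dec 11 21 0 45 [] [],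
  .dec 11 22 1 45 [] [],
  .dec 11 23 0 46 [] [],
  .dec 11 25 2 46 [] [],
  .dec 11 27 3 45 [] [4],
  .dec 11 28 3 46 [] [5],
  .dec 11 30 4 46 [] [],
  .dec 11 31 1 40 [12] [],
  .dec 11 32 2 40 [13] [],
  .dec 11 34 7 45 [] [15],
  .dec 11 35 7 46 [] [16],
  .dec 11 37 8 46 [] [21],
  .dec 11 40 12 46 [] [31],
  .dec 11 41 15 46 [] [],
  .dec 11 45 15 40 [34] [],
  .dec 11 46 16 40 [35] [],
  .symm 12 0,
  .symm 12 1,
  .symm 12 2,
  .symm 12 3,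
  .symm 12 4,
  .symm 12 5,
  .symm 12 6,
  .symm 12 7,
  .symm 12 8,
  .symm 12 10,
  .symm 12 11,
  .dec 12 13 7 32 [] [2],
  .dec 12 14 3 40 [] [],
  .dec 12 15 0 42 [] [],
  .dec 12 17 0 36 [7] [],
  .dec 12 19 3 42 [] [1],
  .dec 12 21 0 45 [] [],
  .dec 12 22 0 38 [8] [],
  .dec 12 24 1 47 [] [],
  .dec 12 26 2 47 [] [],
  .dec 12 27 3 45 [] [4],
  .dec 12 29 3 47 [] [6],
  .dec 12 30 0 40 [11] [],
  .dec 12 31 4 47 [] [],
  .dec 12 32 2 40 [13] [],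
  .dec 12 34 7 45 [] [15],
  .dec 12 36 7 47 [] [17],
  .dec 12 38 8 47 [] [22],
  .dec 12 40 11 47 [] [30],
  .dec 12 42 15 47 [] [],
  .dec 12 45 15 40 [34] [],
  .dec 12 47 17 40 [36] [],
  .symm 13 0,
  .symm 13 1,
  .symm 13 2,
  .symm 13 3,
  .symm 13 4,
  .symm 13 5,
  .symm 13 6,
  .symm 13 7,
  .symm 13 9,
  .symm 13 10,
  .symm 13 11,
  .symm 13 12,
  .dec 13 14 3 40 [] [],
  .dec 13 16 0 43 [] [],
  .dec 13 17 0 36 [7] [],
  .dec 13 20 3 43 [] [2],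
  .dec 13 23 0 46 [] [],
  .dec 13 24 1 47 [] [],
  .dec 13 25 0 39 [9] [],
  .dec 13 26 1 39 [10] [],
  .dec 13 28 3 46 [] [5],
  .dec 13 29 3 47 [] [6],
  .dec 13 30 0 40 [11] [],
  .dec 13 31 1 40 [12] [],
  .dec 13 32 4 39 [14] [],
  .dec 13 35 7 46 [] [16],
  .dec 13 36 7 47 [] [17],
  .dec 13 39 9 47 [] [25],
  .dec 13 40 11 47 [] [30],
  .dec 13 43 16 47 [] [],
  .dec 13 46 16 40 [35] [],
  .dec 13 47 17 40 [36] [],
  .symm 14 0,
  .symm 14 1,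
  .symm 14 2,
  .symm 14 3,
  .symm 14 4,
  .symm 14 5,
  .symm 14 6,
  .symm 14 8,
  .symm 14 9,
  .symm 14 10,
  .symm 14 11,
  .symm 14 12,
  .symm 14 13,
  .dec 14 21 0 45 [] [],
  .dec 14 22 0 38 [8] [],
  .dec 14 23 0 46 [] [],
  .dec 14 24 1 47 [] [],
  .dec 14 25 0 39 [9] [],
  .dec 14 26 1 39 [10] [],
  .dec 14 27 3 45 [] [4],
  .dec 14 28 3 46 [] [5],
  .dec 14 29 3 47 [] [6],
  .dec 14 30 0 40 [11] [],
  .dec 14 31 1 40 [12] [],
  .dec 14 32 2 40 [13] [],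
  .dec 14 37 8 46 [] [21],
  .dec 14 38 8 47 [] [22],
  .dec 14 39 9 47 [] [25],
  .dec 14 40 11 47 [] [30],
  .dec 14 45 21 47 [] [],
  .dec 14 46 21 39 [37] [],
  .dec 14 47 22 39 [38] [],
  .symm 15 0,
  .symm 15 1,
  .symm 15 2,
  .symm 15 3,
  .symm 15 4,
  .symm 15 7]

/-- Steps for commuting lifts, part 4. -/
def nears4 : List (Near 48) := [
  .symm 15 8,
  .symm 15 9,
  .symm 15 10,
  .symm 15 11,
  .symm 15 12,
  .dec 15 16 0 43 [] [],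
  .dec 15 17 0 36 [7] [],
  .dec 15 18 3 41 [] [0],
  .dec 15 19 3 42 [] [1],
  .dec 15 20 3 43 [] [2],
  .dec 15 21 0 45 [] [],
  .dec 15 22 0 38 [8] [],
  .dec 15 23 2 37 [9] [],
  .dec 15 24 2 38 [10] [],
  .dec 15 27 3 45 [] [4],
  .dec 15 33 7 44 [] [],
  .dec 15 34 8 44 [] [],
  .dec 15 35 9 44 [] [],
  .dec 15 36 10 44 [] [],
  .dec 15 37 9 45 [] [23],
  .dec 15 38 10 45 [] [24],
  .dec 15 41 0 44 [18] [],
  .dec 15 42 1 44 [19] [],
  .dec 15 43 2 44 [20] [],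
  .dec 15 44 20 45 [] [43],
  .dec 15 45 4 44 [27] [],
  .symm 16 0,
  .symm 16 1,
  .symm 16 2,
  .symm 16 3,
  .symm 16 5,
  .symm 16 7,
  .symm 16 8,
  .symm 16 9,
  .symm 16 10,
  .symm 16 11,
  .symm 16 13,
  .symm 16 15,
  .dec 16 17 0 36 [7] [],
  .dec 16 18 3 41 [] [0],
  .dec 16 19 3 42 [] [1],
  .dec 16 20 3 43 [] [2],
  .dec 16 21 1 37 [8] [],
  .dec 16 23 0 46 [] [],
  .dec 16 25 0 39 [9] [],
  .dec 16 26 1 39 [10] [],
  .dec 16 28 3 46 [] [5],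
  .dec 16 33 7 44 [] [],
  .dec 16 34 8 44 [] [],
  .dec 16 35 9 44 [] [],
  .dec 16 36 10 44 [] [],
  .dec 16 37 8 46 [] [21],
  .dec 16 39 10 46 [] [26],
  .dec 16 41 0 44 [18] [],
  .dec 16 42 1 44 [19] [],
  .dec 16 43 2 44 [20] [],
  .dec 16 44 19 46 [] [42],
  .dec 16 46 5 44 [28] [],
  .symm 17 0,
  .symm 17 1,
  .symm 17 2,
  .symm 17 3,
  .symm 17 6,
  .symm 17 7,
  .symm 17 8,
  .symm 17 9,
  .symm 17 10,
  .symm 17 12,
  .symm 17 13,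
  .symm 17 15,
  .symm 17 16,
  .dec 17 18 3 41 [] [0],
  .dec 17 19 3 42 [] [1],
  .dec 17 20 3 43 [] [2],
  .dec 17 22 0 38 [8] [],
  .dec 17 24 1 47 [] [],
  .dec 17 25 0 39 [9] [],
  .dec 17 26 1 39 [10] [],
  .dec 17 29 3 47 [] [6],
  .dec 17 33 7 44 [] [],
  .dec 17 34 8 44 [] [],
  .dec 17 35 9 44 [] [],
  .dec 17 36 10 44 [] [],
  .dec 17 38 8 47 [] [22],
  .dec 17 39 9 47 [] [25],
  .dec 17 41 0 44 [18] [],
  .dec 17 42 1 44 [19] [],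
  .dec 17 43 2 44 [20] [],
  .dec 17 44 18 47 [] [41],
  .dec 17 47 6 44 [29] [],
  .symm 18 0,
  .symm 18 1,
  .symm 18 2,
  .symm 18 3,
  .symm 18 4,
  .symm 18 5,
  .symm 18 7,
  .symm 18 8,
  .symm 18 9,
  .symm 18 11,
  .symm 18 15,
  .symm 18 16,
  .symm 18 17,
  .dec 18 19 3 42 [] [1],
  .dec 18 20 3 43 [] [2],
  .dec 18 21 0 45 [] [],
  .dec 18 22 1 45 [] [],
  .dec 18 23 0 46 [] [],
  .dec 18 25 2 46 [] [],
  .dec 18 27 3 45 [] [4],
  .dec 18 28 3 46 [] [5],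
  .dec 18 30 4 46 [] [],
  .dec 18 33 7 44 [] [],
  .dec 18 34 7 45 [] [15],
  .dec 18 35 7 46 [] [16],
  .dec 18 37 8 46 [] [21],
  .dec 18 41 15 46 [] [],
  .dec 18 42 1 44 [19] [],
  .dec 18 43 2 44 [20] [],
  .dec 18 44 19 46 [] [42]]

/-- Steps for commuting lifts, part 5. -/
def nears5 : List (Near 48) := [
  .dec 18 45 4 44 [27] [],
  .dec 18 46 5 44 [28] [],
  .symm 19 0,
  .symm 19 1,
  .symm 19 2,
  .symm 19 3,
  .symm 19 4,
  .symm 19 6,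
  .symm 19 7,
  .symm 19 8,
  .symm 19 10,
  .symm 19 12,
  .symm 19 15,
  .symm 19 16,
  .symm 19 17,
  .symm 19 18,
  .dec 19 20 3 43 [] [2],
  .dec 19 21 0 45 [] [],
  .dec 19 22 0 38 [8] [],
  .dec 19 24 1 47 [] [],
  .dec 19 26 2 47 [] [],
  .dec 19 27 3 45 [] [4],
  .dec 19 29 3 47 [] [6],
  .dec 19 31 4 47 [] [],
  .dec 19 33 7 44 [] [],
  .dec 19 34 7 45 [] [15],
  .dec 19 36 7 47 [] [17],
  .dec 19 38 8 47 [] [22],
  .dec 19 41 0 44 [18] [],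
  .dec 19 42 15 47 [] [],
  .dec 19 43 2 44 [20] [],
  .dec 19 44 18 47 [] [41],
  .dec 19 45 4 44 [27] [],
  .dec 19 47 6 44 [29] [],
  .symm 20 0,
  .symm 20 1,
  .symm 20 2,
  .symm 20 3,
  .symm 20 5,
  .symm 20 6,
  .symm 20 7,
  .symm 20 9,
  .symm 20 10,
  .symm 20 13,
  .symm 20 15,
  .symm 20 16,
  .symm 20 17,
  .symm 20 18,
  .symm 20 19,
  .dec 20 23 0 46 [] [],
  .dec 20 24 1 47 [] [],
  .dec 20 25 0 39 [9] [],
  .dec 20 26 1 39 [10] [],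
  .dec 20 28 3 46 [] [5],
  .dec 20 29 3 47 [] [6],
  .dec 20 32 5 47 [] [],
  .dec 20 33 7 44 [] [],
  .dec 20 35 7 46 [] [16],
  .dec 20 36 7 47 [] [17],
  .dec 20 39 9 47 [] [25],
  .dec 20 41 0 44 [18] [],
  .dec 20 42 1 44 [19] [],
  .dec 20 43 15 39 [33] [],
  .dec 20 44 18 47 [] [41],
  .dec 20 46 5 44 [28] [],
  .dec 20 47 6 44 [29] [],
  .symm 21 0,
  .symm 21 1,
  .symm 21 3,
  .symm 21 4,
  .symm 21 5,
  .symm 21 7,
  .symm 21 8,
  .symm 21 9,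
  .symm 21 11,
  .symm 21 12,
  .symm 21 14,
  .symm 21 15,
  .symm 21 16,
  .symm 21 18,
  .symm 21 19,
  .dec 21 22 0 38 [8] [],
  .dec 21 23 0 46 [] [],
  .dec 21 27 3 45 [] [4],
  .dec 21 28 3 46 [] [5],
  .dec 21 30 0 40 [11] [],
  .dec 21 31 1 40 [12] [],
  .dec 21 33 7 44 [] [],
  .dec 21 34 7 45 [] [15],
  .dec 21 35 7 46 [] [16],
  .dec 21 37 9 45 [] [23],
  .dec 21 38 12 44 [] [],
  .dec 21 40 12 46 [] [31],
  .dec 21 41 0 44 [18] [],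
  .dec 21 42 1 44 [19] [],
  .dec 21 44 19 46 [] [42],
  .dec 21 45 4 44 [27] [],
  .dec 21 46 5 44 [28] [],
  .symm 22 0,
  .symm 22 1,
  .symm 22 3,
  .symm 22 4,
  .symm 22 6,
  .symm 22 7,
  .symm 22 8,
  .symm 22 10,
  .symm 22 11,
  .symm 22 12,
  .symm 22 14,
  .symm 22 15,
  .symm 22 17,
  .symm 22 18,
  .symm 22 19,
  .symm 22 21,
  .dec 22 24 1 47 [] [],
  .dec 22 27 3 45 [] [4],
  .dec 22 29 3 47 [] [6],
  .dec 22 30 0 40 [11] [],
  .dec 22 31 1 40 [12] [],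
  .dec 22 33 7 44 [] []]

/-- Steps for commuting lifts, part 6. -/
def nears6 : List (Near 48) := [
  .dec 22 34 7 45 [] [15],
  .dec 22 36 7 47 [] [17],
  .dec 22 37 11 44 [] [],
  .dec 22 38 10 45 [] [24],
  .dec 22 40 11 47 [] [30],
  .dec 22 41 0 44 [18] [],
  .dec 22 42 1 44 [19] [],
  .dec 22 44 18 47 [] [41],
  .dec 22 45 4 44 [27] [],
  .dec 22 47 6 44 [29] [],
  .symm 23 0,
  .symm 23 2,
  .symm 23 3,
  .symm 23 4,
  .symm 23 5,
  .symm 23 7,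
  .symm 23 8,
  .symm 23 9,
  .symm 23 11,
  .symm 23 13,
  .symm 23 14,
  .symm 23 15,
  .symm 23 16,
  .symm 23 18,
  .symm 23 20,
  .symm 23 21,
  .dec 23 25 0 39 [9] [],
  .dec 23 27 3 45 [] [4],
  .dec 23 28 3 46 [] [5],
  .dec 23 30 0 40 [11] [],
  .dec 23 32 2 40 [13] [],
  .dec 23 33 7 44 [] [],
  .dec 23 34 7 45 [] [15],
  .dec 23 35 7 46 [] [16],
  .dec 23 37 8 46 [] [21],
  .dec 23 39 13 44 [] [],
  .dec 23 40 13 45 [] [32],
  .dec 23 41 0 44 [18] [],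
  .dec 23 43 2 44 [20] [],
  .dec 23 44 20 45 [] [43],
  .dec 23 45 4 44 [27] [],
  .dec 23 46 5 44 [28] [],
  .symm 24 1,
  .symm 24 2,
  .symm 24 3,
  .symm 24 4,
  .symm 24 6,
  .symm 24 7,
  .symm 24 8,
  .symm 24 10,
  .symm 24 12,
  .symm 24 13,
  .symm 24 14,
  .symm 24 15,
  .symm 24 17,
  .symm 24 19,
  .symm 24 20,
  .symm 24 22,
  .dec 24 26 1 39 [10] [],
  .dec 24 27 3 45 [] [4],
  .dec 24 29 3 47 [] [6],
  .dec 24 31 1 40 [12] [],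
  .dec 24 32 2 40 [13] [],
  .dec 24 33 7 44 [] [],
  .dec 24 34 7 45 [] [15],
  .dec 24 36 7 47 [] [17],
  .dec 24 38 8 47 [] [22],
  .dec 24 39 13 44 [] [],
  .dec 24 40 13 45 [] [32],
  .dec 24 42 1 44 [19] [],
  .dec 24 43 2 44 [20] [],
  .dec 24 44 20 45 [] [43],
  .dec 24 45 4 44 [27] [],
  .dec 24 47 6 44 [29] [],
  .symm 25 0,
  .symm 25 2,
  .symm 25 3,
  .symm 25 5,
  .symm 25 6,
  .symm 25 7,
  .symm 25 9,
  .symm 25 10,
  .symm 25 11,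
  .symm 25 13,
  .symm 25 14,
  .symm 25 16,
  .symm 25 17,
  .symm 25 18,
  .symm 25 20,
  .symm 25 23,
  .dec 25 26 2 47 [] [],
  .dec 25 28 3 46 [] [5],
  .dec 25 29 3 47 [] [6],
  .dec 25 30 0 40 [11] [],
  .dec 25 32 2 40 [13] [],
  .dec 25 33 7 44 [] [],
  .dec 25 35 7 46 [] [16],
  .dec 25 36 7 47 [] [17],
  .dec 25 37 11 44 [] [],
  .dec 25 39 10 46 [] [26],
  .dec 25 40 11 47 [] [30],
  .dec 25 41 0 44 [18] [],
  .dec 25 43 2 44 [20] [],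
  .dec 25 44 18 47 [] [41],
  .dec 25 46 5 44 [28] [],
  .dec 25 47 6 44 [29] [],
  .symm 26 1,
  .symm 26 2,
  .symm 26 3,
  .symm 26 5,
  .symm 26 6,
  .symm 26 7,
  .symm 26 9,
  .symm 26 10,
  .symm 26 12,
  .symm 26 13,
  .symm 26 14,
  .symm 26 16,
  .symm 26 17,
  .symm 26 19]

/-- Steps for commuting lifts, part 7. -/
def nears7 : List (Near 48) := [
  .symm 26 20,
  .symm 26 24,
  .symm 26 25,
  .dec 26 28 3 46 [] [5],
  .dec 26 29 3 47 [] [6],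
  .dec 26 31 1 40 [12] [],
  .dec 26 32 2 40 [13] [],
  .dec 26 33 7 44 [] [],
  .dec 26 35 7 46 [] [16],
  .dec 26 36 7 47 [] [17],
  .dec 26 38 12 44 [] [],
  .dec 26 39 9 47 [] [25],
  .dec 26 40 12 46 [] [31],
  .dec 26 42 1 44 [19] [],
  .dec 26 43 2 44 [20] [],
  .dec 26 44 19 46 [] [42],
  .dec 26 46 5 44 [28] [],
  .dec 26 47 6 44 [29] [],
  .symm 27 0,
  .symm 27 1,
  .symm 27 3,
  .symm 27 4,
  .symm 27 5,
  .symm 27 6,
  .symm 27 8,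
  .symm 27 11,
  .symm 27 12,
  .symm 27 14,
  .symm 27 15,
  .symm 27 18,
  .symm 27 19,
  .symm 27 21,
  .symm 27 22,
  .symm 27 23,
  .symm 27 24,
  .dec 27 28 3 46 [] [5],
  .dec 27 29 3 47 [] [6],
  .dec 27 30 0 40 [11] [],
  .dec 27 31 1 40 [12] [],
  .dec 27 32 5 47 [] [],
  .dec 27 34 8 44 [] [],
  .dec 27 37 8 46 [] [21],
  .dec 27 38 8 47 [] [22],
  .dec 27 40 11 47 [] [30],
  .dec 27 41 0 44 [18] [],
  .dec 27 42 1 44 [19] [],
  .dec 27 44 18 47 [] [41],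
  .dec 27 45 15 40 [34] [],
  .dec 27 46 5 44 [28] [],
  .dec 27 47 6 44 [29] [],
  .symm 28 0,
  .symm 28 2,
  .symm 28 3,
  .symm 28 4,
  .symm 28 5,
  .symm 28 6,
  .symm 28 9,
  .symm 28 11,
  .symm 28 13,
  .symm 28 14,
  .symm 28 16,
  .symm 28 18,
  .symm 28 20,
  .symm 28 21,
  .symm 28 23,
  .symm 28 25,
  .symm 28 26,
  .symm 28 27,
  .dec 28 29 3 47 [] [6],
  .dec 28 30 0 40 [11] [],
  .dec 28 31 4 47 [] [],
  .dec 28 32 2 40 [13] [],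
  .dec 28 35 9 44 [] [],
  .dec 28 37 9 45 [] [23],
  .dec 28 39 9 47 [] [25],
  .dec 28 40 11 47 [] [30],
  .dec 28 41 0 44 [18] [],
  .dec 28 43 2 44 [20] [],
  .dec 28 44 18 47 [] [41],
  .dec 28 45 4 44 [27] [],
  .dec 28 46 16 40 [35] [],
  .dec 28 47 6 44 [29] [],
  .symm 29 1,
  .symm 29 2,
  .symm 29 3,
  .symm 29 4,
  .symm 29 5,
  .symm 29 6,
  .symm 29 10,
  .symm 29 12,
  .symm 29 13,
  .symm 29 14,
  .symm 29 17,
  .symm 29 19,
  .symm 29 20,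
  .symm 29 22,
  .symm 29 24,
  .symm 29 25,
  .symm 29 26,
  .symm 29 27,
  .symm 29 28,
  .dec 29 30 4 46 [] [],
  .dec 29 31 1 40 [12] [],
  .dec 29 32 2 40 [13] [],
  .dec 29 36 10 44 [] [],
  .dec 29 38 10 45 [] [24],
  .dec 29 39 10 46 [] [26],
  .dec 29 40 12 46 [] [31],
  .dec 29 42 1 44 [19] [],
  .dec 29 43 2 44 [20] [],
  .dec 29 44 19 46 [] [42],
  .dec 29 45 4 44 [27] [],
  .dec 29 46 5 44 [28] [],
  .dec 29 47 17 40 [36] [],
  .symm 30 0,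
  .symm 30 3,
  .symm 30 4,
  .symm 30 5,
  .symm 30 6,
  .symm 30 8]

/-- Steps for commuting lifts, part 8. -/
def nears8 : List (Near 48) := [
  .symm 30 9,
  .symm 30 11,
  .symm 30 12,
  .symm 30 13,
  .symm 30 14,
  .symm 30 18,
  .symm 30 21,
  .symm 30 22,
  .symm 30 23,
  .symm 30 25,
  .symm 30 27,
  .symm 30 28,
  .symm 30 29,
  .dec 30 31 4 47 [] [],
  .dec 30 32 4 39 [14] [],
  .dec 30 34 8 44 [] [],
  .dec 30 35 9 44 [] [],
  .dec 30 37 8 46 [] [21],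
  .dec 30 38 8 47 [] [22],
  .dec 30 39 9 47 [] [25],
  .dec 30 40 12 46 [] [31],
  .dec 30 41 0 44 [18] [],
  .dec 30 44 18 47 [] [41],
  .dec 30 45 4 44 [27] [],
  .dec 30 46 5 44 [28] [],
  .dec 30 47 6 44 [29] [],
  .symm 31 1,
  .symm 31 3,
  .symm 31 4,
  .symm 31 5,
  .symm 31 6,
  .symm 31 8,
  .symm 31 10,
  .symm 31 11,
  .symm 31 12,
  .symm 31 13,
  .symm 31 14,
  .symm 31 19,
  .symm 31 21,
  .symm 31 22,
  .symm 31 24,
  .symm 31 26,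
  .symm 31 27,
  .symm 31 28,
  .symm 31 29,
  .symm 31 30,
  .dec 31 32 4 39 [14] [],
  .dec 31 34 8 44 [] [],
  .dec 31 36 10 44 [] [],
  .dec 31 37 8 46 [] [21],
  .dec 31 38 8 47 [] [22],
  .dec 31 39 10 46 [] [26],
  .dec 31 40 11 47 [] [30],
  .dec 31 42 1 44 [19] [],
  .dec 31 44 19 46 [] [42],
  .dec 31 45 4 44 [27] [],
  .dec 31 46 5 44 [28] [],
  .dec 31 47 6 44 [29] [],
  .symm 32 2,
  .symm 32 3,
  .symm 32 4,
  .symm 32 5,
  .symm 32 6,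
  .symm 32 9,
  .symm 32 10,
  .symm 32 11,
  .symm 32 12,
  .symm 32 13,
  .symm 32 14,
  .symm 32 20,
  .symm 32 23,
  .symm 32 24,
  .symm 32 25,
  .symm 32 26,
  .symm 32 27,
  .symm 32 28,
  .symm 32 29,
  .symm 32 30,
  .symm 32 31,
  .dec 32 35 9 44 [] [],
  .dec 32 36 10 44 [] [],
  .dec 32 37 9 45 [] [23],
  .dec 32 38 10 45 [] [24],
  .dec 32 39 9 47 [] [25],
  .dec 32 40 11 47 [] [30],
  .dec 32 43 2 44 [20] [],
  .dec 32 44 20 45 [] [43],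
  .dec 32 45 4 44 [27] [],
  .dec 32 46 5 44 [28] [],
  .dec 32 47 6 44 [29] [],
  .symm 33 0,
  .symm 33 1,
  .symm 33 2,
  .symm 33 7,
  .symm 33 8,
  .symm 33 9,
  .symm 33 10,
  .symm 33 15,
  .symm 33 16,
  .symm 33 17,
  .symm 33 18,
  .symm 33 19,
  .symm 33 20,
  .symm 33 21,
  .symm 33 22,
  .symm 33 23,
  .symm 33 24,
  .symm 33 25,
  .symm 33 26,
  .dec 33 34 7 45 [] [15],
  .dec 33 35 7 46 [] [16],
  .dec 33 36 7 47 [] [17],
  .dec 33 37 8 46 [] [21],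
  .dec 33 38 8 47 [] [22],
  .dec 33 39 9 47 [] [25],
  .dec 33 41 0 44 [18] [],
  .dec 33 42 1 44 [19] [],
  .dec 33 43 2 44 [20] [],
  .dec 33 44 18 47 [] [41],
  .dec 33 45 21 47 [] []]

/-- Steps for commuting lifts, part 9. -/
def nears9 : List (Near 48) := [
  .dec 33 46 21 39 [37] [],
  .dec 33 47 22 39 [38] [],
  .symm 34 0,
  .symm 34 1,
  .symm 34 4,
  .symm 34 7,
  .symm 34 8,
  .symm 34 11,
  .symm 34 12,
  .symm 34 15,
  .symm 34 16,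
  .symm 34 17,
  .symm 34 18,
  .symm 34 19,
  .symm 34 21,
  .symm 34 22,
  .symm 34 23,
  .symm 34 24,
  .symm 34 27,
  .symm 34 30,
  .symm 34 31,
  .symm 34 33,
  .dec 34 35 7 46 [] [16],
  .dec 34 36 7 47 [] [17],
  .dec 34 37 8 46 [] [21],
  .dec 34 38 8 47 [] [22],
  .dec 34 40 11 47 [] [30],
  .dec 34 41 0 44 [18] [],
  .dec 34 42 1 44 [19] [],
  .dec 34 43 16 47 [] [],
  .dec 34 44 18 47 [] [41],
  .dec 34 45 4 44 [27] [],
  .dec 34 46 16 40 [35] [],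
  .dec 34 47 17 40 [36] [],
  .symm 35 0,
  .symm 35 2,
  .symm 35 5,
  .symm 35 7,
  .symm 35 9,
  .symm 35 11,
  .symm 35 13,
  .symm 35 15,
  .symm 35 16,
  .symm 35 17,
  .symm 35 18,
  .symm 35 20,
  .symm 35 21,
  .symm 35 23,
  .symm 35 25,
  .symm 35 26,
  .symm 35 28,
  .symm 35 30,
  .symm 35 32,
  .symm 35 33,
  .symm 35 34,
  .dec 35 36 7 47 [] [17],
  .dec 35 37 9 45 [] [23],
  .dec 35 39 9 47 [] [25],
  .dec 35 40 11 47 [] [30],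
  .dec 35 41 0 44 [18] [],
  .dec 35 42 15 47 [] [],
  .dec 35 43 2 44 [20] [],
  .dec 35 44 18 47 [] [41],
  .dec 35 45 15 40 [34] [],
  .dec 35 46 5 44 [28] [],
  .dec 35 47 17 40 [36] [],
  .symm 36 1,
  .symm 36 2,
  .symm 36 6,
  .symm 36 7,
  .symm 36 10,
  .symm 36 12,
  .symm 36 13,
  .symm 36 15,
  .symm 36 16,
  .symm 36 17,
  .symm 36 19,
  .symm 36 20,
  .symm 36 22,
  .symm 36 24,
  .symm 36 25,
  .symm 36 26,
  .symm 36 29,
  .symm 36 31,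
  .symm 36 32,
  .symm 36 33,
  .symm 36 34,
  .symm 36 35,
  .dec 36 38 10 45 [] [24],
  .dec 36 39 10 46 [] [26],
  .dec 36 40 12 46 [] [31],
  .dec 36 41 15 46 [] [],
  .dec 36 42 1 44 [19] [],
  .dec 36 43 2 44 [20] [],
  .dec 36 44 19 46 [] [42],
  .dec 36 45 15 40 [34] [],
  .dec 36 46 16 40 [35] [],
  .dec 36 47 6 44 [29] [],
  .symm 37 0,
  .symm 37 4,
  .symm 37 5,
  .symm 37 8,
  .symm 37 9,
  .symm 37 11,
  .symm 37 14,
  .symm 37 15,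
  .symm 37 16,
  .symm 37 18,
  .symm 37 21,
  .symm 37 22,
  .symm 37 23,
  .symm 37 25,
  .symm 37 27,
  .symm 37 28,
  .symm 37 30,
  .symm 37 31,
  .symm 37 32,
  .symm 37 33,
  .symm 37 34,
  .symm 37 35]

/-- Steps for commuting lifts, part 10. -/
def nears10 : List (Near 48) := [
  .dec 37 38 8 47 [] [22],
  .dec 37 39 9 47 [] [25],
  .dec 37 40 11 47 [] [30],
  .dec 37 41 0 44 [18] [],
  .dec 37 42 15 47 [] [],
  .dec 37 43 15 39 [33] [],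
  .dec 37 44 18 47 [] [41],
  .dec 37 45 4 44 [27] [],
  .dec 37 46 5 44 [28] [],
  .dec 37 47 22 39 [38] [],
  .symm 38 1,
  .symm 38 4,
  .symm 38 6,
  .symm 38 8,
  .symm 38 10,
  .symm 38 12,
  .symm 38 14,
  .symm 38 15,
  .symm 38 17,
  .symm 38 19,
  .symm 38 21,
  .symm 38 22,
  .symm 38 24,
  .symm 38 26,
  .symm 38 27,
  .symm 38 29,
  .symm 38 30,
  .symm 38 31,
  .symm 38 32,
  .symm 38 33,
  .symm 38 34,
  .symm 38 36,
  .symm 38 37,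
  .dec 38 39 10 46 [] [26],
  .dec 38 40 12 46 [] [31],
  .dec 38 41 15 46 [] [],
  .dec 38 42 1 44 [19] [],
  .dec 38 43 15 39 [33] [],
  .dec 38 44 19 46 [] [42],
  .dec 38 45 4 44 [27] [],
  .dec 38 46 21 39 [37] [],
  .dec 38 47 6 44 [29] [],
  .symm 39 2,
  .symm 39 5,
  .symm 39 6,
  .symm 39 9,
  .symm 39 10,
  .symm 39 13,
  .symm 39 14,
  .symm 39 16,
  .symm 39 17,
  .symm 39 20,
  .symm 39 23,
  .symm 39 24,
  .symm 39 25,
  .symm 39 26,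
  .symm 39 28,
  .symm 39 29,
  .symm 39 30,
  .symm 39 31,
  .symm 39 32,
  .symm 39 33,
  .symm 39 35,
  .symm 39 36,
  .symm 39 37,
  .symm 39 38,
  .dec 39 40 13 45 [] [32],
  .dec 39 41 16 45 [] [],
  .dec 39 42 16 38 [33] [],
  .dec 39 43 2 44 [20] [],
  .dec 39 44 20 45 [] [43],
  .dec 39 45 23 38 [37] [],
  .dec 39 46 5 44 [28] [],
  .dec 39 47 6 44 [29] [],
  .symm 40 4,
  .symm 40 5,
  .symm 40 6,
  .symm 40 11,
  .symm 40 12,
  .symm 40 13,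
  .symm 40 14,
  .symm 40 21,
  .symm 40 22,
  .symm 40 23,
  .symm 40 24,
  .symm 40 25,
  .symm 40 26,
  .symm 40 27,
  .symm 40 28,
  .symm 40 29,
  .symm 40 30,
  .symm 40 31,
  .symm 40 32,
  .symm 40 34,
  .symm 40 35,
  .symm 40 36,
  .symm 40 37,
  .symm 40 38,
  .symm 40 39,
  .dec 40 41 21 43 [] [],
  .dec 40 42 21 36 [34] [],
  .dec 40 43 23 36 [35] [],
  .dec 40 44 34 39 [] [],
  .dec 40 45 4 44 [27] [],
  .dec 40 46 5 44 [28] [],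
  .dec 40 47 6 44 [29] [],
  .symm 41 0,
  .symm 41 7,
  .symm 41 8,
  .symm 41 9,
  .symm 41 11,
  .symm 41 15,
  .symm 41 16,
  .symm 41 17,
  .symm 41 18,
  .symm 41 19,
  .symm 41 20,
  .symm 41 21,
  .symm 41 22,
  .symm 41 23]

/-- Steps for commuting lifts, part 11. -/
def nears11 : List (Near 48) := [
  .symm 41 25,
  .symm 41 27,
  .symm 41 28,
  .symm 41 30,
  .symm 41 33,
  .symm 41 34,
  .symm 41 35,
  .symm 41 36,
  .symm 41 37,
  .symm 41 38,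
  .symm 41 39,
  .symm 41 40,
  .dec 41 42 15 47 [] [],
  .dec 41 43 15 39 [33] [],
  .dec 41 44 19 46 [] [42],
  .dec 41 45 15 40 [34] [],
  .dec 41 46 16 40 [35] [],
  .dec 41 47 17 40 [36] [],
  .symm 42 1,
  .symm 42 7,
  .symm 42 8,
  .symm 42 10,
  .symm 42 12,
  .symm 42 15,
  .symm 42 16,
  .symm 42 17,
  .symm 42 18,
  .symm 42 19,
  .symm 42 20,
  .symm 42 21,
  .symm 42 22,
  .symm 42 24,
  .symm 42 26,
  .symm 42 27,
  .symm 42 29,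
  .symm 42 31,
  .symm 42 33,
  .symm 42 34,
  .symm 42 35,
  .symm 42 36,
  .symm 42 37,
  .symm 42 38,
  .symm 42 39,
  .symm 42 40,
  .symm 42 41,
  .dec 42 43 15 39 [33] [],
  .dec 42 44 18 47 [] [41],
  .dec 42 45 15 40 [34] [],
  .dec 42 46 16 40 [35] [],
  .dec 42 47 17 40 [36] [],
  .symm 43 2,
  .symm 43 7,
  .symm 43 9,
  .symm 43 10,
  .symm 43 13,
  .symm 43 15,
  .symm 43 16,
  .symm 43 17,
  .symm 43 18,
  .symm 43 19,
  .symm 43 20,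
  .symm 43 23,
  .symm 43 24,
  .symm 43 25,
  .symm 43 26,
  .symm 43 28,
  .symm 43 29,
  .symm 43 32,
  .symm 43 33,
  .symm 43 34,
  .symm 43 35,
  .symm 43 36,
  .symm 43 37,
  .symm 43 38,
  .symm 43 39,
  .symm 43 40,
  .symm 43 41,
  .symm 43 42,
  .dec 43 44 18 47 [] [41],
  .dec 43 45 15 40 [34] [],
  .dec 43 46 16 40 [35] [],
  .dec 43 47 17 40 [36] [],
  .symm 44 15,
  .symm 44 16,
  .symm 44 17,
  .symm 44 18,
  .symm 44 19,
  .symm 44 20,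
  .symm 44 21,
  .symm 44 22,
  .symm 44 23,
  .symm 44 24,
  .symm 44 25,
  .symm 44 26,
  .symm 44 27,
  .symm 44 28,
  .symm 44 29,
  .symm 44 30,
  .symm 44 31,
  .symm 44 32,
  .symm 44 33,
  .symm 44 34,
  .symm 44 35,
  .symm 44 36,
  .symm 44 37,
  .symm 44 38,
  .symm 44 39,
  .symm 44 40,
  .symm 44 41,
  .symm 44 42,
  .symm 44 43,
  .dec 44 45 15 40 [34] [],
  .dec 44 46 16 40 [35] [],
  .dec 44 47 17 40 [36] [],
  .symm 45 4,
  .symm 45 8,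
  .symm 45 11,
  .symm 45 12,
  .symm 45 14,
  .symm 45 15]

/-- Steps for commuting lifts, part 12. -/
def nears12 : List (Near 48) := [
  .symm 45 18,
  .symm 45 19,
  .symm 45 21,
  .symm 45 22,
  .symm 45 23,
  .symm 45 24,
  .symm 45 27,
  .symm 45 28,
  .symm 45 29,
  .symm 45 30,
  .symm 45 31,
  .symm 45 32,
  .symm 45 33,
  .symm 45 34,
  .symm 45 35,
  .symm 45 36,
  .symm 45 37,
  .symm 45 38,
  .symm 45 39,
  .symm 45 40,
  .symm 45 41,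
  .symm 45 42,
  .symm 45 43,
  .symm 45 44,
  .dec 45 46 21 39 [37] [],
  .dec 45 47 22 39 [38] [],
  .symm 46 5,
  .symm 46 9,
  .symm 46 11,
  .symm 46 13,
  .symm 46 14,
  .symm 46 16,
  .symm 46 18,
  .symm 46 20,
  .symm 46 21,
  .symm 46 23,
  .symm 46 25,
  .symm 46 26,
  .symm 46 27,
  .symm 46 28,
  .symm 46 29,
  .symm 46 30,
  .symm 46 31,
  .symm 46 32,
  .symm 46 33,
  .symm 46 34,
  .symm 46 35,
  .symm 46 36,
  .symm 46 37,
  .symm 46 38,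
  .symm 46 39,
  .symm 46 40,
  .symm 46 41,
  .symm 46 42,
  .symm 46 43,
  .symm 46 44,
  .symm 46 45,
  .dec 46 47 25 38 [39] [],
  .symm 47 6,
  .symm 47 10,
  .symm 47 12,
  .symm 47 13,
  .symm 47 14,
  .symm 47 17,
  .symm 47 19,
  .symm 47 20,
  .symm 47 22,
  .symm 47 24,
  .symm 47 25,
  .symm 47 26,
  .symm 47 27,
  .symm 47 28,
  .symm 47 29,
  .symm 47 30,
  .symm 47 31,
  .symm 47 32,
  .symm 47 33,
  .symm 47 34,
  .symm 47 35,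
  .symm 47 36,
  .symm 47 37,
  .symm 47 38,
  .symm 47 39,
  .symm 47 40,
  .symm 47 41,
  .symm 47 42,
  .symm 47 43,
  .symm 47 44,
  .symm 47 45,
  .symm 47 46,
  .dec 0 6 10 30 [14] [],
  .dec 1 5 9 31 [14] [],
  .dec 2 4 8 32 [14] [],
  .symm 4 2,
  .symm 5 1,
  .symm 6 0]

/-- Rewriting steps, part 0. -/
def block0 : List (Eqn 48) := [
  ⟨(23, 1), [0, 1, 23], [.swap 0, .swap 1], [.swap 1, .cancel 0, .swap 0, .swap 0, .swap 1]⟩,
  ⟨(37, 3), [0, 3, 37], [.swap 0], [.swap 1, .swap 1, .swap 2, .swap 1, .swap 1, .swap 0, .swap 2, .cancel 3]⟩,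
  ⟨(37, 7), [0, 7, 37], [.swap 0], [.swap 1, .swap 1, .swap 2, .swap 1, .swap 1, .swap 0, .swap 2, .cancel 3]⟩,
  ⟨(44, 8), [0, 8, 44], [.swap 0], [.swap 1, .swap 1, .swap 2, .swap 1, .swap 1, .swap 0, .swap 2, .cancel 3]⟩,
  ⟨(40, 10), [0, 10, 40], [.swap 0], [.swap 1, .swap 1, .swap 2, .swap 1, .swap 1, .swap 0, .swap 2, .cancel 3]⟩,
  ⟨(44, 10), [0, 10, 44], [.swap 0], [.swap 1, .swap 1, .swap 2, .swap 1, .swap 1, .swap 0, .swap 2, .cancel 3]⟩,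
  ⟨(44, 12), [0, 12, 44], [.swap 0], [.swap 1, .swap 1, .swap 2, .swap 1, .swap 1, .swap 0, .swap 2, .cancel 3]⟩,
  ⟨(44, 13), [0, 13, 44], [.swap 0], [.swap 1, .swap 1, .swap 2, .swap 1, .swap 1, .swap 0, .swap 2, .cancel 3]⟩,
  ⟨(44, 14), [0, 14, 44], [.swap 0], [.swap 1, .swap 1, .swap 2, .swap 1, .swap 1, .swap 0, .swap 2, .cancel 3]⟩,
  ⟨(24, 0), [0, 24, 0], [.swap 0, .swap 0, .swap 1, .swap 0, .swap 0, .swap 1, .cancel 2, .swap 1, .swap 1, .cancel 0, .swap 0], [.swap 1, .swap 1, .cancel 0, .swap 0]⟩,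
  ⟨(26, 0), [0, 26, 0], [.swap 0, .swap 0, .swap 1, .swap 0, .swap 0, .swap 1, .cancel 2, .swap 1, .swap 1, .cancel 0, .swap 0], [.swap 1, .swap 1, .cancel 0, .swap 0]⟩,
  ⟨(31, 0), [0, 31, 0], [.swap 0, .swap 0, .swap 1, .swap 0, .swap 0, .swap 1, .cancel 2, .swap 1, .swap 1, .cancel 0, .swap 0], [.swap 1, .swap 1, .cancel 0, .swap 0]⟩,
  ⟨(32, 0), [0, 32, 0], [.swap 0, .swap 0, .swap 1, .swap 0, .swap 0, .swap 1, .cancel 2, .swap 1, .swap 1, .cancel 0, .swap 0], [.swap 1, .swap 1, .cancel 0, .swap 0]⟩,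
  ⟨(42, 0), [0, 42, 0], [.swap 0, .swap 0, .swap 1, .swap 0, .swap 0, .swap 1, .cancel 2, .swap 1, .swap 1, .cancel 0, .swap 0], [.swap 1, .swap 1, .cancel 0, .swap 0]⟩,
  ⟨(43, 0), [0, 43, 0], [.swap 0, .swap 0, .swap 1, .swap 0, .swap 0, .swap 1, .cancel 2, .swap 1, .swap 1, .cancel 0, .swap 0], [.swap 1, .swap 1, .cancel 0, .swap 0]⟩,
  ⟨(45, 0), [0, 45, 0], [.swap 0, .swap 0, .swap 1, .swap 0, .swap 0, .swap 1, .cancel 2, .swap 1, .swap 1, .cancel 0, .swap 0], [.swap 1, .swap 1, .cancel 0, .swap 0]⟩,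
  ⟨(46, 0), [0, 46, 0], [.swap 0, .swap 0, .swap 1, .swap 0, .swap 0, .swap 1, .cancel 2, .swap 1, .swap 1, .cancel 0, .swap 0], [.swap 1, .swap 1, .cancel 0, .swap 0]⟩,
  ⟨(38, 3), [1, 3, 38], [.swap 0], [.swap 1, .swap 1, .swap 2, .swap 1, .swap 1, .swap 0, .swap 2, .cancel 3]⟩,
  ⟨(38, 7), [1, 7, 38], [.swap 0], [.swap 1, .swap 1, .swap 2, .swap 1, .swap 1, .swap 0, .swap 2, .cancel 3]⟩,
  ⟨(40, 9), [1, 9, 40], [.swap 0], [.swap 1, .swap 1, .swap 2, .swap 1, .swap 1, .swap 0, .swap 2, .cancel 3]⟩,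
  ⟨(44, 9), [1, 9, 44], [.swap 0], [.swap 1, .swap 1, .swap 2, .swap 1, .swap 1, .swap 0, .swap 2, .cancel 3]⟩,
  ⟨(44, 11), [1, 11, 44], [.swap 0], [.swap 1, .swap 1, .swap 2, .swap 1, .swap 1, .swap 0, .swap 2, .cancel 3]⟩,
  ⟨(32, 1), [1, 32, 0], [.swap 0, .swap 0, .swap 1, .swap 0, .swap 0, .swap 1, .cancel 2, .swap 1, .swap 1, .swap 0, .swap 2], [.swap 1, .swap 1, .swap 0, .swap 2]⟩,
  ⟨(43, 1), [1, 43, 0], [.swap 0, .swap 0, .swap 1, .swap 0, .swap 0, .swap 1, .cancel 2, .swap 1, .swap 1, .swap 0, .swap 2], [.swap 1, .swap 1, .swap 0, .swap 2]⟩,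
  ⟨(45, 1), [1, 45, 0], [.swap 0, .swap 0, .swap 1, .swap 0, .swap 0, .swap 1, .cancel 2, .swap 1, .swap 1, .swap 0, .swap 2], [.swap 1, .swap 1, .swap 0, .swap 2]⟩,
  ⟨(47, 1), [1, 47, 1], [.swap 0, .swap 0, .swap 1, .swap 0, .swap 0, .swap 1, .cancel 2, .swap 1, .swap 1, .cancel 0, .swap 0], [.swap 1, .swap 1, .cancel 0, .swap 0]⟩,
  ⟨(39, 3), [2, 3, 39], [.swap 0], [.swap 1, .swap 1, .swap 2, .swap 1, .swap 1, .swap 0, .swap 2, .cancel 3]⟩,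
  ⟨(39, 7), [2, 7, 39], [.swap 0], [.swap 1, .swap 1, .swap 2, .swap 1, .swap 1, .swap 0, .swap 2, .cancel 3]⟩,
  ⟨(40, 8), [2, 8, 40], [.swap 0], [.swap 1, .swap 1, .swap 2, .swap 1, .swap 1, .swap 0, .swap 2, .cancel 3]⟩,
  ⟨(46, 2), [2, 46, 0], [.swap 0, .swap 0, .swap 1, .swap 0, .swap 0, .swap 1, .cancel 2, .swap 1, .swap 1, .swap 0, .swap 2], [.swap 1, .swap 1, .swap 0, .swap 2]⟩,
  ⟨(47, 2), [2, 47, 1], [.swap 0, .swap 0, .swap 1, .swap 0, .swap 0, .swap 1, .cancel 2, .swap 1, .swap 1, .swap 0, .swap 2], [.swap 1, .swap 1, .swap 0, .swap 2]⟩,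
  ⟨(14, 7), [3, 7, 14], [.swap 0, .swap 1], [.swap 1, .cancel 0, .swap 0, .swap 0, .swap 1]⟩,
  ⟨(33, 3), [3, 33, 3], [.swap 0, .swap 0, .swap 1, .swap 0, .swap 0, .swap 1, .cancel 2, .swap 1, .swap 1, .cancel 0, .swap 0], [.swap 1, .swap 1, .cancel 0, .swap 0]⟩,
  ⟨(34, 3), [3, 34, 3], [.swap 0, .swap 0, .swap 1, .swap 0, .swap 0, .swap 1, .cancel 2, .swap 1, .swap 1, .cancel 0, .swap 0], [.swap 1, .swap 1, .cancel 0, .swap 0]⟩,
  ⟨(35, 3), [3, 35, 3], [.swap 0, .swap 0, .swap 1, .swap 0, .swap 0, .swap 1, .cancel 2, .swap 1, .swap 1, .cancel 0, .swap 0], [.swap 1, .swap 1, .cancel 0, .swap 0]⟩,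
  ⟨(36, 3), [3, 36, 3], [.swap 0, .swap 0, .swap 1, .swap 0, .swap 0, .swap 1, .cancel 2, .swap 1, .swap 1, .cancel 0, .swap 0], [.swap 1, .swap 1, .cancel 0, .swap 0]⟩,
  ⟨(40, 3), [3, 40, 3], [.swap 0, .swap 0, .swap 1, .swap 0, .swap 0, .swap 1, .cancel 2, .swap 1, .swap 1, .cancel 0, .swap 0], [.swap 1, .swap 1, .cancel 0, .swap 0]⟩,
  ⟨(44, 7), [4, 7, 44], [.swap 0], [.swap 1, .swap 1, .swap 2, .swap 1, .swap 1, .swap 0, .swap 2, .cancel 3]⟩,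
  ⟨(40, 33), [4, 33, 40], [.swap 0, .swap 1, .swap 0, .swap 2, .swap 1], [.swap 1, .swap 1, .swap 2, .swap 1, .swap 1, .swap 0, .swap 1, .swap 0, .swap 2, .swap 1, .swap 4, .cancel 5]⟩,
  ⟨(46, 4), [4, 46, 0], [.swap 0, .swap 0, .swap 1, .swap 0, .swap 0, .swap 1, .cancel 2, .swap 1, .swap 1, .swap 0, .swap 2], [.swap 1, .swap 1, .swap 0, .swap 2]⟩,
  ⟨(47, 4), [4, 47, 1], [.swap 0, .swap 0, .swap 1, .swap 0, .swap 0, .swap 1, .cancel 2, .swap 1, .swap 1, .swap 0, .swap 2], [.swap 1, .swap 1, .swap 0, .swap 2]⟩,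
  ⟨(47, 5), [5, 47, 1], [.swap 0, .swap 0, .swap 1, .swap 0, .swap 0, .swap 1, .cancel 2, .swap 1, .swap 1, .swap 0, .swap 2], [.swap 1, .swap 1, .swap 0, .swap 2]⟩,
  ⟨(46, 15), [15, 46, 0], [.swap 0, .swap 0, .swap 1, .swap 0, .swap 0, .swap 1, .cancel 2, .swap 1, .swap 1, .swap 0, .swap 2], [.swap 1, .swap 1, .swap 0, .swap 2]⟩,
  ⟨(47, 15), [15, 47, 1], [.swap 0, .swap 0, .swap 1, .swap 0, .swap 0, .swap 1, .cancel 2, .swap 1, .swap 1, .swap 0, .swap 2], [.swap 1, .swap 1, .swap 0, .swap 2]⟩,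
  ⟨(47, 16), [16, 47, 1], [.swap 0, .swap 0, .swap 1, .swap 0, .swap 0, .swap 1, .cancel 2, .swap 1, .swap 1, .swap 0, .swap 2], [.swap 1, .swap 1, .swap 0, .swap 2]⟩,
  ⟨(47, 21), [21, 47, 1], [.swap 0, .swap 0, .swap 1, .swap 0, .swap 0, .swap 1, .cancel 2, .swap 1, .swap 1, .swap 0, .swap 2], [.swap 1, .swap 1, .swap 0, .swap 2]⟩,
  ⟨(47, 23), [23, 47, 2], [.swap 0, .swap 0, .swap 1, .swap 0, .swap 0, .swap 1, .cancel 2, .swap 1, .swap 1, .swap 0, .swap 2], [.swap 1, .swap 1, .swap 0, .swap 2]⟩,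
  ⟨(46, 24), [24, 46, 2], [.swap 0, .swap 0, .swap 1, .swap 0, .swap 0, .swap 1, .cancel 2, .swap 1, .swap 1, .swap 0, .swap 2], [.swap 1, .swap 1, .swap 0, .swap 2]⟩,
  ⟨(15, 5), [5, 41, 1], [.swap 0, .swap 0, .swap 1, .swap 2, .swap 2, .swap 1, .swap 0, .swap 0, .swap 1, .swap 2, .swap 2, .swap 3, .cancel 4], [.swap 1, .swap 1, .swap 0, .swap 2, .swap 1, .swap 1, .swap 2, .swap 3]⟩,
  ⟨(5, 15), [0, 5, 15], [.swap 0, .swap 1], [.swap 1, .cancel 0, .swap 0, .swap 0, .swap 1]⟩,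
  ⟨(15, 6), [6, 42, 0], [.swap 0, .swap 0, .swap 1, .swap 2, .swap 2, .swap 1, .swap 0, .swap 0, .swap 1, .swap 2, .swap 2, .swap 3, .cancel 4], [.swap 1, .swap 1, .swap 0, .swap 2, .swap 1, .swap 1, .swap 2, .swap 3]⟩,
  ⟨(6, 15), [1, 6, 15], [.swap 0, .swap 1], [.swap 1, .cancel 0, .swap 0, .swap 0, .swap 1]⟩]

/-- Rewriting steps, part 1. -/
def block1 : List (Eqn 48) := [
  ⟨(16, 6), [6, 43, 0], [.swap 0, .swap 0, .swap 1, .swap 2, .swap 2, .swap 1, .swap 0, .swap 0, .swap 1, .swap 2, .swap 2, .swap 3, .cancel 4], [.swap 1, .swap 1, .swap 0, .swap 2, .swap 1, .swap 1, .swap 2, .swap 3]⟩,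
  ⟨(6, 16), [2, 6, 16], [.swap 0, .swap 1], [.swap 1, .cancel 0, .swap 0, .swap 0, .swap 1]⟩,
  ⟨(21, 6), [6, 45, 0], [.swap 0, .swap 0, .swap 1, .swap 2, .swap 2, .swap 1, .swap 0, .swap 0, .swap 1, .swap 2, .swap 2, .swap 3, .cancel 4], [.swap 1, .swap 1, .swap 0, .swap 2, .swap 1, .swap 1, .swap 2, .swap 3]⟩,
  ⟨(6, 21), [4, 6, 21], [.swap 0, .swap 1], [.swap 1, .cancel 0, .swap 0, .swap 0, .swap 1]⟩,
  ⟨(11, 10), [11, 29, 7], [.swap 0, .swap 0, .swap 1, .swap 2, .swap 2, .swap 1, .swap 0, .swap 0, .swap 1, .swap 4], [.swap 1, .swap 0, .swap 0, .swap 1, .swap 2, .swap 1, .swap 0, .swap 3, .swap 2, .swap 2, .swap 1, .swap 3]⟩,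
  ⟨(10, 11), [0, 10, 11], [.swap 0], [.swap 1, .swap 1, .swap 2, .swap 1, .swap 1, .swap 0, .swap 2, .cancel 3]⟩,
  ⟨(12, 9), [10, 27, 9], [.swap 0, .swap 0, .swap 1, .swap 2, .swap 2, .swap 1, .swap 0, .swap 0, .swap 1, .swap 4], [.swap 1, .swap 0, .swap 0, .swap 1, .swap 2, .swap 1, .swap 0, .swap 3, .swap 2, .swap 2, .swap 1, .swap 3]⟩,
  ⟨(9, 12), [0, 12, 9], [.swap 0], [.swap 1, .swap 1, .swap 2, .swap 1, .swap 1, .swap 0, .swap 2, .cancel 3]⟩,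
  ⟨(13, 8), [9, 29, 8], [.swap 0, .swap 0, .swap 1, .swap 2, .swap 2, .swap 1, .swap 0, .swap 0, .swap 1, .swap 4], [.swap 1, .swap 0, .swap 0, .swap 1, .swap 2, .swap 1, .swap 0, .swap 3, .swap 2, .swap 2, .swap 1, .swap 3]⟩,
  ⟨(8, 13), [2, 8, 13], [.swap 0], [.swap 1, .swap 1, .swap 2, .swap 1, .swap 1, .swap 0, .swap 2, .cancel 3]⟩,
  ⟨(16, 4), [15, 25, 4], [.swap 0, .swap 0, .swap 1, .swap 2, .swap 2, .swap 1, .swap 0, .swap 0, .swap 1, .swap 4], [.swap 1, .swap 0, .swap 0, .swap 1, .swap 2, .swap 1, .swap 0, .swap 3, .swap 2, .swap 2, .swap 1, .swap 3]⟩,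
  ⟨(4, 16), [0, 4, 16], [.swap 0, .swap 1], [.swap 1, .cancel 0, .swap 0, .swap 0, .swap 1]⟩,
  ⟨(21, 2), [4, 41, 2], [.swap 0, .swap 0, .swap 1, .swap 2, .swap 2, .swap 1, .swap 0, .swap 0, .swap 1, .swap 2, .swap 2, .swap 3, .cancel 4], [.swap 1, .swap 1, .swap 0, .swap 2, .swap 1, .swap 1, .swap 2, .swap 3]⟩,
  ⟨(2, 21), [0, 2, 21], [.swap 0, .swap 1], [.swap 1, .cancel 0, .swap 0, .swap 0, .swap 1]⟩,
  ⟨(17, 4), [15, 26, 4], [.swap 0, .swap 0, .swap 1, .swap 2, .swap 2, .swap 1, .swap 0, .swap 0, .swap 1, .swap 4], [.swap 1, .swap 0, .swap 0, .swap 1, .swap 2, .swap 1, .swap 0, .swap 3, .swap 2, .swap 2, .swap 1, .swap 3]⟩,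
  ⟨(4, 17), [1, 4, 17], [.swap 0, .swap 1], [.swap 1, .cancel 0, .swap 0, .swap 0, .swap 1]⟩,
  ⟨(22, 2), [4, 42, 2], [.swap 0, .swap 0, .swap 1, .swap 2, .swap 2, .swap 1, .swap 0, .swap 0, .swap 1, .swap 2, .swap 2, .swap 3, .cancel 4], [.swap 1, .swap 1, .swap 0, .swap 2, .swap 1, .swap 1, .swap 2, .swap 3]⟩,
  ⟨(2, 22), [1, 2, 22], [.swap 0, .swap 1], [.swap 1, .cancel 0, .swap 0, .swap 0, .swap 1]⟩,
  ⟨(17, 5), [16, 24, 5], [.swap 0, .swap 0, .swap 1, .swap 2, .swap 2, .swap 1, .swap 0, .swap 0, .swap 1, .swap 4], [.swap 1, .swap 0, .swap 0, .swap 1, .swap 2, .swap 1, .swap 0, .swap 3, .swap 2, .swap 2, .swap 1, .swap 3]⟩,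
  ⟨(5, 17), [2, 5, 17], [.swap 0, .swap 1], [.swap 1, .cancel 0, .swap 0, .swap 0, .swap 1]⟩,
  ⟨(25, 1), [5, 43, 1], [.swap 0, .swap 0, .swap 1, .swap 2, .swap 2, .swap 1, .swap 0, .swap 0, .swap 1, .swap 2, .swap 2, .swap 3, .cancel 4], [.swap 1, .swap 1, .swap 0, .swap 2, .swap 1, .swap 1, .swap 2, .swap 3]⟩,
  ⟨(1, 25), [1, 25, 0], [.swap 0, .swap 0, .swap 1, .swap 0, .swap 0, .swap 1, .cancel 2, .swap 1, .swap 0], [.swap 1, .swap 0]⟩,
  ⟨(21, 17), [17, 45, 0], [.swap 0, .swap 0, .swap 1, .swap 2, .swap 2, .swap 1, .swap 0, .swap 0, .swap 1, .swap 2, .swap 2, .swap 3, .cancel 4], [.swap 1, .swap 1, .swap 0, .swap 2, .swap 1, .swap 1, .swap 2, .swap 3]⟩,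
  ⟨(17, 21), [15, 17, 21], [.swap 0, .swap 1], [.swap 1, .cancel 0, .swap 0, .swap 0, .swap 1]⟩,
  ⟨(18, 10), [18, 36, 3], [.swap 0, .swap 0, .swap 1, .swap 2, .swap 2, .swap 1, .swap 0, .swap 0, .swap 1, .swap 4], [.swap 1, .swap 0, .swap 0, .swap 1, .swap 2, .swap 1, .swap 0, .swap 3, .swap 2, .swap 2, .swap 1, .swap 3]⟩,
  ⟨(10, 18), [0, 10, 18], [.swap 0], [.swap 1, .swap 1, .swap 2, .swap 1, .swap 1, .swap 0, .swap 2, .cancel 3]⟩,
  ⟨(19, 9), [10, 34, 9], [.swap 0, .swap 0, .swap 1, .swap 2, .swap 2, .swap 1, .swap 0, .swap 0, .swap 1, .swap 4], [.swap 1, .swap 0, .swap 0, .swap 1, .swap 2, .swap 1, .swap 0, .swap 3, .swap 2, .swap 2, .swap 1, .swap 3]⟩,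
  ⟨(9, 19), [0, 19, 9], [.swap 0], [.swap 1, .swap 1, .swap 2, .swap 1, .swap 1, .swap 0, .swap 2, .cancel 3]⟩,
  ⟨(20, 8), [9, 36, 8], [.swap 0, .swap 0, .swap 1, .swap 2, .swap 2, .swap 1, .swap 0, .swap 0, .swap 1, .swap 4], [.swap 1, .swap 0, .swap 0, .swap 1, .swap 2, .swap 1, .swap 0, .swap 3, .swap 2, .swap 2, .swap 1, .swap 3]⟩,
  ⟨(8, 20), [2, 8, 20], [.swap 0], [.swap 1, .swap 1, .swap 2, .swap 1, .swap 1, .swap 0, .swap 2, .cancel 3]⟩,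
  ⟨(18, 12), [18, 38, 3], [.swap 0, .swap 0, .swap 1, .swap 2, .swap 2, .swap 1, .swap 0, .swap 0, .swap 1, .swap 4], [.swap 1, .swap 0, .swap 0, .swap 1, .swap 2, .swap 1, .swap 0, .swap 3, .swap 2, .swap 2, .swap 1, .swap 3]⟩,
  ⟨(12, 18), [0, 12, 18], [.swap 0], [.swap 1, .swap 1, .swap 2, .swap 1, .swap 1, .swap 0, .swap 2, .cancel 3]⟩,
  ⟨(19, 11), [12, 33, 11], [.swap 0, .swap 0, .swap 1, .swap 2, .swap 2, .swap 1, .swap 0, .swap 0, .swap 1, .swap 4], [.swap 1, .swap 0, .swap 0, .swap 1, .swap 2, .swap 1, .swap 0, .swap 3, .swap 2, .swap 2, .swap 1, .swap 3]⟩,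
  ⟨(11, 19), [0, 19, 11], [.swap 0], [.swap 1, .swap 1, .swap 2, .swap 1, .swap 1, .swap 0, .swap 2, .cancel 3]⟩,
  ⟨(27, 7), [11, 38, 7], [.swap 0, .swap 0, .swap 1, .swap 2, .swap 2, .swap 1, .swap 0, .swap 0, .swap 1, .swap 4], [.swap 1, .swap 0, .swap 0, .swap 1, .swap 2, .swap 1, .swap 0, .swap 3, .swap 2, .swap 2, .swap 1, .swap 3]⟩,
  ⟨(7, 27), [2, 27, 7], [.swap 0, .swap 1, .swap 0, .swap 2, .swap 1], [.swap 1, .swap 1, .swap 2, .swap 1, .swap 1, .swap 0, .swap 1, .swap 0, .swap 2, .swap 1, .swap 4, .cancel 5]⟩,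
  ⟨(18, 13), [18, 39, 3], [.swap 0, .swap 0, .swap 1, .swap 2, .swap 2, .swap 1, .swap 0, .swap 0, .swap 1, .swap 4], [.swap 1, .swap 0, .swap 0, .swap 1, .swap 2, .swap 1, .swap 0, .swap 3, .swap 2, .swap 2, .swap 1, .swap 3]⟩,
  ⟨(13, 18), [0, 13, 18], [.swap 0], [.swap 1, .swap 1, .swap 2, .swap 1, .swap 1, .swap 0, .swap 2, .cancel 3]⟩,
  ⟨(20, 11), [13, 33, 11], [.swap 0, .swap 0, .swap 1, .swap 2, .swap 2, .swap 1, .swap 0, .swap 0, .swap 1, .swap 4], [.swap 1, .swap 0, .swap 0, .swap 1, .swap 2, .swap 1, .swap 0, .swap 3, .swap 2, .swap 2, .swap 1, .swap 3]⟩,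
  ⟨(11, 20), [0, 20, 11], [.swap 0], [.swap 1, .swap 1, .swap 2, .swap 1, .swap 1, .swap 0, .swap 2, .cancel 3]⟩,
  ⟨(28, 7), [11, 39, 7], [.swap 0, .swap 0, .swap 1, .swap 2, .swap 2, .swap 1, .swap 0, .swap 0, .swap 1, .swap 4], [.swap 1, .swap 0, .swap 0, .swap 1, .swap 2, .swap 1, .swap 0, .swap 3, .swap 2, .swap 2, .swap 1, .swap 3]⟩,
  ⟨(7, 28), [1, 28, 7], [.swap 0, .swap 1, .swap 0, .swap 2, .swap 1], [.swap 1, .swap 1, .swap 2, .swap 1, .swap 1, .swap 0, .swap 1, .swap 0, .swap 2, .swap 1, .swap 4, .cancel 5]⟩,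
  ⟨(19, 13), [19, 39, 3], [.swap 0, .swap 0, .swap 1, .swap 2, .swap 2, .swap 1, .swap 0, .swap 0, .swap 1, .swap 4], [.swap 1, .swap 0, .swap 0, .swap 1, .swap 2, .swap 1, .swap 0, .swap 3, .swap 2, .swap 2, .swap 1, .swap 3]⟩,
  ⟨(13, 19), [1, 13, 19], [.swap 0], [.swap 1, .swap 1, .swap 2, .swap 1, .swap 1, .swap 0, .swap 2, .cancel 3]⟩,
  ⟨(20, 12), [13, 33, 12], [.swap 0, .swap 0, .swap 1, .swap 2, .swap 2, .swap 1, .swap 0, .swap 0, .swap 1, .swap 4], [.swap 1, .swap 0, .swap 0, .swap 1, .swap 2, .swap 1, .swap 0, .swap 3, .swap 2, .swap 2, .swap 1, .swap 3]⟩,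
  ⟨(12, 20), [1, 20, 12], [.swap 0], [.swap 1, .swap 1, .swap 2, .swap 1, .swap 1, .swap 0, .swap 2, .cancel 3]⟩,
  ⟨(29, 7), [12, 39, 7], [.swap 0, .swap 0, .swap 1, .swap 2, .swap 2, .swap 1, .swap 0, .swap 0, .swap 1, .swap 4], [.swap 1, .swap 0, .swap 0, .swap 1, .swap 2, .swap 1, .swap 0, .swap 3, .swap 2, .swap 2, .swap 1, .swap 3]⟩,
  ⟨(7, 29), [0, 29, 7], [.swap 0, .swap 1, .swap 0, .swap 2, .swap 1], [.swap 1, .swap 1, .swap 2, .swap 1, .swap 1, .swap 0, .swap 1, .swap 0, .swap 2, .swap 1, .swap 4, .cancel 5]⟩,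
  ⟨(22, 5), [21, 24, 5], [.swap 0, .swap 0, .swap 1, .swap 2, .swap 2, .swap 1, .swap 0, .swap 0, .swap 1, .swap 4], [.swap 1, .swap 0, .swap 0, .swap 1, .swap 2, .swap 1, .swap 0, .swap 3, .swap 2, .swap 2, .swap 1, .swap 3]⟩,
  ⟨(5, 22), [4, 5, 22], [.swap 0, .swap 1], [.swap 1, .cancel 0, .swap 0, .swap 0, .swap 1]⟩,
  ⟨(30, 1), [5, 45, 1], [.swap 0, .swap 0, .swap 1, .swap 2, .swap 2, .swap 1, .swap 0, .swap 0, .swap 1, .swap 2, .swap 2, .swap 3, .cancel 4], [.swap 1, .swap 1, .swap 0, .swap 2, .swap 1, .swap 1, .swap 2, .swap 3]⟩,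
  ⟨(1, 30), [1, 30, 0], [.swap 0, .swap 0, .swap 1, .swap 0, .swap 0, .swap 1, .cancel 2, .swap 1, .swap 0], [.swap 1, .swap 0]⟩]

/-- Rewriting steps, part 2. -/
def block2 : List (Eqn 48) := [
  ⟨(22, 16), [21, 24, 16], [.swap 0, .swap 0, .swap 1, .swap 2, .swap 2, .swap 1, .swap 0, .swap 0, .swap 1, .swap 4], [.swap 1, .swap 0, .swap 0, .swap 1, .swap 2, .swap 1, .swap 0, .swap 3, .swap 2, .swap 2, .swap 1, .swap 3]⟩,
  ⟨(16, 22), [15, 16, 22], [.swap 0, .swap 1], [.swap 1, .cancel 0, .swap 0, .swap 0, .swap 1]⟩,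
  ⟨(41, 1), [16, 45, 1], [.swap 0, .swap 0, .swap 1, .swap 2, .swap 2, .swap 1, .swap 0, .swap 0, .swap 1, .swap 2, .swap 2, .swap 3, .cancel 4], [.swap 1, .swap 1, .swap 0, .swap 2, .swap 1, .swap 1, .swap 2, .swap 3]⟩,
  ⟨(1, 41), [1, 41, 0], [.swap 0, .swap 0, .swap 1, .swap 0, .swap 0, .swap 1, .cancel 2, .swap 1, .swap 0], [.swap 1, .swap 0]⟩,
  ⟨(25, 4), [25, 31, 0], [.swap 0, .swap 0, .swap 1, .swap 2, .swap 2, .swap 1, .swap 0, .swap 0, .swap 1, .swap 4], [.swap 1, .swap 0, .swap 0, .swap 1, .swap 2, .swap 1, .swap 0, .swap 3, .swap 2, .swap 2, .swap 1, .swap 3]⟩,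
  ⟨(4, 25), [4, 25, 0], [.swap 0, .swap 0, .swap 1, .swap 0, .swap 0, .swap 1, .cancel 2, .swap 1, .swap 0], [.swap 1, .swap 0]⟩,
  ⟨(30, 2), [4, 46, 2], [.swap 0, .swap 0, .swap 1, .swap 2, .swap 2, .swap 1, .swap 0, .swap 0, .swap 1, .swap 2, .swap 2, .swap 3, .cancel 4], [.swap 1, .swap 1, .swap 0, .swap 2, .swap 1, .swap 1, .swap 2, .swap 3]⟩,
  ⟨(2, 30), [2, 30, 0], [.swap 0, .swap 0, .swap 1, .swap 0, .swap 0, .swap 1, .cancel 2, .swap 1, .swap 0], [.swap 1, .swap 0]⟩,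
  ⟨(23, 6), [23, 26, 4], [.swap 0, .swap 0, .swap 1, .swap 2, .swap 2, .swap 1, .swap 0, .swap 0, .swap 1, .swap 4], [.swap 1, .swap 0, .swap 0, .swap 1, .swap 2, .swap 1, .swap 0, .swap 3, .swap 2, .swap 2, .swap 1, .swap 3]⟩,
  ⟨(6, 23), [5, 6, 23], [.swap 0, .swap 1], [.swap 1, .cancel 0, .swap 0, .swap 0, .swap 1]⟩,
  ⟨(25, 15), [25, 42, 0], [.swap 0, .swap 0, .swap 1, .swap 2, .swap 2, .swap 1, .swap 0, .swap 0, .swap 1, .swap 4], [.swap 1, .swap 0, .swap 0, .swap 1, .swap 2, .swap 1, .swap 0, .swap 3, .swap 2, .swap 2, .swap 1, .swap 3]⟩,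
  ⟨(15, 25), [15, 25, 0], [.swap 0, .swap 0, .swap 1, .swap 0, .swap 0, .swap 1, .cancel 2, .swap 1, .swap 0], [.swap 1, .swap 0]⟩,
  ⟨(41, 2), [15, 46, 2], [.swap 0, .swap 0, .swap 1, .swap 2, .swap 2, .swap 1, .swap 0, .swap 0, .swap 1, .swap 2, .swap 2, .swap 3, .cancel 4], [.swap 1, .swap 1, .swap 0, .swap 2, .swap 1, .swap 1, .swap 2, .swap 3]⟩,
  ⟨(2, 41), [2, 41, 0], [.swap 0, .swap 0, .swap 1, .swap 0, .swap 0, .swap 1, .cancel 2, .swap 1, .swap 0], [.swap 1, .swap 0]⟩,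
  ⟨(23, 17), [23, 26, 15], [.swap 0, .swap 0, .swap 1, .swap 2, .swap 2, .swap 1, .swap 0, .swap 0, .swap 1, .swap 4], [.swap 1, .swap 0, .swap 0, .swap 1, .swap 2, .swap 1, .swap 0, .swap 3, .swap 2, .swap 2, .swap 1, .swap 3]⟩,
  ⟨(17, 23), [16, 17, 23], [.swap 0, .swap 1], [.swap 1, .cancel 0, .swap 0, .swap 0, .swap 1]⟩,
  ⟨(26, 4), [26, 30, 1], [.swap 0, .swap 0, .swap 1, .swap 2, .swap 2, .swap 1, .swap 0, .swap 0, .swap 1, .swap 4], [.swap 1, .swap 0, .swap 0, .swap 1, .swap 2, .swap 1, .swap 0, .swap 3, .swap 2, .swap 2, .swap 1, .swap 3]⟩,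
  ⟨(4, 26), [4, 26, 1], [.swap 0, .swap 0, .swap 1, .swap 0, .swap 0, .swap 1, .cancel 2, .swap 1, .swap 0], [.swap 1, .swap 0]⟩,
  ⟨(24, 5), [24, 25, 4], [.swap 0, .swap 0, .swap 1, .swap 2, .swap 2, .swap 1, .swap 0, .swap 0, .swap 1, .swap 4], [.swap 1, .swap 0, .swap 0, .swap 1, .swap 2, .swap 1, .swap 0, .swap 3, .swap 2, .swap 2, .swap 1, .swap 3]⟩,
  ⟨(5, 24), [5, 24, 1], [.swap 0, .swap 0, .swap 1, .swap 0, .swap 0, .swap 1, .cancel 2, .swap 1, .swap 0], [.swap 1, .swap 0]⟩,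
  ⟨(31, 2), [24, 30, 2], [.swap 0, .swap 0, .swap 1, .swap 2, .swap 2, .swap 1, .swap 0, .swap 0, .swap 1, .swap 4], [.swap 1, .swap 0, .swap 0, .swap 1, .swap 2, .swap 1, .swap 0, .swap 3, .swap 2, .swap 2, .swap 1, .swap 3]⟩,
  ⟨(2, 31), [2, 31, 0], [.swap 0, .swap 0, .swap 1, .swap 0, .swap 0, .swap 1, .cancel 2, .swap 1, .swap 1, .swap 0, .swap 2], [.swap 1, .swap 1, .swap 0, .swap 2]⟩,
  ⟨(26, 15), [26, 41, 1], [.swap 0, .swap 0, .swap 1, .swap 2, .swap 2, .swap 1, .swap 0, .swap 0, .swap 1, .swap 4], [.swap 1, .swap 0, .swap 0, .swap 1, .swap 2, .swap 1, .swap 0, .swap 3, .swap 2, .swap 2, .swap 1, .swap 3]⟩,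
  ⟨(15, 26), [15, 26, 1], [.swap 0, .swap 0, .swap 1, .swap 0, .swap 0, .swap 1, .cancel 2, .swap 1, .swap 0], [.swap 1, .swap 0]⟩,
  ⟨(24, 16), [24, 25, 15], [.swap 0, .swap 0, .swap 1, .swap 2, .swap 2, .swap 1, .swap 0, .swap 0, .swap 1, .swap 4], [.swap 1, .swap 0, .swap 0, .swap 1, .swap 2, .swap 1, .swap 0, .swap 3, .swap 2, .swap 2, .swap 1, .swap 3]⟩,
  ⟨(16, 24), [16, 24, 1], [.swap 0, .swap 0, .swap 1, .swap 0, .swap 0, .swap 1, .cancel 2, .swap 1, .swap 0], [.swap 1, .swap 0]⟩,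
  ⟨(42, 2), [24, 41, 2], [.swap 0, .swap 0, .swap 1, .swap 2, .swap 2, .swap 1, .swap 0, .swap 0, .swap 1, .swap 4], [.swap 1, .swap 0, .swap 0, .swap 1, .swap 2, .swap 1, .swap 0, .swap 3, .swap 2, .swap 2, .swap 1, .swap 3]⟩,
  ⟨(2, 42), [2, 42, 0], [.swap 0, .swap 0, .swap 1, .swap 0, .swap 0, .swap 1, .cancel 2, .swap 1, .swap 1, .swap 0, .swap 2], [.swap 1, .swap 1, .swap 0, .swap 2]⟩,
  ⟨(27, 9), [27, 35, 3], [.swap 0, .swap 0, .swap 1, .swap 2, .swap 2, .swap 1, .swap 0, .swap 0, .swap 1, .swap 4], [.swap 1, .swap 0, .swap 0, .swap 1, .swap 2, .swap 1, .swap 0, .swap 3, .swap 2, .swap 2, .swap 1, .swap 3]⟩,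
  ⟨(9, 27), [0, 27, 9], [.swap 0], [.swap 1, .swap 1, .swap 2, .swap 1, .swap 1, .swap 0, .swap 2, .cancel 3]⟩,
  ⟨(28, 8), [9, 40, 8], [.swap 0, .swap 0, .swap 1, .swap 2, .swap 2, .swap 1, .swap 0, .swap 0, .swap 1, .swap 4], [.swap 1, .swap 0, .swap 0, .swap 1, .swap 2, .swap 1, .swap 0, .swap 3, .swap 2, .swap 2, .swap 1, .swap 3]⟩,
  ⟨(8, 28), [0, 8, 28], [.swap 0], [.swap 1, .swap 1, .swap 2, .swap 1, .swap 1, .swap 0, .swap 2, .cancel 3]⟩,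
  ⟨(14, 18), [14, 34, 9], [.swap 0, .swap 0, .swap 1, .swap 2, .swap 2, .swap 1, .swap 0, .swap 0, .swap 1, .swap 4], [.swap 1, .swap 0, .swap 0, .swap 1, .swap 2, .swap 1, .swap 0, .swap 3, .swap 2, .swap 2, .swap 1, .swap 3]⟩,
  ⟨(18, 14), [0, 14, 18], [.swap 0], [.swap 1, .swap 1, .swap 2, .swap 1, .swap 1, .swap 0, .swap 2, .cancel 3]⟩,
  ⟨(27, 10), [27, 36, 3], [.swap 0, .swap 0, .swap 1, .swap 2, .swap 2, .swap 1, .swap 0, .swap 0, .swap 1, .swap 4], [.swap 1, .swap 0, .swap 0, .swap 1, .swap 2, .swap 1, .swap 0, .swap 3, .swap 2, .swap 2, .swap 1, .swap 3]⟩,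
  ⟨(10, 27), [1, 27, 10], [.swap 0], [.swap 1, .swap 1, .swap 2, .swap 1, .swap 1, .swap 0, .swap 2, .cancel 3]⟩,
  ⟨(29, 8), [10, 40, 8], [.swap 0, .swap 0, .swap 1, .swap 2, .swap 2, .swap 1, .swap 0, .swap 0, .swap 1, .swap 4], [.swap 1, .swap 0, .swap 0, .swap 1, .swap 2, .swap 1, .swap 0, .swap 3, .swap 2, .swap 2, .swap 1, .swap 3]⟩,
  ⟨(8, 29), [0, 29, 8], [.swap 0, .swap 1, .swap 0, .swap 2, .swap 1], [.swap 1, .swap 1, .swap 2, .swap 1, .swap 1, .swap 0, .swap 1, .swap 0, .swap 2, .swap 1, .swap 4, .cancel 5]⟩,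
  ⟨(14, 19), [14, 34, 10], [.swap 0, .swap 0, .swap 1, .swap 2, .swap 2, .swap 1, .swap 0, .swap 0, .swap 1, .swap 4], [.swap 1, .swap 0, .swap 0, .swap 1, .swap 2, .swap 1, .swap 0, .swap 3, .swap 2, .swap 2, .swap 1, .swap 3]⟩,
  ⟨(19, 14), [1, 14, 19], [.swap 0], [.swap 1, .swap 1, .swap 2, .swap 1, .swap 1, .swap 0, .swap 2, .cancel 3]⟩,
  ⟨(28, 10), [28, 36, 3], [.swap 0, .swap 0, .swap 1, .swap 2, .swap 2, .swap 1, .swap 0, .swap 0, .swap 1, .swap 4], [.swap 1, .swap 0, .swap 0, .swap 1, .swap 2, .swap 1, .swap 0, .swap 3, .swap 2, .swap 2, .swap 1, .swap 3]⟩,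
  ⟨(10, 28), [1, 28, 10], [.swap 0, .swap 1, .swap 0, .swap 2, .swap 1], [.swap 1, .swap 1, .swap 2, .swap 1, .swap 1, .swap 0, .swap 1, .swap 0, .swap 2, .swap 1, .swap 4, .cancel 5]⟩,
  ⟨(29, 9), [10, 40, 9], [.swap 0, .swap 0, .swap 1, .swap 2, .swap 2, .swap 1, .swap 0, .swap 0, .swap 1, .swap 4], [.swap 1, .swap 0, .swap 0, .swap 1, .swap 2, .swap 1, .swap 0, .swap 3, .swap 2, .swap 2, .swap 1, .swap 3]⟩,
  ⟨(9, 29), [0, 29, 9], [.swap 0, .swap 1, .swap 0, .swap 2, .swap 1], [.swap 1, .swap 1, .swap 2, .swap 1, .swap 1, .swap 0, .swap 1, .swap 0, .swap 2, .swap 1, .swap 4, .cancel 5]⟩,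
  ⟨(14, 20), [14, 35, 10], [.swap 0, .swap 0, .swap 1, .swap 2, .swap 2, .swap 1, .swap 0, .swap 0, .swap 1, .swap 4], [.swap 1, .swap 0, .swap 0, .swap 1, .swap 2, .swap 1, .swap 0, .swap 3, .swap 2, .swap 2, .swap 1, .swap 3]⟩,
  ⟨(20, 14), [2, 14, 20], [.swap 0], [.swap 1, .swap 1, .swap 2, .swap 1, .swap 1, .swap 0, .swap 2, .cancel 3]⟩,
  ⟨(28, 12), [28, 38, 3], [.swap 0, .swap 0, .swap 1, .swap 2, .swap 2, .swap 1, .swap 0, .swap 0, .swap 1, .swap 4], [.swap 1, .swap 0, .swap 0, .swap 1, .swap 2, .swap 1, .swap 0, .swap 3, .swap 2, .swap 2, .swap 1, .swap 3]⟩,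
  ⟨(12, 28), [1, 28, 12], [.swap 0, .swap 1, .swap 0, .swap 2, .swap 1], [.swap 1, .swap 1, .swap 2, .swap 1, .swap 1, .swap 0, .swap 1, .swap 0, .swap 2, .swap 1, .swap 4, .cancel 5]⟩,
  ⟨(29, 11), [12, 39, 11], [.swap 0, .swap 0, .swap 1, .swap 2, .swap 2, .swap 1, .swap 0, .swap 0, .swap 1, .swap 4], [.swap 1, .swap 0, .swap 0, .swap 1, .swap 2, .swap 1, .swap 0, .swap 3, .swap 2, .swap 2, .swap 1, .swap 3]⟩,
  ⟨(11, 29), [0, 29, 11], [.swap 0, .swap 1, .swap 0, .swap 2, .swap 1], [.swap 1, .swap 1, .swap 2, .swap 1, .swap 1, .swap 0, .swap 1, .swap 0, .swap 2, .swap 1, .swap 4, .cancel 5]⟩,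
  ⟨(13, 27), [13, 37, 12], [.swap 0, .swap 0, .swap 1, .swap 2, .swap 2, .swap 1, .swap 0, .swap 0, .swap 1, .swap 4], [.swap 1, .swap 0, .swap 0, .swap 1, .swap 2, .swap 1, .swap 0, .swap 3, .swap 2, .swap 2, .swap 1, .swap 3]⟩,
  ⟨(27, 13), [2, 27, 13], [.swap 0, .swap 1, .swap 0, .swap 2, .swap 1], [.swap 1, .swap 1, .swap 2, .swap 1, .swap 1, .swap 0, .swap 1, .swap 0, .swap 2, .swap 1, .swap 4, .cancel 5]⟩]

/-- Rewriting steps, part 3. -/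
def block3 : List (Eqn 48) := [
  ⟨(30, 15), [30, 42, 0], [.swap 0, .swap 0, .swap 1, .swap 2, .swap 2, .swap 1, .swap 0, .swap 0, .swap 1, .swap 4], [.swap 1, .swap 0, .swap 0, .swap 1, .swap 2, .swap 1, .swap 0, .swap 3, .swap 2, .swap 2, .swap 1, .swap 3]⟩,
  ⟨(15, 30), [15, 30, 0], [.swap 0, .swap 0, .swap 1, .swap 0, .swap 0, .swap 1, .cancel 2, .swap 1, .swap 0], [.swap 1, .swap 0]⟩,
  ⟨(41, 4), [15, 46, 4], [.swap 0, .swap 0, .swap 1, .swap 2, .swap 2, .swap 1, .swap 0, .swap 0, .swap 1, .swap 2, .swap 2, .swap 3, .cancel 4], [.swap 1, .swap 1, .swap 0, .swap 2, .swap 1, .swap 1, .swap 2, .swap 3]⟩,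
  ⟨(4, 41), [4, 41, 0], [.swap 0, .swap 0, .swap 1, .swap 0, .swap 0, .swap 1, .cancel 2, .swap 1, .swap 0], [.swap 1, .swap 0]⟩,
  ⟨(23, 22), [23, 31, 15], [.swap 0, .swap 0, .swap 1, .swap 2, .swap 2, .swap 1, .swap 0, .swap 0, .swap 1, .swap 4], [.swap 1, .swap 0, .swap 0, .swap 1, .swap 2, .swap 1, .swap 0, .swap 3, .swap 2, .swap 2, .swap 1, .swap 3]⟩,
  ⟨(22, 23), [21, 22, 23], [.swap 0, .swap 1], [.swap 1, .cancel 0, .swap 0, .swap 0, .swap 1]⟩,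
  ⟨(31, 15), [31, 41, 1], [.swap 0, .swap 0, .swap 1, .swap 2, .swap 2, .swap 1, .swap 0, .swap 0, .swap 1, .swap 4], [.swap 1, .swap 0, .swap 0, .swap 1, .swap 2, .swap 1, .swap 0, .swap 3, .swap 2, .swap 2, .swap 1, .swap 3]⟩,
  ⟨(15, 31), [15, 31, 1], [.swap 0, .swap 0, .swap 1, .swap 0, .swap 0, .swap 1, .cancel 2, .swap 1, .swap 0], [.swap 1, .swap 0]⟩,
  ⟨(24, 21), [24, 30, 15], [.swap 0, .swap 0, .swap 1, .swap 2, .swap 2, .swap 1, .swap 0, .swap 0, .swap 1, .swap 4], [.swap 1, .swap 0, .swap 0, .swap 1, .swap 2, .swap 1, .swap 0, .swap 3, .swap 2, .swap 2, .swap 1, .swap 3]⟩,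
  ⟨(21, 24), [21, 24, 1], [.swap 0, .swap 0, .swap 1, .swap 0, .swap 0, .swap 1, .cancel 2, .swap 1, .swap 0], [.swap 1, .swap 0]⟩,
  ⟨(42, 4), [24, 41, 4], [.swap 0, .swap 0, .swap 1, .swap 2, .swap 2, .swap 1, .swap 0, .swap 0, .swap 1, .swap 4], [.swap 1, .swap 0, .swap 0, .swap 1, .swap 2, .swap 1, .swap 0, .swap 3, .swap 2, .swap 2, .swap 1, .swap 3]⟩,
  ⟨(4, 42), [4, 42, 0], [.swap 0, .swap 0, .swap 1, .swap 0, .swap 0, .swap 1, .cancel 2, .swap 1, .swap 1, .swap 0, .swap 2], [.swap 1, .swap 1, .swap 0, .swap 2]⟩,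
  ⟨(32, 16), [32, 41, 2], [.swap 0, .swap 0, .swap 1, .swap 2, .swap 2, .swap 1, .swap 0, .swap 0, .swap 1, .swap 4], [.swap 1, .swap 0, .swap 0, .swap 1, .swap 2, .swap 1, .swap 0, .swap 3, .swap 2, .swap 2, .swap 1, .swap 3]⟩,
  ⟨(16, 32), [16, 32, 2], [.swap 0, .swap 0, .swap 1, .swap 0, .swap 0, .swap 1, .cancel 2, .swap 1, .swap 0], [.swap 1, .swap 0]⟩,
  ⟨(26, 23), [26, 30, 16], [.swap 0, .swap 0, .swap 1, .swap 2, .swap 2, .swap 1, .swap 0, .swap 0, .swap 1, .swap 4], [.swap 1, .swap 0, .swap 0, .swap 1, .swap 2, .swap 1, .swap 0, .swap 3, .swap 2, .swap 2, .swap 1, .swap 3]⟩,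
  ⟨(23, 26), [23, 26, 1], [.swap 0, .swap 0, .swap 1, .swap 0, .swap 0, .swap 1, .cancel 2, .swap 1, .swap 0, .swap 0, .swap 1], [.swap 1, .swap 0, .swap 0, .swap 1]⟩,
  ⟨(43, 5), [26, 41, 5], [.swap 0, .swap 0, .swap 1, .swap 2, .swap 2, .swap 1, .swap 0, .swap 0, .swap 1, .swap 4], [.swap 1, .swap 0, .swap 0, .swap 1, .swap 2, .swap 1, .swap 0, .swap 3, .swap 2, .swap 2, .swap 1, .swap 3]⟩,
  ⟨(5, 43), [5, 43, 0], [.swap 0, .swap 0, .swap 1, .swap 0, .swap 0, .swap 1, .cancel 2, .swap 1, .swap 1, .swap 0, .swap 2], [.swap 1, .swap 1, .swap 0, .swap 2]⟩,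
  ⟨(32, 21), [32, 41, 4], [.swap 0, .swap 0, .swap 1, .swap 2, .swap 2, .swap 1, .swap 0, .swap 0, .swap 1, .swap 4], [.swap 1, .swap 0, .swap 0, .swap 1, .swap 2, .swap 1, .swap 0, .swap 3, .swap 2, .swap 2, .swap 1, .swap 3]⟩,
  ⟨(21, 32), [21, 32, 2], [.swap 0, .swap 0, .swap 1, .swap 0, .swap 0, .swap 1, .cancel 2, .swap 1, .swap 0, .swap 0, .swap 1], [.swap 1, .swap 0, .swap 0, .swap 1]⟩,
  ⟨(31, 23), [31, 25, 21], [.swap 0, .swap 0, .swap 1, .swap 2, .swap 2, .swap 1, .swap 0, .swap 0, .swap 1, .swap 4], [.swap 1, .swap 0, .swap 0, .swap 1, .swap 2, .swap 1, .swap 0, .swap 3, .swap 2, .swap 2, .swap 1, .swap 3]⟩,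
  ⟨(23, 31), [23, 31, 1], [.swap 0, .swap 0, .swap 1, .swap 0, .swap 0, .swap 1, .cancel 2, .swap 1, .swap 0, .swap 0, .swap 1], [.swap 1, .swap 0, .swap 0, .swap 1]⟩,
  ⟨(45, 5), [31, 41, 5], [.swap 0, .swap 0, .swap 1, .swap 2, .swap 2, .swap 1, .swap 0, .swap 0, .swap 1, .swap 4], [.swap 1, .swap 0, .swap 0, .swap 1, .swap 2, .swap 1, .swap 0, .swap 3, .swap 2, .swap 2, .swap 1, .swap 3]⟩,
  ⟨(5, 45), [5, 45, 0], [.swap 0, .swap 0, .swap 1, .swap 0, .swap 0, .swap 1, .cancel 2, .swap 1, .swap 1, .swap 0, .swap 2], [.swap 1, .swap 1, .swap 0, .swap 2]⟩,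
  ⟨(42, 32), [32, 41, 24], [.swap 0, .swap 0, .swap 1, .swap 2, .swap 2, .swap 1, .swap 0, .swap 0, .swap 1, .swap 2, .swap 2, .swap 3, .cancel 4], [.swap 1, .swap 1, .swap 0, .swap 2, .swap 1, .swap 1, .swap 2, .swap 3]⟩,
  ⟨(32, 42), [32, 42, 1], [.swap 0, .swap 0, .swap 1, .swap 0, .swap 0, .swap 1, .cancel 2, .swap 1, .swap 0, .swap 0, .swap 1], [.swap 1, .swap 0, .swap 0, .swap 1]⟩,
  ⟨(41, 32), [32, 42, 23], [.swap 0, .swap 0, .swap 1, .swap 2, .swap 2, .swap 1, .swap 0, .swap 0, .swap 1, .swap 2, .swap 2, .swap 3, .cancel 4], [.swap 1, .swap 1, .swap 0, .swap 2, .swap 1, .swap 1, .swap 2, .swap 3]⟩,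
  ⟨(32, 41), [32, 41, 0], [.swap 0, .swap 0, .swap 1, .swap 0, .swap 0, .swap 1, .cancel 2, .swap 1, .swap 0, .swap 0, .swap 1], [.swap 1, .swap 0, .swap 0, .swap 1]⟩,
  ⟨(34, 9), [34, 28, 7], [.swap 0, .swap 0, .swap 1, .swap 2, .swap 2, .swap 1, .swap 0, .swap 0, .swap 1, .swap 4], [.swap 1, .swap 0, .swap 0, .swap 1, .swap 2, .swap 1, .swap 0, .swap 3, .swap 2, .swap 2, .swap 1, .swap 3]⟩,
  ⟨(9, 34), [2, 34, 9], [.swap 0, .swap 1, .swap 0, .swap 2, .swap 1, .swap 3], [.swap 1, .swap 1, .swap 2, .swap 1, .swap 1, .swap 0, .swap 1, .swap 0, .swap 2, .swap 1, .swap 4, .swap 3, .cancel 5]⟩,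
  ⟨(33, 11), [33, 27, 9], [.swap 0, .swap 0, .swap 1, .swap 2, .swap 2, .swap 1, .swap 0, .swap 0, .swap 1, .swap 4], [.swap 1, .swap 0, .swap 0, .swap 1, .swap 2, .swap 1, .swap 0, .swap 3, .swap 2, .swap 2, .swap 1, .swap 3]⟩,
  ⟨(11, 33), [4, 33, 11], [.swap 0, .swap 1, .swap 0, .swap 2, .swap 1, .swap 3], [.swap 1, .swap 1, .swap 2, .swap 1, .swap 1, .swap 0, .swap 1, .swap 0, .swap 2, .swap 1, .swap 4, .swap 3, .cancel 5]⟩,
  ⟨(35, 8), [33, 28, 8], [.swap 0, .swap 0, .swap 1, .swap 2, .swap 2, .swap 1, .swap 0, .swap 0, .swap 1, .swap 4], [.swap 1, .swap 0, .swap 0, .swap 1, .swap 2, .swap 1, .swap 0, .swap 3, .swap 2, .swap 2, .swap 1, .swap 3]⟩,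
  ⟨(8, 35), [0, 8, 35], [.swap 0], [.swap 1, .swap 1, .swap 2, .swap 1, .swap 1, .swap 0, .swap 2, .cancel 3]⟩,
  ⟨(34, 10), [34, 29, 7], [.swap 0, .swap 0, .swap 1, .swap 2, .swap 2, .swap 1, .swap 0, .swap 0, .swap 1, .swap 4], [.swap 1, .swap 0, .swap 0, .swap 1, .swap 2, .swap 1, .swap 0, .swap 3, .swap 2, .swap 2, .swap 1, .swap 3]⟩,
  ⟨(10, 34), [2, 34, 10], [.swap 0, .swap 1, .swap 0, .swap 2, .swap 1, .swap 3], [.swap 1, .swap 1, .swap 2, .swap 1, .swap 1, .swap 0, .swap 1, .swap 0, .swap 2, .swap 1, .swap 4, .swap 3, .cancel 5]⟩,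
  ⟨(33, 12), [33, 27, 10], [.swap 0, .swap 0, .swap 1, .swap 2, .swap 2, .swap 1, .swap 0, .swap 0, .swap 1, .swap 4], [.swap 1, .swap 0, .swap 0, .swap 1, .swap 2, .swap 1, .swap 0, .swap 3, .swap 2, .swap 2, .swap 1, .swap 3]⟩,
  ⟨(12, 33), [4, 33, 12], [.swap 0, .swap 1, .swap 0, .swap 2, .swap 1, .swap 3], [.swap 1, .swap 1, .swap 2, .swap 1, .swap 1, .swap 0, .swap 1, .swap 0, .swap 2, .swap 1, .swap 4, .swap 3, .cancel 5]⟩,
  ⟨(36, 8), [33, 29, 8], [.swap 0, .swap 0, .swap 1, .swap 2, .swap 2, .swap 1, .swap 0, .swap 0, .swap 1, .swap 4], [.swap 1, .swap 0, .swap 0, .swap 1, .swap 2, .swap 1, .swap 0, .swap 3, .swap 2, .swap 2, .swap 1, .swap 3]⟩,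
  ⟨(8, 36), [0, 36, 8], [.swap 0, .swap 1, .swap 0, .swap 2, .swap 1, .swap 3], [.swap 1, .swap 1, .swap 2, .swap 1, .swap 1, .swap 0, .swap 1, .swap 0, .swap 2, .swap 1, .swap 4, .swap 3, .cancel 5]⟩,
  ⟨(35, 10), [35, 29, 7], [.swap 0, .swap 0, .swap 1, .swap 2, .swap 2, .swap 1, .swap 0, .swap 0, .swap 1, .swap 4], [.swap 1, .swap 0, .swap 0, .swap 1, .swap 2, .swap 1, .swap 0, .swap 3, .swap 2, .swap 2, .swap 1, .swap 3]⟩,
  ⟨(10, 35), [0, 10, 35], [.swap 0], [.swap 1, .swap 1, .swap 2, .swap 1, .swap 1, .swap 0, .swap 2, .cancel 3]⟩,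
  ⟨(33, 13), [33, 28, 10], [.swap 0, .swap 0, .swap 1, .swap 2, .swap 2, .swap 1, .swap 0, .swap 0, .swap 1, .swap 4], [.swap 1, .swap 0, .swap 0, .swap 1, .swap 2, .swap 1, .swap 0, .swap 3, .swap 2, .swap 2, .swap 1, .swap 3]⟩,
  ⟨(13, 33), [5, 33, 13], [.swap 0, .swap 1, .swap 0, .swap 2, .swap 1, .swap 3], [.swap 1, .swap 1, .swap 2, .swap 1, .swap 1, .swap 0, .swap 1, .swap 0, .swap 2, .swap 1, .swap 4, .swap 3, .cancel 5]⟩,
  ⟨(36, 9), [33, 29, 9], [.swap 0, .swap 0, .swap 1, .swap 2, .swap 2, .swap 1, .swap 0, .swap 0, .swap 1, .swap 4], [.swap 1, .swap 0, .swap 0, .swap 1, .swap 2, .swap 1, .swap 0, .swap 3, .swap 2, .swap 2, .swap 1, .swap 3]⟩,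
  ⟨(9, 36), [0, 36, 9], [.swap 0, .swap 1, .swap 0, .swap 2, .swap 1, .swap 3], [.swap 1, .swap 1, .swap 2, .swap 1, .swap 1, .swap 0, .swap 1, .swap 0, .swap 2, .swap 1, .swap 4, .swap 3, .cancel 5]⟩,
  ⟨(35, 19), [35, 38, 7], [.swap 0, .swap 0, .swap 1, .swap 2, .swap 2, .swap 1, .swap 0, .swap 0, .swap 1, .swap 4], [.swap 1, .swap 0, .swap 0, .swap 1, .swap 2, .swap 1, .swap 0, .swap 3, .swap 2, .swap 2, .swap 1, .swap 3]⟩,
  ⟨(19, 35), [0, 19, 35], [.swap 0], [.swap 1, .swap 1, .swap 2, .swap 1, .swap 1, .swap 0, .swap 2, .cancel 3]⟩,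
  ⟨(36, 18), [19, 39, 18], [.swap 0, .swap 0, .swap 1, .swap 2, .swap 2, .swap 1, .swap 0, .swap 0, .swap 1, .swap 4], [.swap 1, .swap 0, .swap 0, .swap 1, .swap 2, .swap 1, .swap 0, .swap 3, .swap 2, .swap 2, .swap 1, .swap 3]⟩,
  ⟨(18, 36), [0, 36, 18], [.swap 0, .swap 1, .swap 0, .swap 2, .swap 1], [.swap 1, .swap 1, .swap 2, .swap 1, .swap 1, .swap 0, .swap 1, .swap 0, .swap 2, .swap 1, .swap 4, .cancel 5]⟩,
  ⟨(20, 34), [20, 37, 19], [.swap 0, .swap 0, .swap 1, .swap 2, .swap 2, .swap 1, .swap 0, .swap 0, .swap 1, .swap 4], [.swap 1, .swap 0, .swap 0, .swap 1, .swap 2, .swap 1, .swap 0, .swap 3, .swap 2, .swap 2, .swap 1, .swap 3]⟩,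
  ⟨(34, 20), [0, 20, 34], [.swap 0], [.swap 1, .swap 1, .swap 2, .swap 1, .swap 1, .swap 0, .swap 2, .cancel 3]⟩]

/-- Rewriting steps, part 4. -/
def block4 : List (Eqn 48) := [
  ⟨(35, 27), [35, 38, 11], [.swap 0, .swap 0, .swap 1, .swap 2, .swap 2, .swap 1, .swap 0, .swap 0, .swap 1, .swap 4], [.swap 1, .swap 0, .swap 0, .swap 1, .swap 2, .swap 1, .swap 0, .swap 3, .swap 2, .swap 2, .swap 1, .swap 3]⟩,
  ⟨(27, 35), [0, 27, 35], [.swap 0], [.swap 1, .swap 1, .swap 2, .swap 1, .swap 1, .swap 0, .swap 2, .cancel 3]⟩,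
  ⟨(28, 34), [28, 33, 27], [.swap 0, .swap 0, .swap 1, .swap 2, .swap 2, .swap 1, .swap 0, .swap 0, .swap 1, .swap 4], [.swap 1, .swap 0, .swap 0, .swap 1, .swap 2, .swap 1, .swap 0, .swap 3, .swap 2, .swap 2, .swap 1, .swap 3]⟩,
  ⟨(34, 28), [4, 28, 34], [.swap 0], [.swap 1, .swap 1, .swap 2, .swap 1, .swap 1, .swap 0, .swap 2, .cancel 3]⟩,
  ⟨(40, 18), [28, 38, 18], [.swap 0, .swap 0, .swap 1, .swap 2, .swap 2, .swap 1, .swap 0, .swap 0, .swap 1, .swap 2, .swap 2, .swap 3, .cancel 4], [.swap 1, .swap 1, .swap 0, .swap 2, .swap 1, .swap 1, .swap 2, .swap 3]⟩,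
  ⟨(18, 40), [4, 18, 40], [.swap 0], [.swap 1, .swap 1, .swap 2, .swap 1, .swap 1, .swap 0, .swap 2, .cancel 3]⟩,
  ⟨(36, 27), [36, 37, 12], [.swap 0, .swap 0, .swap 1, .swap 2, .swap 2, .swap 1, .swap 0, .swap 0, .swap 1, .swap 4], [.swap 1, .swap 0, .swap 0, .swap 1, .swap 2, .swap 1, .swap 0, .swap 3, .swap 2, .swap 2, .swap 1, .swap 3]⟩,
  ⟨(27, 36), [1, 27, 36], [.swap 0], [.swap 1, .swap 1, .swap 2, .swap 1, .swap 1, .swap 0, .swap 2, .cancel 3]⟩,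
  ⟨(29, 34), [29, 33, 27], [.swap 0, .swap 0, .swap 1, .swap 2, .swap 2, .swap 1, .swap 0, .swap 0, .swap 1, .swap 4], [.swap 1, .swap 0, .swap 0, .swap 1, .swap 2, .swap 1, .swap 0, .swap 3, .swap 2, .swap 2, .swap 1, .swap 3]⟩,
  ⟨(34, 29), [6, 34, 29], [.swap 0, .swap 1, .swap 0, .swap 2, .swap 1], [.swap 1, .swap 1, .swap 2, .swap 1, .swap 1, .swap 0, .swap 1, .swap 0, .swap 2, .swap 1, .swap 4, .cancel 5]⟩,
  ⟨(40, 19), [29, 37, 19], [.swap 0, .swap 0, .swap 1, .swap 2, .swap 2, .swap 1, .swap 0, .swap 0, .swap 1, .swap 2, .swap 2, .swap 3, .cancel 4], [.swap 1, .swap 1, .swap 0, .swap 2, .swap 1, .swap 1, .swap 2, .swap 3]⟩,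
  ⟨(19, 40), [4, 19, 40], [.swap 0], [.swap 1, .swap 1, .swap 2, .swap 1, .swap 1, .swap 0, .swap 2, .cancel 3]⟩,
  ⟨(36, 28), [36, 37, 13], [.swap 0, .swap 0, .swap 1, .swap 2, .swap 2, .swap 1, .swap 0, .swap 0, .swap 1, .swap 4], [.swap 1, .swap 0, .swap 0, .swap 1, .swap 2, .swap 1, .swap 0, .swap 3, .swap 2, .swap 2, .swap 1, .swap 3]⟩,
  ⟨(28, 36), [2, 28, 36], [.swap 0], [.swap 1, .swap 1, .swap 2, .swap 1, .swap 1, .swap 0, .swap 2, .cancel 3]⟩,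
  ⟨(29, 35), [29, 28, 33], [.swap 0, .swap 1, .swap 1, .swap 0, .swap 0, .swap 1, .swap 3], [.swap 1, .swap 0, .swap 0, .swap 1, .swap 2, .swap 1, .swap 1, .swap 0, .swap 2, .swap 4, .swap 3, .swap 3, .swap 2, .swap 1, .swap 4, .cancel 5]⟩,
  ⟨(35, 29), [6, 35, 29], [.swap 0, .swap 1, .swap 0, .swap 2, .swap 1], [.swap 1, .swap 1, .swap 2, .swap 1, .swap 1, .swap 0, .swap 1, .swap 0, .swap 2, .swap 1, .swap 4, .cancel 5]⟩,
  ⟨(40, 20), [29, 37, 20], [.swap 0, .swap 0, .swap 1, .swap 2, .swap 2, .swap 1, .swap 0, .swap 0, .swap 1, .swap 2, .swap 2, .swap 3, .cancel 4], [.swap 1, .swap 1, .swap 0, .swap 2, .swap 1, .swap 1, .swap 2, .swap 3]⟩,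
  ⟨(20, 40), [4, 20, 40], [.swap 0, .swap 1, .swap 0, .swap 2, .swap 1], [.swap 1, .swap 1, .swap 2, .swap 1, .swap 1, .swap 0, .swap 1, .swap 0, .swap 2, .swap 1, .swap 4, .cancel 5]⟩,
  ⟨(37, 12), [37, 29, 8], [.swap 0, .swap 0, .swap 1, .swap 2, .swap 2, .swap 1, .swap 0, .swap 0, .swap 1, .swap 4], [.swap 1, .swap 0, .swap 0, .swap 1, .swap 2, .swap 1, .swap 0, .swap 3, .swap 2, .swap 2, .swap 1, .swap 3]⟩,
  ⟨(12, 37), [0, 12, 37], [.swap 0], [.swap 1, .swap 1, .swap 2, .swap 1, .swap 1, .swap 0, .swap 2, .cancel 3]⟩,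
  ⟨(34, 14), [34, 28, 12], [.swap 0, .swap 0, .swap 1, .swap 2, .swap 2, .swap 1, .swap 0, .swap 0, .swap 1, .swap 4], [.swap 1, .swap 0, .swap 0, .swap 1, .swap 2, .swap 1, .swap 0, .swap 3, .swap 2, .swap 2, .swap 1, .swap 3]⟩,
  ⟨(14, 34), [5, 34, 14], [.swap 0, .swap 1, .swap 0, .swap 2, .swap 1, .swap 3], [.swap 1, .swap 1, .swap 2, .swap 1, .swap 1, .swap 0, .swap 1, .swap 0, .swap 2, .swap 1, .swap 4, .swap 3, .cancel 5]⟩,
  ⟨(38, 11), [34, 29, 11], [.swap 0, .swap 0, .swap 1, .swap 2, .swap 2, .swap 1, .swap 0, .swap 0, .swap 1, .swap 4], [.swap 1, .swap 0, .swap 0, .swap 1, .swap 2, .swap 1, .swap 0, .swap 3, .swap 2, .swap 2, .swap 1, .swap 3]⟩,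
  ⟨(11, 38), [0, 38, 11], [.swap 0, .swap 1, .swap 0, .swap 2, .swap 1, .swap 3], [.swap 1, .swap 1, .swap 2, .swap 1, .swap 1, .swap 0, .swap 1, .swap 0, .swap 2, .swap 1, .swap 4, .swap 3, .cancel 5]⟩,
  ⟨(37, 13), [37, 29, 9], [.swap 0, .swap 0, .swap 1, .swap 2, .swap 2, .swap 1, .swap 0, .swap 0, .swap 1, .swap 4], [.swap 1, .swap 0, .swap 0, .swap 1, .swap 2, .swap 1, .swap 0, .swap 3, .swap 2, .swap 2, .swap 1, .swap 3]⟩,
  ⟨(13, 37), [0, 13, 37], [.swap 0], [.swap 1, .swap 1, .swap 2, .swap 1, .swap 1, .swap 0, .swap 2, .cancel 3]⟩,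
  ⟨(35, 14), [35, 27, 13], [.swap 0, .swap 0, .swap 1, .swap 2, .swap 2, .swap 1, .swap 0, .swap 0, .swap 1, .swap 4], [.swap 1, .swap 0, .swap 0, .swap 1, .swap 2, .swap 1, .swap 0, .swap 3, .swap 2, .swap 2, .swap 1, .swap 3]⟩,
  ⟨(14, 35), [0, 14, 35], [.swap 0], [.swap 1, .swap 1, .swap 2, .swap 1, .swap 1, .swap 0, .swap 2, .cancel 3]⟩,
  ⟨(39, 11), [35, 29, 11], [.swap 0, .swap 0, .swap 1, .swap 2, .swap 2, .swap 1, .swap 0, .swap 0, .swap 1, .swap 4], [.swap 1, .swap 0, .swap 0, .swap 1, .swap 2, .swap 1, .swap 0, .swap 3, .swap 2, .swap 2, .swap 1, .swap 3]⟩,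
  ⟨(11, 39), [0, 39, 11], [.swap 0, .swap 1, .swap 0, .swap 2, .swap 1, .swap 3], [.swap 1, .swap 1, .swap 2, .swap 1, .swap 1, .swap 0, .swap 1, .swap 0, .swap 2, .swap 1, .swap 4, .swap 3, .cancel 5]⟩,
  ⟨(36, 37), [37, 29, 33], [.swap 0, .swap 0, .swap 1, .swap 2, .swap 2, .swap 1, .swap 0, .swap 0, .swap 1, .swap 2, .swap 2, .swap 3, .cancel 4], [.swap 1, .swap 1, .swap 0, .swap 2, .swap 1, .swap 1, .swap 2, .swap 3]⟩,
  ⟨(37, 36), [0, 36, 37], [.swap 0, .swap 1, .swap 0, .swap 2, .swap 1], [.swap 1, .swap 1, .swap 2, .swap 1, .swap 1, .swap 0, .swap 1, .swap 0, .swap 2, .swap 1, .swap 4, .cancel 5]⟩,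
  ⟨(39, 34), [36, 28, 34], [.swap 0, .swap 0, .swap 1, .swap 2, .swap 2, .swap 1, .swap 0, .swap 0, .swap 1, .swap 4], [.swap 1, .swap 0, .swap 0, .swap 1, .swap 2, .swap 1, .swap 0, .swap 3, .swap 2, .swap 2, .swap 1, .swap 3]⟩,
  ⟨(34, 39), [0, 39, 34], [.swap 0, .swap 1, .swap 0, .swap 2, .swap 1], [.swap 1, .swap 1, .swap 2, .swap 1, .swap 1, .swap 0, .swap 1, .swap 0, .swap 2, .swap 1, .swap 4, .cancel 5]⟩,
  ⟨(38, 35), [36, 35, 27], [.swap 0, .swap 1, .swap 1, .swap 0, .swap 0, .swap 1, .swap 3], [.swap 1, .swap 0, .swap 0, .swap 1, .swap 2, .swap 1, .swap 1, .swap 0, .swap 2, .swap 4, .swap 3, .swap 3, .swap 2, .swap 1, .swap 4, .cancel 5]⟩,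
  ⟨(35, 38), [0, 38, 35], [.swap 0, .swap 1, .swap 0, .swap 2, .swap 1], [.swap 1, .swap 1, .swap 2, .swap 1, .swap 1, .swap 0, .swap 1, .swap 0, .swap 2, .swap 1, .swap 4, .cancel 5]⟩,
  ⟨(37, 19), [37, 36, 8], [.swap 0, .swap 0, .swap 1, .swap 2, .swap 2, .swap 1, .swap 0, .swap 0, .swap 1, .swap 4], [.swap 1, .swap 0, .swap 0, .swap 1, .swap 2, .swap 1, .swap 0, .swap 3, .swap 2, .swap 2, .swap 1, .swap 3]⟩,
  ⟨(19, 37), [0, 19, 37], [.swap 0], [.swap 1, .swap 1, .swap 2, .swap 1, .swap 1, .swap 0, .swap 2, .cancel 3]⟩,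
  ⟨(27, 33), [27, 35, 19], [.swap 0, .swap 0, .swap 1, .swap 2, .swap 2, .swap 1, .swap 0, .swap 0, .swap 1, .swap 4], [.swap 1, .swap 0, .swap 0, .swap 1, .swap 2, .swap 1, .swap 0, .swap 3, .swap 2, .swap 2, .swap 1, .swap 3]⟩,
  ⟨(33, 27), [0, 27, 33], [.swap 0], [.swap 1, .swap 1, .swap 2, .swap 1, .swap 1, .swap 0, .swap 2, .cancel 3]⟩,
  ⟨(38, 18), [27, 36, 18], [.swap 0, .swap 0, .swap 1, .swap 2, .swap 2, .swap 1, .swap 0, .swap 0, .swap 1, .swap 4], [.swap 1, .swap 0, .swap 0, .swap 1, .swap 2, .swap 1, .swap 0, .swap 3, .swap 2, .swap 2, .swap 1, .swap 3]⟩,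
  ⟨(18, 38), [0, 38, 18], [.swap 0, .swap 1, .swap 0, .swap 2, .swap 1], [.swap 1, .swap 1, .swap 2, .swap 1, .swap 1, .swap 0, .swap 1, .swap 0, .swap 2, .swap 1, .swap 4, .cancel 5]⟩,
  ⟨(37, 20), [37, 36, 9], [.swap 0, .swap 0, .swap 1, .swap 2, .swap 2, .swap 1, .swap 0, .swap 0, .swap 1, .swap 4], [.swap 1, .swap 0, .swap 0, .swap 1, .swap 2, .swap 1, .swap 0, .swap 3, .swap 2, .swap 2, .swap 1, .swap 3]⟩,
  ⟨(20, 37), [0, 20, 37], [.swap 0], [.swap 1, .swap 1, .swap 2, .swap 1, .swap 1, .swap 0, .swap 2, .cancel 3]⟩,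
  ⟨(28, 33), [28, 34, 20], [.swap 0, .swap 0, .swap 1, .swap 2, .swap 2, .swap 1, .swap 0, .swap 0, .swap 1, .swap 4], [.swap 1, .swap 0, .swap 0, .swap 1, .swap 2, .swap 1, .swap 0, .swap 3, .swap 2, .swap 2, .swap 1, .swap 3]⟩,
  ⟨(33, 28), [2, 28, 33], [.swap 0], [.swap 1, .swap 1, .swap 2, .swap 1, .swap 1, .swap 0, .swap 2, .cancel 3]⟩,
  ⟨(39, 18), [28, 36, 18], [.swap 0, .swap 0, .swap 1, .swap 2, .swap 2, .swap 1, .swap 0, .swap 0, .swap 1, .swap 4], [.swap 1, .swap 0, .swap 0, .swap 1, .swap 2, .swap 1, .swap 0, .swap 3, .swap 2, .swap 2, .swap 1, .swap 3]⟩,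
  ⟨(18, 39), [0, 39, 18], [.swap 0, .swap 1, .swap 0, .swap 2, .swap 1], [.swap 1, .swap 1, .swap 2, .swap 1, .swap 1, .swap 0, .swap 1, .swap 0, .swap 2, .swap 1, .swap 4, .cancel 5]⟩,
  ⟨(29, 37), [37, 36, 14], [.swap 0, .swap 0, .swap 1, .swap 2, .swap 2, .swap 1, .swap 0, .swap 0, .swap 1, .swap 2, .swap 2, .swap 3, .cancel 4], [.swap 1, .swap 1, .swap 0, .swap 2, .swap 1, .swap 1, .swap 2, .swap 3]⟩,
  ⟨(37, 29), [0, 29, 37], [.swap 0, .swap 1, .swap 0, .swap 2, .swap 1], [.swap 1, .swap 1, .swap 2, .swap 1, .swap 1, .swap 0, .swap 1, .swap 0, .swap 2, .swap 1, .swap 4, .cancel 5]⟩,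
  ⟨(38, 28), [29, 28, 34], [.swap 0, .swap 1, .swap 1, .swap 0, .swap 0, .swap 1, .swap 3, .swap 2, .swap 2, .swap 3, .swap 4], [.swap 1, .swap 1, .swap 0, .swap 0, .swap 1, .swap 2, .swap 3, .swap 3, .swap 2, .swap 1, .swap 4]⟩,
  ⟨(28, 38), [1, 28, 38], [.swap 0, .swap 1, .swap 0, .swap 2, .swap 1], [.swap 1, .swap 1, .swap 2, .swap 1, .swap 1, .swap 0, .swap 1, .swap 0, .swap 2, .swap 1, .swap 4, .cancel 5]⟩]

/-- Rewriting steps, part 5. -/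
def block5 : List (Eqn 48) := [
  ⟨(39, 27), [29, 35, 27], [.swap 0, .swap 0, .swap 1, .swap 2, .swap 2, .swap 1, .swap 0, .swap 0, .swap 1, .swap 2, .swap 2, .swap 3, .cancel 4], [.swap 1, .swap 1, .swap 0, .swap 2, .swap 1, .swap 1, .swap 2, .swap 3]⟩,
  ⟨(27, 39), [2, 27, 39], [.swap 0, .swap 1, .swap 0, .swap 2, .swap 1], [.swap 1, .swap 1, .swap 2, .swap 1, .swap 1, .swap 0, .swap 1, .swap 0, .swap 2, .swap 1, .swap 4, .cancel 5]⟩,
  ⟨(38, 13), [38, 28, 10], [.swap 0, .swap 0, .swap 1, .swap 2, .swap 2, .swap 1, .swap 0, .swap 0, .swap 1, .swap 4], [.swap 1, .swap 0, .swap 0, .swap 1, .swap 2, .swap 1, .swap 0, .swap 3, .swap 2, .swap 2, .swap 1, .swap 3]⟩,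
  ⟨(13, 38), [1, 13, 38], [.swap 0], [.swap 1, .swap 1, .swap 2, .swap 1, .swap 1, .swap 0, .swap 2, .cancel 3]⟩,
  ⟨(36, 14), [36, 27, 13], [.swap 0, .swap 0, .swap 1, .swap 2, .swap 2, .swap 1, .swap 0, .swap 0, .swap 1, .swap 4], [.swap 1, .swap 0, .swap 0, .swap 1, .swap 2, .swap 1, .swap 0, .swap 3, .swap 2, .swap 2, .swap 1, .swap 3]⟩,
  ⟨(14, 36), [1, 14, 36], [.swap 0], [.swap 1, .swap 1, .swap 2, .swap 1, .swap 1, .swap 0, .swap 2, .cancel 3]⟩,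
  ⟨(39, 12), [36, 28, 12], [.swap 0, .swap 0, .swap 1, .swap 2, .swap 2, .swap 1, .swap 0, .swap 0, .swap 1, .swap 4], [.swap 1, .swap 0, .swap 0, .swap 1, .swap 2, .swap 1, .swap 0, .swap 3, .swap 2, .swap 2, .swap 1, .swap 3]⟩,
  ⟨(12, 39), [1, 39, 12], [.swap 0, .swap 1, .swap 0, .swap 2, .swap 1, .swap 3], [.swap 1, .swap 1, .swap 2, .swap 1, .swap 1, .swap 0, .swap 1, .swap 0, .swap 2, .swap 1, .swap 4, .swap 3, .cancel 5]⟩,
  ⟨(38, 20), [38, 35, 10], [.swap 0, .swap 0, .swap 1, .swap 2, .swap 2, .swap 1, .swap 0, .swap 0, .swap 1, .swap 4], [.swap 1, .swap 0, .swap 0, .swap 1, .swap 2, .swap 1, .swap 0, .swap 3, .swap 2, .swap 2, .swap 1, .swap 3]⟩,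
  ⟨(20, 38), [1, 20, 38], [.swap 0], [.swap 1, .swap 1, .swap 2, .swap 1, .swap 1, .swap 0, .swap 2, .cancel 3]⟩,
  ⟨(29, 33), [29, 34, 20], [.swap 0, .swap 0, .swap 1, .swap 2, .swap 2, .swap 1, .swap 0, .swap 0, .swap 1, .swap 4], [.swap 1, .swap 0, .swap 0, .swap 1, .swap 2, .swap 1, .swap 0, .swap 3, .swap 2, .swap 2, .swap 1, .swap 3]⟩,
  ⟨(33, 29), [6, 33, 29], [.swap 0, .swap 1, .swap 0, .swap 2, .swap 1], [.swap 1, .swap 1, .swap 2, .swap 1, .swap 1, .swap 0, .swap 1, .swap 0, .swap 2, .swap 1, .swap 4, .cancel 5]⟩,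
  ⟨(39, 19), [29, 35, 19], [.swap 0, .swap 0, .swap 1, .swap 2, .swap 2, .swap 1, .swap 0, .swap 0, .swap 1, .swap 4], [.swap 1, .swap 0, .swap 0, .swap 1, .swap 2, .swap 1, .swap 0, .swap 3, .swap 2, .swap 2, .swap 1, .swap 3]⟩,
  ⟨(19, 39), [1, 39, 19], [.swap 0, .swap 1, .swap 0, .swap 2, .swap 1], [.swap 1, .swap 1, .swap 2, .swap 1, .swap 1, .swap 0, .swap 1, .swap 0, .swap 2, .swap 1, .swap 4, .cancel 5]⟩,
  ⟨(43, 30), [41, 30, 26], [.swap 0, .swap 1, .swap 1, .swap 0, .swap 0, .swap 1, .swap 3, .swap 2, .swap 2, .swap 3, .swap 4], [.swap 1, .swap 1, .swap 0, .swap 0, .swap 1, .swap 2, .swap 3, .swap 3, .swap 2, .swap 1, .swap 4]⟩,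
  ⟨(30, 43), [29, 30, 43], [.swap 0], [.swap 1, .swap 1, .swap 2, .swap 1, .swap 1, .swap 0, .swap 2, .cancel 3]⟩,
  ⟨(45, 25), [41, 31, 25], [.swap 0, .swap 0, .swap 1, .swap 2, .swap 2, .swap 1, .swap 0, .swap 0, .swap 1, .swap 2, .swap 2, .swap 3, .cancel 4], [.swap 1, .swap 1, .swap 0, .swap 2, .swap 1, .swap 1, .swap 2, .swap 3]⟩,
  ⟨(25, 45), [25, 45, 0], [.swap 0, .swap 0, .swap 1, .swap 0, .swap 0, .swap 1, .cancel 2, .swap 1, .swap 1, .swap 0, .swap 2], [.swap 1, .swap 1, .swap 0, .swap 2]⟩,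
  ⟨(41, 5), [41, 32, 0], [.swap 0, .swap 0, .swap 1, .swap 2, .swap 2, .swap 1, .swap 0, .swap 0, .swap 1, .swap 4], [.swap 1, .swap 0, .swap 0, .swap 1, .swap 2, .swap 1, .swap 0, .swap 3, .swap 2, .swap 2, .swap 1, .swap 3]⟩,
  ⟨(5, 41), [5, 41, 0], [.swap 0, .swap 0, .swap 1, .swap 0, .swap 0, .swap 1, .cancel 2, .swap 1, .swap 0], [.swap 1, .swap 0]⟩,
  ⟨(30, 16), [16, 45, 5], [.swap 0, .swap 0, .swap 1, .swap 2, .swap 2, .swap 1, .swap 0, .swap 0, .swap 1, .swap 2, .swap 2, .swap 3, .cancel 4], [.swap 1, .swap 1, .swap 0, .swap 2, .swap 1, .swap 1, .swap 2, .swap 3]⟩,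
  ⟨(16, 30), [16, 30, 3], [.swap 0, .swap 0, .swap 1, .swap 0, .swap 0, .swap 1, .cancel 2, .swap 1, .swap 0], [.swap 1, .swap 0]⟩,
  ⟨(25, 21), [21, 32, 16], [.swap 0, .swap 0, .swap 1, .swap 2, .swap 2, .swap 1, .swap 0, .swap 0, .swap 1, .swap 2, .swap 2, .swap 3, .cancel 4], [.swap 1, .swap 1, .swap 0, .swap 2, .swap 1, .swap 1, .swap 2, .swap 3]⟩,
  ⟨(21, 25), [21, 25, 2], [.swap 0, .swap 0, .swap 1, .swap 0, .swap 0, .swap 1, .cancel 2, .swap 1, .swap 0, .swap 0, .swap 1], [.swap 1, .swap 0, .swap 0, .swap 1]⟩,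
  ⟨(45, 26), [42, 30, 26], [.swap 0, .swap 0, .swap 1, .swap 2, .swap 2, .swap 1, .swap 0, .swap 0, .swap 1, .swap 4], [.swap 1, .swap 0, .swap 0, .swap 1, .swap 2, .swap 1, .swap 0, .swap 3, .swap 2, .swap 2, .swap 1, .swap 3]⟩,
  ⟨(26, 45), [26, 45, 1], [.swap 0, .swap 0, .swap 1, .swap 0, .swap 0, .swap 1, .cancel 2, .swap 1, .swap 1, .swap 0, .swap 2], [.swap 1, .swap 1, .swap 0, .swap 2]⟩,
  ⟨(43, 31), [42, 31, 25], [.swap 0, .swap 1, .swap 1, .swap 0, .swap 0, .swap 1, .swap 3], [.swap 1, .swap 0, .swap 0, .swap 1, .swap 2, .swap 1, .swap 1, .swap 0, .swap 2, .swap 4, .swap 3, .swap 3, .swap 2, .swap 1, .swap 4, .cancel 5]⟩,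
  ⟨(31, 43), [31, 43, 1], [.swap 0, .swap 0, .swap 1, .swap 0, .swap 0, .swap 1, .cancel 2, .swap 1, .swap 1, .swap 0, .swap 2], [.swap 1, .swap 1, .swap 0, .swap 2]⟩,
  ⟨(42, 6), [42, 32, 1], [.swap 0, .swap 0, .swap 1, .swap 2, .swap 2, .swap 1, .swap 0, .swap 0, .swap 1, .swap 4], [.swap 1, .swap 0, .swap 0, .swap 1, .swap 2, .swap 1, .swap 0, .swap 3, .swap 2, .swap 2, .swap 1, .swap 3]⟩,
  ⟨(6, 42), [6, 42, 1], [.swap 0, .swap 0, .swap 1, .swap 0, .swap 0, .swap 1, .cancel 2, .swap 1, .swap 0], [.swap 1, .swap 0]⟩,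
  ⟨(31, 17), [17, 45, 6], [.swap 0, .swap 0, .swap 1, .swap 2, .swap 2, .swap 1, .swap 0, .swap 0, .swap 1, .swap 2, .swap 2, .swap 3, .cancel 4], [.swap 1, .swap 1, .swap 0, .swap 2, .swap 1, .swap 1, .swap 2, .swap 3]⟩,
  ⟨(17, 31), [17, 31, 3], [.swap 0, .swap 0, .swap 1, .swap 0, .swap 0, .swap 1, .cancel 2, .swap 1, .swap 0], [.swap 1, .swap 0]⟩,
  ⟨(26, 22), [22, 32, 17], [.swap 0, .swap 0, .swap 1, .swap 2, .swap 2, .swap 1, .swap 0, .swap 0, .swap 1, .swap 2, .swap 2, .swap 3, .cancel 4], [.swap 1, .swap 1, .swap 0, .swap 2, .swap 1, .swap 1, .swap 2, .swap 3]⟩,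
  ⟨(22, 26), [22, 26, 2], [.swap 0, .swap 0, .swap 1, .swap 0, .swap 0, .swap 1, .cancel 2, .swap 1, .swap 0, .swap 0, .swap 1], [.swap 1, .swap 0, .swap 0, .swap 1]⟩,
  ⟨(25, 42), [42, 32, 16], [.swap 0, .swap 0, .swap 1, .swap 2, .swap 2, .swap 1, .swap 0, .swap 0, .swap 1, .swap 2, .swap 2, .swap 3, .cancel 4], [.swap 1, .swap 1, .swap 0, .swap 2, .swap 1, .swap 1, .swap 2, .swap 3]⟩,
  ⟨(42, 25), [25, 42, 1], [.swap 0, .swap 0, .swap 1, .swap 0, .swap 0, .swap 1, .cancel 2, .swap 1, .swap 0, .swap 0, .swap 1], [.swap 1, .swap 0, .swap 0, .swap 1]⟩,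
  ⟨(41, 26), [41, 25, 24], [.swap 0, .swap 1, .swap 1, .swap 0, .swap 0, .swap 1, .swap 3], [.swap 1, .swap 0, .swap 0, .swap 1, .swap 2, .swap 1, .swap 1, .swap 0, .swap 2, .swap 4, .swap 3, .swap 3, .swap 2, .swap 1, .swap 4, .cancel 5]⟩,
  ⟨(26, 41), [26, 41, 0], [.swap 0, .swap 0, .swap 1, .swap 0, .swap 0, .swap 1, .cancel 2, .swap 1, .swap 0, .swap 0, .swap 1], [.swap 1, .swap 0, .swap 0, .swap 1]⟩,
  ⟨(46, 17), [41, 32, 17], [.swap 0, .swap 0, .swap 1, .swap 2, .swap 2, .swap 1, .swap 0, .swap 0, .swap 1, .swap 2, .swap 2, .swap 3, .cancel 4], [.swap 1, .swap 1, .swap 0, .swap 2, .swap 1, .swap 1, .swap 2, .swap 3]⟩,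
  ⟨(17, 46), [17, 46, 0], [.swap 0, .swap 0, .swap 1, .swap 0, .swap 0, .swap 1, .cancel 2, .swap 1, .swap 1, .swap 0, .swap 2], [.swap 1, .swap 1, .swap 0, .swap 2]⟩,
  ⟨(30, 42), [42, 32, 21], [.swap 0, .swap 0, .swap 1, .swap 2, .swap 2, .swap 1, .swap 0, .swap 0, .swap 1, .swap 2, .swap 2, .swap 3, .cancel 4], [.swap 1, .swap 1, .swap 0, .swap 2, .swap 1, .swap 1, .swap 2, .swap 3]⟩,
  ⟨(42, 30), [29, 30, 42], [.swap 0], [.swap 1, .swap 1, .swap 2, .swap 1, .swap 1, .swap 0, .swap 2, .cancel 3]⟩,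
  ⟨(41, 31), [41, 30, 24], [.swap 0, .swap 1, .swap 1, .swap 0, .swap 0, .swap 1, .swap 3], [.swap 1, .swap 0, .swap 0, .swap 1, .swap 2, .swap 1, .swap 1, .swap 0, .swap 2, .swap 4, .swap 3, .swap 3, .swap 2, .swap 1, .swap 4, .cancel 5]⟩,
  ⟨(31, 41), [31, 41, 0], [.swap 0, .swap 0, .swap 1, .swap 0, .swap 0, .swap 1, .cancel 2, .swap 1, .swap 0, .swap 0, .swap 1], [.swap 1, .swap 0, .swap 0, .swap 1]⟩,
  ⟨(46, 22), [41, 32, 22], [.swap 0, .swap 0, .swap 1, .swap 2, .swap 2, .swap 1, .swap 0, .swap 0, .swap 1, .swap 2, .swap 2, .swap 3, .cancel 4], [.swap 1, .swap 1, .swap 0, .swap 2, .swap 1, .swap 1, .swap 2, .swap 3]⟩,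
  ⟨(22, 46), [22, 46, 0], [.swap 0, .swap 0, .swap 1, .swap 0, .swap 0, .swap 1, .cancel 2, .swap 1, .swap 1, .swap 0, .swap 2], [.swap 1, .swap 1, .swap 0, .swap 2]⟩,
  ⟨(43, 21), [43, 30, 15], [.swap 0, .swap 0, .swap 1, .swap 2, .swap 2, .swap 1, .swap 0, .swap 0, .swap 1, .swap 4], [.swap 1, .swap 0, .swap 0, .swap 1, .swap 2, .swap 1, .swap 0, .swap 3, .swap 2, .swap 2, .swap 1, .swap 3]⟩,
  ⟨(21, 43), [21, 43, 2], [.swap 0, .swap 0, .swap 1, .swap 0, .swap 0, .swap 1, .cancel 2, .swap 1, .swap 0, .swap 0, .swap 1], [.swap 1, .swap 0, .swap 0, .swap 1]⟩,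
  ⟨(42, 23), [42, 25, 21], [.swap 0, .swap 0, .swap 1, .swap 2, .swap 2, .swap 1, .swap 0, .swap 0, .swap 1, .swap 4], [.swap 1, .swap 0, .swap 0, .swap 1, .swap 2, .swap 1, .swap 0, .swap 3, .swap 2, .swap 2, .swap 1, .swap 3]⟩,
  ⟨(23, 42), [23, 42, 1], [.swap 0, .swap 0, .swap 1, .swap 0, .swap 0, .swap 1, .cancel 2, .swap 1, .swap 0, .swap 0, .swap 1], [.swap 1, .swap 0, .swap 0, .swap 1]⟩,
  ⟨(45, 16), [42, 30, 16], [.swap 0, .swap 0, .swap 1, .swap 2, .swap 2, .swap 1, .swap 0, .swap 0, .swap 1, .swap 4], [.swap 1, .swap 0, .swap 0, .swap 1, .swap 2, .swap 1, .swap 0, .swap 3, .swap 2, .swap 2, .swap 1, .swap 3]⟩,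
  ⟨(16, 45), [16, 45, 0], [.swap 0, .swap 0, .swap 1, .swap 0, .swap 0, .swap 1, .cancel 2, .swap 1, .swap 1, .swap 0, .swap 2], [.swap 1, .swap 1, .swap 0, .swap 2]⟩]

/-- Rewriting steps, part 6. -/
def block6 : List (Eqn 48) := [
  ⟨(43, 6), [43, 31, 2], [.swap 0, .swap 0, .swap 1, .swap 2, .swap 2, .swap 1, .swap 0, .swap 0, .swap 1, .swap 4], [.swap 1, .swap 0, .swap 0, .swap 1, .swap 2, .swap 1, .swap 0, .swap 3, .swap 2, .swap 2, .swap 1, .swap 3]⟩,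
  ⟨(6, 43), [6, 43, 1], [.swap 0, .swap 0, .swap 1, .swap 0, .swap 0, .swap 1, .cancel 2, .swap 1, .swap 1, .swap 0, .swap 2], [.swap 1, .swap 1, .swap 0, .swap 2]⟩,
  ⟨(25, 24), [25, 42, 6], [.swap 0, .swap 0, .swap 1, .swap 2, .swap 2, .swap 1, .swap 0, .swap 0, .swap 1, .swap 4], [.swap 1, .swap 0, .swap 0, .swap 1, .swap 2, .swap 1, .swap 0, .swap 3, .swap 2, .swap 2, .swap 1, .swap 3]⟩,
  ⟨(24, 25), [24, 25, 0], [.swap 0, .swap 0, .swap 1, .swap 0, .swap 0, .swap 1, .cancel 2, .swap 1, .swap 0, .swap 0, .swap 1], [.swap 1, .swap 0, .swap 0, .swap 1]⟩,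
  ⟨(32, 17), [25, 31, 17], [.swap 0, .swap 0, .swap 1, .swap 2, .swap 2, .swap 1, .swap 0, .swap 0, .swap 1, .swap 4], [.swap 1, .swap 0, .swap 0, .swap 1, .swap 2, .swap 1, .swap 0, .swap 3, .swap 2, .swap 2, .swap 1, .swap 3]⟩,
  ⟨(17, 32), [17, 32, 3], [.swap 0, .swap 0, .swap 1, .swap 0, .swap 0, .swap 1, .cancel 2, .swap 1, .swap 0], [.swap 1, .swap 0]⟩,
  ⟨(22, 43), [43, 31, 15], [.swap 0, .swap 0, .swap 1, .swap 2, .swap 2, .swap 1, .swap 0, .swap 0, .swap 1, .swap 2, .swap 2, .swap 3, .cancel 4], [.swap 1, .swap 1, .swap 0, .swap 2, .swap 1, .swap 1, .swap 2, .swap 3]⟩,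
  ⟨(43, 22), [22, 43, 2], [.swap 0, .swap 0, .swap 1, .swap 0, .swap 0, .swap 1, .cancel 2, .swap 1, .swap 0, .swap 0, .swap 1], [.swap 1, .swap 0, .swap 0, .swap 1]⟩,
  ⟨(41, 24), [41, 26, 22], [.swap 0, .swap 0, .swap 1, .swap 2, .swap 2, .swap 1, .swap 0, .swap 0, .swap 1, .swap 4], [.swap 1, .swap 0, .swap 0, .swap 1, .swap 2, .swap 1, .swap 0, .swap 3, .swap 2, .swap 2, .swap 1, .swap 3]⟩,
  ⟨(24, 41), [24, 41, 0], [.swap 0, .swap 0, .swap 1, .swap 0, .swap 0, .swap 1, .cancel 2, .swap 1, .swap 0, .swap 0, .swap 1], [.swap 1, .swap 0, .swap 0, .swap 1]⟩,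
  ⟨(45, 17), [41, 31, 17], [.swap 0, .swap 0, .swap 1, .swap 2, .swap 2, .swap 1, .swap 0, .swap 0, .swap 1, .swap 4], [.swap 1, .swap 0, .swap 0, .swap 1, .swap 2, .swap 1, .swap 0, .swap 3, .swap 2, .swap 2, .swap 1, .swap 3]⟩,
  ⟨(17, 45), [17, 45, 1], [.swap 0, .swap 0, .swap 1, .swap 0, .swap 0, .swap 1, .cancel 2, .swap 1, .swap 1, .swap 0, .swap 2], [.swap 1, .swap 1, .swap 0, .swap 2]⟩,
  ⟨(45, 6), [45, 26, 4], [.swap 0, .swap 0, .swap 1, .swap 2, .swap 2, .swap 1, .swap 0, .swap 0, .swap 1, .swap 4], [.swap 1, .swap 0, .swap 0, .swap 1, .swap 2, .swap 1, .swap 0, .swap 3, .swap 2, .swap 2, .swap 1, .swap 3]⟩,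
  ⟨(6, 45), [6, 45, 1], [.swap 0, .swap 0, .swap 1, .swap 0, .swap 0, .swap 1, .cancel 2, .swap 1, .swap 1, .swap 0, .swap 2], [.swap 1, .swap 1, .swap 0, .swap 2]⟩,
  ⟨(30, 24), [30, 42, 6], [.swap 0, .swap 0, .swap 1, .swap 2, .swap 2, .swap 1, .swap 0, .swap 0, .swap 1, .swap 4], [.swap 1, .swap 0, .swap 0, .swap 1, .swap 2, .swap 1, .swap 0, .swap 3, .swap 2, .swap 2, .swap 1, .swap 3]⟩,
  ⟨(24, 30), [24, 30, 0], [.swap 0, .swap 0, .swap 1, .swap 0, .swap 0, .swap 1, .cancel 2, .swap 1, .swap 0, .swap 0, .swap 1], [.swap 1, .swap 0, .swap 0, .swap 1]⟩,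
  ⟨(32, 22), [30, 26, 22], [.swap 0, .swap 0, .swap 1, .swap 2, .swap 2, .swap 1, .swap 0, .swap 0, .swap 1, .swap 4], [.swap 1, .swap 0, .swap 0, .swap 1, .swap 2, .swap 1, .swap 0, .swap 3, .swap 2, .swap 2, .swap 1, .swap 3]⟩,
  ⟨(22, 32), [22, 32, 2], [.swap 0, .swap 0, .swap 1, .swap 0, .swap 0, .swap 1, .cancel 2, .swap 1, .swap 0, .swap 0, .swap 1], [.swap 1, .swap 0, .swap 0, .swap 1]⟩,
  ⟨(46, 6), [46, 24, 5], [.swap 0, .swap 0, .swap 1, .swap 2, .swap 2, .swap 1, .swap 0, .swap 0, .swap 1, .swap 4], [.swap 1, .swap 0, .swap 0, .swap 1, .swap 2, .swap 1, .swap 0, .swap 3, .swap 2, .swap 2, .swap 1, .swap 3]⟩,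
  ⟨(6, 46), [6, 46, 0], [.swap 0, .swap 0, .swap 1, .swap 0, .swap 0, .swap 1, .cancel 2, .swap 1, .swap 1, .swap 0, .swap 2], [.swap 1, .swap 1, .swap 0, .swap 2]⟩,
  ⟨(30, 26), [46, 26, 4], [.swap 0, .swap 1, .swap 1, .swap 0, .swap 0, .swap 1, .swap 3], [.swap 1, .swap 0, .swap 0, .swap 1, .swap 2, .swap 1, .swap 1, .swap 0, .swap 2, .swap 4, .swap 3, .swap 3, .swap 2, .swap 1, .swap 4, .cancel 5]⟩,
  ⟨(26, 30), [26, 30, 0], [.swap 0, .swap 0, .swap 1, .swap 0, .swap 0, .swap 1, .cancel 2, .swap 1, .swap 0, .swap 0, .swap 1], [.swap 1, .swap 0, .swap 0, .swap 1]⟩,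
  ⟨(31, 25), [30, 25, 24], [.swap 0, .swap 1, .swap 1, .swap 0, .swap 0, .swap 1, .swap 3], [.swap 1, .swap 0, .swap 0, .swap 1, .swap 2, .swap 1, .swap 1, .swap 0, .swap 2, .swap 4, .swap 3, .swap 3, .swap 2, .swap 1, .swap 4, .cancel 5]⟩,
  ⟨(25, 31), [25, 31, 1], [.swap 0, .swap 0, .swap 1, .swap 0, .swap 0, .swap 1, .cancel 2, .swap 1, .swap 0, .swap 0, .swap 1], [.swap 1, .swap 0, .swap 0, .swap 1]⟩,
  ⟨(29, 0), [3, 29, 0], [.swap 0, .swap 1], [.swap 1, .cancel 0, .swap 0, .swap 1, .swap 0, .swap 1, .swap 0, .swap 2, .swap 1, .cancel 3]⟩,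
  ⟨(25, 12), [0, 12, 39], [.swap 0, .swap 1, .swap 2, .swap 1, .swap 3, .swap 2], [.swap 1, .swap 1, .swap 0, .swap 1, .swap 0, .swap 2, .swap 1, .swap 3, .swap 2, .swap 2, .swap 3, .swap 4, .swap 5, .swap 4, .swap 5, .swap 4, .swap 3, .swap 3, .swap 2, .swap 1, .swap 0, .swap 0, .swap 1, .swap 2, .swap 3, .swap 2, .swap 4, .swap 3, .swap 5, .swap 4, .cancel 3, .swap 4, .cancel 3, .swap 3, .swap 4, .cancel 5, .swap 4, .cancel 5]⟩,
  ⟨(12, 25), [6, 12, 25], [.swap 0, .swap 1], [.swap 1, .swap 0, .cancel 1, .swap 0, .swap 1, .swap 0, .swap 1, .swap 0, .swap 2, .swap 1, .swap 3, .cancel 2]⟩,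
  ⟨(22, 13), [0, 13, 38], [.swap 0, .swap 1, .swap 2, .swap 1, .swap 3, .swap 2], [.swap 1, .swap 1, .swap 0, .swap 1, .swap 0, .swap 2, .swap 1, .swap 3, .swap 2, .swap 2, .swap 3, .swap 4, .swap 5, .swap 4, .swap 5, .swap 4, .swap 3, .swap 3, .swap 2, .swap 1, .swap 0, .swap 0, .swap 1, .swap 2, .swap 3, .swap 2, .swap 4, .swap 3, .swap 5, .swap 4, .cancel 3, .swap 4, .cancel 3, .swap 3, .swap 4, .cancel 5, .swap 4, .cancel 5]⟩,
  ⟨(13, 22), [6, 13, 22], [.swap 0, .swap 1], [.swap 1, .swap 0, .cancel 1, .swap 0, .swap 1, .swap 0, .swap 1, .swap 0, .swap 2, .swap 1, .swap 3, .cancel 2]⟩,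
  ⟨(17, 14), [0, 14, 36], [.swap 0, .swap 1, .swap 2, .swap 1, .swap 3, .swap 2], [.swap 1, .swap 1, .swap 0, .swap 1, .swap 0, .swap 2, .swap 1, .swap 3, .swap 2, .swap 2, .swap 3, .swap 4, .swap 5, .swap 4, .swap 5, .swap 4, .swap 3, .swap 3, .swap 2, .swap 1, .swap 0, .swap 0, .swap 1, .swap 2, .swap 3, .swap 2, .swap 4, .swap 3, .swap 5, .swap 4, .cancel 3, .swap 4, .cancel 3, .swap 3, .swap 4, .cancel 5, .swap 4, .cancel 5]⟩,
  ⟨(14, 17), [6, 14, 17], [.swap 0, .swap 1], [.swap 1, .swap 0, .cancel 1, .swap 0, .swap 1, .swap 0, .swap 1, .swap 0, .swap 2, .swap 1, .swap 3, .cancel 2]⟩,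
  ⟨(1, 39), [17, 4, 39], [.swap 0, .swap 0, .swap 1, .swap 2, .swap 3, .swap 2, .swap 1, .swap 0, .swap 1, .swap 0, .swap 2, .swap 1, .swap 3, .swap 3, .swap 2, .swap 3, .swap 2, .swap 4, .swap 3, .swap 5, .swap 6, .swap 5, .swap 4, .swap 7, .swap 6, .cancel 5, .swap 6, .cancel 5, .swap 5, .swap 4, .swap 4, .swap 5, .cancel 6], [.swap 1, .swap 2, .swap 1, .swap 0, .swap 3, .swap 2, .swap 1, .swap 1, .swap 2, .swap 3]⟩,
  ⟨(39, 1), [10, 39, 1], [.swap 0, .swap 1], [.swap 1, .cancel 0, .swap 0, .swap 1, .swap 0, .swap 1, .swap 0, .swap 2, .swap 1, .cancel 3]⟩,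
  ⟨(5, 36), [1, 36, 28], [.swap 0, .swap 1, .swap 2, .swap 1, .swap 0, .swap 0, .swap 1, .swap 4, .swap 3, .swap 2, .swap 3, .swap 2, .swap 4, .swap 3, .swap 5, .swap 4, .swap 6, .swap 5], [.swap 1, .swap 1, .swap 0, .swap 1, .swap 0, .swap 2, .swap 1, .swap 3, .swap 2, .swap 2, .swap 3, .swap 4, .swap 5, .swap 4, .swap 5, .swap 4, .swap 3, .swap 3, .swap 2, .swap 1, .swap 4, .swap 7, .swap 6, .swap 5, .swap 8, .cancel 7]⟩,
  ⟨(36, 5), [13, 36, 5], [.swap 0, .swap 1], [.swap 1, .cancel 0, .swap 0, .swap 1, .swap 0, .swap 1, .swap 0, .swap 2, .swap 1, .cancel 3]⟩,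
  ⟨(29, 16), [16, 36, 14], [.swap 0, .swap 1, .swap 2, .swap 1, .swap 0, .swap 0, .swap 1, .swap 4, .swap 3, .swap 2, .swap 3, .swap 2, .swap 4, .swap 3, .swap 5, .swap 4, .swap 6, .swap 5], [.swap 1, .swap 1, .swap 0, .swap 1, .swap 0, .swap 2, .swap 1, .swap 3, .swap 2, .swap 2, .swap 3, .swap 4, .swap 5, .swap 4, .swap 5, .swap 4, .swap 3, .swap 3, .swap 2, .swap 1, .swap 4, .swap 7, .swap 6, .swap 5, .swap 8, .cancel 7]⟩,
  ⟨(16, 29), [20, 29, 16], [.swap 0, .swap 1], [.swap 1, .cancel 0, .swap 0, .swap 1, .swap 0, .swap 1, .swap 0, .swap 2, .swap 1, .cancel 3]⟩,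
  ⟨(31, 20), [1, 20, 40], [.swap 0, .swap 1, .swap 2, .swap 1, .swap 3, .swap 2], [.swap 1, .swap 1, .swap 0, .swap 1, .swap 0, .swap 2, .swap 1, .swap 3, .swap 2, .swap 2, .swap 3, .swap 4, .swap 5, .swap 4, .swap 5, .swap 4, .swap 3, .swap 3, .swap 2, .swap 1, .swap 0, .swap 0, .swap 1, .swap 2, .swap 3, .swap 2, .swap 4, .swap 3, .swap 5, .swap 4, .cancel 3, .swap 4, .cancel 3, .swap 3, .swap 4, .cancel 5, .swap 4, .cancel 5]⟩,
  ⟨(20, 31), [26, 20, 31], [.swap 0, .swap 1], [.swap 1, .swap 0, .cancel 1, .swap 0, .swap 1, .swap 0, .swap 1, .swap 0, .swap 2, .swap 1, .swap 3, .cancel 2]⟩,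
  ⟨(42, 13), [16, 13, 38], [.swap 0, .swap 1, .swap 2, .swap 1, .swap 3, .swap 2], [.swap 1, .swap 1, .swap 0, .swap 1, .swap 0, .swap 2, .swap 1, .swap 3, .swap 2, .swap 2, .swap 3, .swap 4, .swap 5, .swap 4, .swap 5, .swap 4, .swap 3, .swap 3, .swap 2, .swap 1, .swap 0, .swap 0, .swap 1, .swap 2, .swap 3, .swap 2, .swap 4, .swap 3, .swap 5, .swap 4, .cancel 3, .swap 4, .cancel 3, .swap 3, .swap 4, .cancel 5, .swap 4, .cancel 5]⟩,
  ⟨(13, 42), [26, 13, 42], [.swap 0, .swap 1], [.swap 1, .swap 0, .cancel 1, .swap 0, .swap 1, .swap 0, .swap 1, .swap 0, .swap 2, .swap 1, .swap 3, .cancel 2]⟩,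
  ⟨(2, 38), [17, 5, 38], [.swap 0, .swap 0, .swap 1, .swap 2, .swap 3, .swap 2, .swap 1, .swap 0, .swap 1, .swap 0, .swap 2, .swap 1, .swap 3, .swap 3, .swap 2, .swap 3, .swap 2, .swap 4, .swap 3, .swap 5, .swap 6, .swap 5, .swap 4, .swap 7, .swap 6, .cancel 5, .swap 6, .cancel 5, .swap 5, .swap 4, .swap 4, .swap 5, .cancel 6], [.swap 1, .swap 2, .swap 1, .swap 0, .swap 3, .swap 2, .swap 1, .swap 1, .swap 2, .swap 3]⟩,
  ⟨(38, 2), [10, 38, 2], [.swap 0, .swap 1], [.swap 1, .cancel 0, .swap 0, .swap 1, .swap 0, .swap 1, .swap 0, .swap 2, .swap 1, .cancel 3]⟩,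
  ⟨(4, 36), [2, 36, 27], [.swap 0, .swap 1, .swap 2, .swap 1, .swap 0, .swap 0, .swap 1, .swap 4, .swap 3, .swap 2, .swap 3, .swap 2, .swap 4, .swap 3, .swap 5, .swap 4, .swap 6, .swap 5], [.swap 1, .swap 1, .swap 0, .swap 1, .swap 0, .swap 2, .swap 1, .swap 3, .swap 2, .swap 2, .swap 3, .swap 4, .swap 5, .swap 4, .swap 5, .swap 4, .swap 3, .swap 3, .swap 2, .swap 1, .swap 4, .swap 7, .swap 6, .swap 5, .swap 8, .cancel 7]⟩,
  ⟨(36, 4), [12, 36, 4], [.swap 0, .swap 1], [.swap 1, .cancel 0, .swap 0, .swap 1, .swap 0, .swap 1, .swap 0, .swap 2, .swap 1, .cancel 3]⟩,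
  ⟨(29, 15), [15, 36, 14], [.swap 0, .swap 1, .swap 2, .swap 1, .swap 0, .swap 0, .swap 1, .swap 4, .swap 3, .swap 2, .swap 3, .swap 2, .swap 4, .swap 3, .swap 5, .swap 4, .swap 6, .swap 5], [.swap 1, .swap 1, .swap 0, .swap 1, .swap 0, .swap 2, .swap 1, .swap 3, .swap 2, .swap 2, .swap 3, .swap 4, .swap 5, .swap 4, .swap 5, .swap 4, .swap 3, .swap 3, .swap 2, .swap 1, .swap 4, .swap 7, .swap 6, .swap 5, .swap 8, .cancel 7]⟩,
  ⟨(15, 29), [19, 29, 15], [.swap 0, .swap 1], [.swap 1, .cancel 0, .swap 0, .swap 1, .swap 0, .swap 1, .swap 0, .swap 2, .swap 1, .cancel 3]⟩,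
  ⟨(32, 19), [2, 19, 40], [.swap 0, .swap 1, .swap 2, .swap 1, .swap 3, .swap 2], [.swap 1, .swap 1, .swap 0, .swap 1, .swap 0, .swap 2, .swap 1, .swap 3, .swap 2, .swap 2, .swap 3, .swap 4, .swap 5, .swap 4, .swap 5, .swap 4, .swap 3, .swap 3, .swap 2, .swap 1, .swap 0, .swap 0, .swap 1, .swap 2, .swap 3, .swap 2, .swap 4, .swap 3, .swap 5, .swap 4, .cancel 3, .swap 4, .cancel 3, .swap 3, .swap 4, .cancel 5, .swap 4, .cancel 5]⟩,
  ⟨(19, 32), [24, 19, 32], [.swap 0, .swap 1], [.swap 1, .swap 0, .cancel 1, .swap 0, .swap 1, .swap 0, .swap 1, .swap 0, .swap 2, .swap 1, .swap 3, .cancel 2]⟩,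
  ⟨(43, 12), [15, 12, 39], [.swap 0, .swap 1, .swap 2, .swap 1, .swap 3, .swap 2], [.swap 1, .swap 1, .swap 0, .swap 1, .swap 0, .swap 2, .swap 1, .swap 3, .swap 2, .swap 2, .swap 3, .swap 4, .swap 5, .swap 4, .swap 5, .swap 4, .swap 3, .swap 3, .swap 2, .swap 1, .swap 0, .swap 0, .swap 1, .swap 2, .swap 3, .swap 2, .swap 4, .swap 3, .swap 5, .swap 4, .cancel 3, .swap 4, .cancel 3, .swap 3, .swap 4, .cancel 5, .swap 4, .cancel 5]⟩,
  ⟨(12, 43), [24, 12, 43], [.swap 0, .swap 1], [.swap 1, .swap 0, .cancel 1, .swap 0, .swap 1, .swap 0, .swap 1, .swap 0, .swap 2, .swap 1, .swap 3, .cancel 2]⟩,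
  ⟨(1, 40), [22, 2, 40], [.swap 0, .swap 0, .swap 1, .swap 2, .swap 3, .swap 2, .swap 1, .swap 0, .swap 1, .swap 0, .swap 2, .swap 1, .swap 3, .swap 3, .swap 2, .swap 3, .swap 2, .swap 4, .swap 3, .swap 5, .swap 6, .swap 5, .swap 4, .swap 7, .swap 6, .cancel 5, .swap 6, .cancel 5, .swap 5, .swap 4, .swap 4, .swap 5, .cancel 6], [.swap 1, .swap 2, .swap 1, .swap 0, .swap 3, .swap 2, .swap 1, .swap 1, .swap 2, .swap 3]⟩]

/-- Rewriting steps, part 7. -/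
def block7 : List (Eqn 48) := [
  ⟨(40, 1), [12, 1, 40], [.swap 0, .swap 1], [.swap 1, .cancel 0, .swap 0, .swap 1, .swap 0, .swap 1, .swap 0, .swap 2, .swap 1, .cancel 3]⟩,
  ⟨(38, 5), [38, 1, 28], [.swap 0, .swap 1, .swap 1, .swap 0, .swap 1, .swap 0, .swap 2, .swap 1, .swap 4], [.swap 1, .swap 0, .swap 0, .swap 1, .swap 2, .swap 1, .swap 2, .swap 1, .swap 3, .swap 2, .swap 4, .swap 3, .swap 5, .swap 4, .swap 3, .swap 3, .swap 2, .swap 2, .swap 1, .swap 0, .swap 3, .swap 5, .cancel 6, .swap 6, .swap 5, .swap 4, .swap 5, .swap 4, .swap 3, .swap 2, .swap 1, .swap 6, .swap 5, .swap 7, .cancel 6, .cancel 6]⟩,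
  ⟨(5, 38), [14, 5, 38], [.swap 0, .swap 1], [.swap 1, .cancel 0, .swap 0, .swap 1, .swap 0, .swap 1, .swap 0, .swap 2, .swap 1, .cancel 3]⟩,
  ⟨(29, 21), [21, 38, 13], [.swap 0, .swap 1, .swap 2, .swap 1, .swap 0, .swap 0, .swap 1, .swap 4, .swap 3, .swap 2, .swap 3, .swap 2, .swap 4, .swap 3, .swap 5, .swap 4, .swap 6, .swap 5], [.swap 1, .swap 1, .swap 0, .swap 1, .swap 0, .swap 2, .swap 1, .swap 3, .swap 2, .swap 2, .swap 3, .swap 4, .swap 5, .swap 4, .swap 5, .swap 4, .swap 3, .swap 3, .swap 2, .swap 1, .swap 4, .swap 7, .swap 6, .swap 5, .swap 8, .cancel 7]⟩,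
  ⟨(21, 29), [27, 29, 21], [.swap 0, .swap 1], [.swap 1, .cancel 0, .swap 0, .swap 1, .swap 0, .swap 1, .swap 0, .swap 2, .swap 1, .cancel 3]⟩,
  ⟨(27, 26), [26, 38, 11], [.swap 0, .swap 1, .swap 2, .swap 1, .swap 0, .swap 0, .swap 1, .swap 4, .swap 3, .swap 2, .swap 3, .swap 2, .swap 4, .swap 3, .swap 5, .swap 4, .swap 6, .swap 5], [.swap 1, .swap 1, .swap 0, .swap 1, .swap 0, .swap 2, .swap 1, .swap 3, .swap 2, .swap 2, .swap 3, .swap 4, .swap 5, .swap 4, .swap 5, .swap 4, .swap 3, .swap 3, .swap 2, .swap 1, .swap 4, .swap 7, .swap 6, .swap 5, .swap 8, .cancel 7]⟩,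
  ⟨(26, 27), [29, 27, 26], [.swap 0, .swap 1], [.swap 1, .cancel 0, .swap 0, .swap 1, .swap 0, .swap 1, .swap 0, .swap 2, .swap 1, .cancel 3]⟩,
  ⟨(42, 14), [21, 14, 36], [.swap 0, .swap 1, .swap 2, .swap 1, .swap 3, .swap 2], [.swap 1, .swap 1, .swap 0, .swap 1, .swap 0, .swap 2, .swap 1, .swap 3, .swap 2, .swap 2, .swap 3, .swap 4, .swap 5, .swap 4, .swap 5, .swap 4, .swap 3, .swap 3, .swap 2, .swap 1, .swap 0, .swap 0, .swap 1, .swap 2, .swap 3, .swap 2, .swap 4, .swap 3, .swap 5, .swap 4, .cancel 3, .swap 4, .cancel 3, .swap 3, .swap 4, .cancel 5, .swap 4, .cancel 5]⟩,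
  ⟨(14, 42), [31, 14, 42], [.swap 0, .swap 1], [.swap 1, .swap 0, .cancel 1, .swap 0, .swap 1, .swap 0, .swap 1, .swap 0, .swap 2, .swap 1, .swap 3, .cancel 2]⟩,
  ⟨(24, 37), [42, 37, 6], [.swap 0, .swap 1, .swap 1, .swap 0, .swap 1, .swap 0, .swap 2, .swap 1, .swap 3, .swap 3, .swap 4, .swap 5, .swap 4, .swap 4, .swap 3, .swap 2, .swap 3, .swap 2, .swap 4, .swap 3, .swap 5, .swap 4, .swap 6, .swap 7, .swap 6, .swap 5, .cancel 8], [.swap 1, .swap 2, .swap 1, .swap 0, .swap 0, .swap 1, .swap 2, .swap 4, .swap 3, .swap 4, .swap 3, .swap 2, .swap 1, .swap 5, .swap 4, .swap 6, .swap 5]⟩,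
  ⟨(37, 24), [38, 24, 37], [.swap 0, .swap 1], [.swap 1, .cancel 0, .swap 0, .swap 1, .swap 0, .swap 1, .swap 0, .swap 2, .swap 1, .cancel 3]⟩,
  ⟨(44, 4), [37, 4, 36], [.swap 0, .swap 1, .swap 1, .swap 0, .swap 1, .swap 0, .swap 2, .swap 1, .swap 4], [.swap 1, .swap 0, .swap 0, .swap 1, .swap 2, .swap 1, .swap 2, .swap 1, .swap 3, .swap 2, .swap 4, .swap 3, .swap 5, .swap 4, .swap 3, .swap 3, .swap 2, .swap 2, .swap 1, .swap 0, .swap 3, .swap 5, .cancel 6, .swap 6, .swap 5, .swap 4, .swap 5, .swap 4, .swap 3, .swap 2, .swap 1, .swap 6, .swap 5, .swap 7, .cancel 6, .cancel 6]⟩,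
  ⟨(4, 44), [27, 4, 44], [.swap 0, .swap 1], [.swap 1, .cancel 0, .swap 0, .swap 1, .swap 0, .swap 1, .swap 0, .swap 2, .swap 1, .cancel 3]⟩,
  ⟨(40, 15), [37, 15, 29], [.swap 0, .swap 1, .swap 1, .swap 0, .swap 1, .swap 0, .swap 2, .swap 1, .swap 4], [.swap 1, .swap 0, .swap 0, .swap 1, .swap 2, .swap 1, .swap 2, .swap 1, .swap 3, .swap 2, .swap 4, .swap 3, .swap 5, .swap 4, .swap 3, .swap 3, .swap 2, .swap 2, .swap 1, .swap 0, .swap 3, .swap 5, .cancel 6, .swap 6, .swap 5, .swap 4, .swap 5, .swap 4, .swap 3, .swap 2, .swap 1, .swap 6, .swap 5, .swap 7, .cancel 6, .cancel 6]⟩,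
  ⟨(15, 40), [34, 15, 40], [.swap 0, .swap 1], [.swap 1, .cancel 0, .swap 0, .swap 1, .swap 0, .swap 1, .swap 0, .swap 2, .swap 1, .cancel 3]⟩,
  ⟨(12, 41), [41, 40, 1], [.swap 0, .swap 1, .swap 1, .swap 0, .swap 1, .swap 0, .swap 2, .swap 1, .swap 3, .swap 3, .swap 4, .swap 5, .swap 4, .swap 4, .swap 3, .swap 2, .swap 3, .swap 2, .swap 4, .swap 3, .swap 5, .swap 4, .swap 6, .swap 7, .swap 6, .swap 5, .cancel 8], [.swap 1, .swap 2, .swap 1, .swap 0, .swap 0, .swap 1, .swap 2, .swap 4, .swap 3, .swap 4, .swap 3, .swap 2, .swap 1, .swap 5, .swap 4, .swap 6, .swap 5]⟩,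
  ⟨(41, 12), [22, 12, 41], [.swap 0, .swap 1], [.swap 1, .swap 0, .cancel 1, .swap 0, .swap 1, .swap 0, .swap 1, .swap 0, .swap 2, .swap 1, .swap 3, .cancel 2]⟩,
  ⟨(11, 42), [42, 40, 0], [.swap 0, .swap 1, .swap 1, .swap 0, .swap 1, .swap 0, .swap 2, .swap 1, .swap 3, .swap 3, .swap 4, .swap 5, .swap 4, .swap 4, .swap 3, .swap 2, .swap 3, .swap 2, .swap 4, .swap 3, .swap 5, .swap 4, .swap 6, .swap 7, .swap 6, .swap 5, .cancel 8], [.swap 1, .swap 2, .swap 1, .swap 0, .swap 0, .swap 1, .swap 2, .swap 4, .swap 3, .swap 4, .swap 3, .swap 2, .swap 1, .swap 5, .swap 4, .swap 6, .swap 5]⟩,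
  ⟨(42, 11), [21, 11, 42], [.swap 0, .swap 1], [.swap 1, .swap 0, .cancel 1, .swap 0, .swap 1, .swap 0, .swap 1, .swap 0, .swap 2, .swap 1, .swap 3, .cancel 2]⟩,
  ⟨(38, 23), [38, 4, 35], [.swap 0, .swap 1, .swap 1, .swap 0, .swap 1, .swap 0, .swap 2, .swap 1, .swap 4], [.swap 1, .swap 0, .swap 0, .swap 1, .swap 2, .swap 1, .swap 2, .swap 1, .swap 3, .swap 2, .swap 4, .swap 3, .swap 5, .swap 4, .swap 3, .swap 3, .swap 2, .swap 2, .swap 1, .swap 0, .swap 3, .swap 5, .cancel 6, .swap 6, .swap 5, .swap 4, .swap 5, .swap 4, .swap 3, .swap 2, .swap 1, .swap 6, .swap 5, .swap 7, .cancel 6, .cancel 6]⟩,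
  ⟨(23, 38), [37, 23, 38], [.swap 0, .swap 1], [.swap 1, .cancel 0, .swap 0, .swap 1, .swap 0, .swap 1, .swap 0, .swap 2, .swap 1, .cancel 3]⟩,
  ⟨(14, 41), [41, 38, 5], [.swap 0, .swap 1, .swap 1, .swap 0, .swap 1, .swap 0, .swap 2, .swap 1, .swap 3, .swap 3, .swap 4, .swap 5, .swap 4, .swap 4, .swap 3, .swap 2, .swap 3, .swap 2, .swap 4, .swap 3, .swap 5, .swap 4, .swap 6, .swap 7, .swap 6, .swap 5, .cancel 8], [.swap 1, .swap 2, .swap 1, .swap 0, .swap 0, .swap 1, .swap 2, .swap 4, .swap 3, .swap 4, .swap 3, .swap 2, .swap 1, .swap 5, .swap 4, .swap 6, .swap 5]⟩,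
  ⟨(41, 14), [30, 14, 41], [.swap 0, .swap 1], [.swap 1, .swap 0, .cancel 1, .swap 0, .swap 1, .swap 0, .swap 1, .swap 0, .swap 2, .swap 1, .swap 3, .cancel 2]⟩,
  ⟨(21, 39), [41, 39, 4], [.swap 0, .swap 1, .swap 1, .swap 0, .swap 1, .swap 0, .swap 2, .swap 1, .swap 3, .swap 3, .swap 4, .swap 5, .swap 4, .swap 4, .swap 3, .swap 2, .swap 3, .swap 2, .swap 4, .swap 3, .swap 5, .swap 4, .swap 6, .swap 7, .swap 6, .swap 5, .cancel 8], [.swap 1, .swap 2, .swap 1, .swap 0, .swap 0, .swap 1, .swap 2, .swap 4, .swap 3, .swap 4, .swap 3, .swap 2, .swap 1, .swap 5, .swap 4, .swap 6, .swap 5]⟩,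
  ⟨(39, 21), [37, 21, 39], [.swap 0, .swap 1], [.swap 1, .cancel 0, .swap 0, .swap 1, .swap 0, .swap 1, .swap 0, .swap 2, .swap 1, .cancel 3]⟩,
  ⟨(35, 31), [35, 21, 29], [.swap 0, .swap 1, .swap 1, .swap 0, .swap 1, .swap 0, .swap 2, .swap 1, .swap 4], [.swap 1, .swap 0, .swap 0, .swap 1, .swap 2, .swap 1, .swap 2, .swap 1, .swap 3, .swap 2, .swap 4, .swap 3, .swap 5, .swap 4, .swap 3, .swap 3, .swap 2, .swap 2, .swap 1, .swap 0, .swap 3, .swap 5, .cancel 6, .swap 6, .swap 5, .swap 4, .swap 5, .swap 4, .swap 3, .swap 2, .swap 1, .swap 6, .swap 5, .swap 7, .cancel 6, .cancel 6]⟩,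
  ⟨(31, 35), [40, 35, 31], [.swap 0, .swap 1], [.swap 1, .cancel 0, .swap 0, .swap 1, .swap 0, .swap 1, .swap 0, .swap 2, .swap 1, .cancel 3]⟩,
  ⟨(44, 5), [39, 5, 34], [.swap 0, .swap 1, .swap 1, .swap 0, .swap 1, .swap 0, .swap 2, .swap 1, .swap 4], [.swap 1, .swap 0, .swap 0, .swap 1, .swap 2, .swap 1, .swap 2, .swap 1, .swap 3, .swap 2, .swap 4, .swap 3, .swap 5, .swap 4, .swap 3, .swap 3, .swap 2, .swap 2, .swap 1, .swap 0, .swap 3, .swap 5, .cancel 6, .swap 6, .swap 5, .swap 4, .swap 5, .swap 4, .swap 3, .swap 2, .swap 1, .swap 6, .swap 5, .swap 7, .cancel 6, .cancel 6]⟩,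
  ⟨(5, 44), [28, 5, 44], [.swap 0, .swap 1], [.swap 1, .cancel 0, .swap 0, .swap 1, .swap 0, .swap 1, .swap 0, .swap 2, .swap 1, .cancel 3]⟩,
  ⟨(37, 26), [37, 5, 36], [.swap 0, .swap 1, .swap 1, .swap 0, .swap 1, .swap 0, .swap 2, .swap 1, .swap 4], [.swap 1, .swap 0, .swap 0, .swap 1, .swap 2, .swap 1, .swap 2, .swap 1, .swap 3, .swap 2, .swap 4, .swap 3, .swap 5, .swap 4, .swap 3, .swap 3, .swap 2, .swap 2, .swap 1, .swap 0, .swap 3, .swap 5, .cancel 6, .swap 6, .swap 5, .swap 4, .swap 5, .swap 4, .swap 3, .swap 2, .swap 1, .swap 6, .swap 5, .swap 7, .cancel 6, .cancel 6]⟩,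
  ⟨(26, 37), [39, 26, 37], [.swap 0, .swap 1], [.swap 1, .cancel 0, .swap 0, .swap 1, .swap 0, .swap 1, .swap 0, .swap 2, .swap 1, .cancel 3]⟩,
  ⟨(40, 16), [37, 16, 29], [.swap 0, .swap 1, .swap 1, .swap 0, .swap 1, .swap 0, .swap 2, .swap 1, .swap 4], [.swap 1, .swap 0, .swap 0, .swap 1, .swap 2, .swap 1, .swap 2, .swap 1, .swap 3, .swap 2, .swap 4, .swap 3, .swap 5, .swap 4, .swap 3, .swap 3, .swap 2, .swap 2, .swap 1, .swap 0, .swap 3, .swap 5, .cancel 6, .swap 6, .swap 5, .swap 4, .swap 5, .swap 4, .swap 3, .swap 2, .swap 1, .swap 6, .swap 5, .swap 7, .cancel 6, .cancel 6]⟩,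
  ⟨(16, 40), [35, 16, 40], [.swap 0, .swap 1], [.swap 1, .cancel 0, .swap 0, .swap 1, .swap 0, .swap 1, .swap 0, .swap 2, .swap 1, .cancel 3]⟩,
  ⟨(13, 41), [41, 40, 2], [.swap 0, .swap 1, .swap 1, .swap 0, .swap 1, .swap 0, .swap 2, .swap 1, .swap 3, .swap 3, .swap 4, .swap 5, .swap 4, .swap 4, .swap 3, .swap 2, .swap 3, .swap 2, .swap 4, .swap 3, .swap 5, .swap 4, .swap 6, .swap 7, .swap 6, .swap 5, .cancel 8], [.swap 1, .swap 2, .swap 1, .swap 0, .swap 0, .swap 1, .swap 2, .swap 4, .swap 3, .swap 4, .swap 3, .swap 2, .swap 1, .swap 5, .swap 4, .swap 6, .swap 5]⟩,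
  ⟨(41, 13), [25, 13, 41], [.swap 0, .swap 1], [.swap 1, .swap 0, .cancel 1, .swap 0, .swap 1, .swap 0, .swap 1, .swap 0, .swap 2, .swap 1, .swap 3, .cancel 2]⟩,
  ⟨(42, 28), [26, 28, 34], [.swap 0, .swap 1, .swap 2, .swap 1, .swap 0, .swap 0, .swap 1, .swap 4, .swap 3, .swap 2, .swap 3, .swap 2, .swap 4, .swap 3, .swap 5, .swap 4, .swap 6, .swap 5], [.swap 1, .swap 1, .swap 0, .swap 1, .swap 0, .swap 2, .swap 1, .swap 3, .swap 2, .swap 2, .swap 3, .swap 4, .swap 5, .swap 4, .swap 5, .swap 4, .swap 3, .swap 3, .swap 2, .swap 1, .swap 4, .swap 7, .swap 6, .swap 5, .swap 8, .cancel 7]⟩,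
  ⟨(28, 42), [44, 28, 42], [.swap 0, .swap 1], [.swap 1, .cancel 0, .swap 0, .swap 1, .swap 0, .swap 1, .swap 0, .swap 2, .swap 1, .cancel 3]⟩,
  ⟨(36, 30), [35, 24, 30], [.swap 0, .swap 1, .swap 0, .swap 2, .swap 1, .swap 3, .swap 3, .swap 2, .swap 3, .swap 2, .swap 1, .swap 4, .swap 3, .swap 5, .swap 6, .swap 5], [.swap 1, .swap 1, .swap 0, .swap 2, .swap 1, .swap 2, .swap 1, .swap 0, .swap 0, .swap 1, .swap 4, .swap 3, .swap 2, .swap 3, .swap 2, .swap 4, .swap 3, .swap 5, .swap 4, .swap 6, .swap 7, .swap 6, .swap 6, .swap 5, .swap 4, .cancel 3, .swap 5, .swap 6]⟩,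
  ⟨(30, 36), [40, 30, 36], [.swap 0, .swap 1], [.swap 1, .cancel 0, .swap 0, .swap 1, .swap 0, .swap 1, .swap 0, .swap 2, .swap 1, .cancel 3]⟩,
  ⟨(39, 22), [36, 22, 28], [.swap 0, .swap 1, .swap 1, .swap 0, .swap 1, .swap 0, .swap 2, .swap 1, .swap 4], [.swap 1, .swap 0, .swap 0, .swap 1, .swap 2, .swap 1, .swap 2, .swap 1, .swap 3, .swap 2, .swap 4, .swap 3, .swap 5, .swap 4, .swap 3, .swap 3, .swap 2, .swap 2, .swap 1, .swap 0, .swap 3, .swap 5, .cancel 6, .swap 6, .swap 5, .swap 4, .swap 5, .swap 4, .swap 3, .swap 2, .swap 1, .swap 6, .swap 5, .swap 7, .cancel 6, .cancel 6]⟩,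
  ⟨(22, 39), [38, 22, 39], [.swap 0, .swap 1], [.swap 1, .cancel 0, .swap 0, .swap 1, .swap 0, .swap 1, .swap 0, .swap 2, .swap 1, .cancel 3]⟩,
  ⟨(38, 25), [36, 25, 27], [.swap 0, .swap 1, .swap 1, .swap 0, .swap 1, .swap 0, .swap 2, .swap 1, .swap 4], [.swap 1, .swap 0, .swap 0, .swap 1, .swap 2, .swap 1, .swap 2, .swap 1, .swap 3, .swap 2, .swap 4, .swap 3, .swap 5, .swap 4, .swap 3, .swap 3, .swap 2, .swap 2, .swap 1, .swap 0, .swap 3, .swap 5, .cancel 6, .swap 6, .swap 5, .swap 4, .swap 5, .swap 4, .swap 3, .swap 2, .swap 1, .swap 6, .swap 5, .swap 7, .cancel 6, .cancel 6]⟩,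
  ⟨(25, 38), [39, 25, 38], [.swap 0, .swap 1], [.swap 1, .cancel 0, .swap 0, .swap 1, .swap 0, .swap 1, .swap 0, .swap 2, .swap 1, .cancel 3]⟩,
  ⟨(44, 6), [38, 6, 35], [.swap 0, .swap 1, .swap 1, .swap 0, .swap 1, .swap 0, .swap 2, .swap 1, .swap 4], [.swap 1, .swap 0, .swap 0, .swap 1, .swap 2, .swap 1, .swap 2, .swap 1, .swap 3, .swap 2, .swap 4, .swap 3, .swap 5, .swap 4, .swap 3, .swap 3, .swap 2, .swap 2, .swap 1, .swap 0, .swap 3, .swap 5, .cancel 6, .swap 6, .swap 5, .swap 4, .swap 5, .swap 4, .swap 3, .swap 2, .swap 1, .swap 6, .swap 5, .swap 7, .cancel 6, .cancel 6]⟩,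
  ⟨(6, 44), [29, 6, 44], [.swap 0, .swap 1], [.swap 1, .cancel 0, .swap 0, .swap 1, .swap 0, .swap 1, .swap 0, .swap 2, .swap 1, .cancel 3]⟩,
  ⟨(40, 17), [38, 17, 28], [.swap 0, .swap 1, .swap 1, .swap 0, .swap 1, .swap 0, .swap 2, .swap 1, .swap 4], [.swap 1, .swap 0, .swap 0, .swap 1, .swap 2, .swap 1, .swap 2, .swap 1, .swap 3, .swap 2, .swap 4, .swap 3, .swap 5, .swap 4, .swap 3, .swap 3, .swap 2, .swap 2, .swap 1, .swap 0, .swap 3, .swap 5, .cancel 6, .swap 6, .swap 5, .swap 4, .swap 5, .swap 4, .swap 3, .swap 2, .swap 1, .swap 6, .swap 5, .swap 7, .cancel 6, .cancel 6]⟩,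
  ⟨(17, 40), [36, 17, 40], [.swap 0, .swap 1], [.swap 1, .cancel 0, .swap 0, .swap 1, .swap 0, .swap 1, .swap 0, .swap 2, .swap 1, .cancel 3]⟩,
  ⟨(33, 31), [37, 17, 31], [.swap 0, .swap 1, .swap 0, .swap 2, .swap 1, .swap 3, .swap 3, .swap 2, .swap 3, .swap 2, .swap 1, .swap 4, .swap 3, .swap 5, .swap 6, .swap 5], [.swap 1, .swap 1, .swap 0, .swap 2, .swap 1, .swap 2, .swap 1, .swap 0, .swap 0, .swap 1, .swap 4, .swap 3, .swap 2, .swap 3, .swap 2, .swap 4, .swap 3, .swap 5, .swap 4, .swap 6, .swap 7, .swap 6, .swap 6, .swap 5, .swap 4, .cancel 3, .swap 5, .swap 6]⟩,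
  ⟨(31, 33), [38, 33, 31], [.swap 0, .swap 1], [.swap 1, .cancel 0, .swap 0, .swap 1, .swap 0, .swap 1, .swap 0, .swap 2, .swap 1, .cancel 3]⟩,
  ⟨(36, 21), [21, 33, 29], [.swap 0, .swap 1, .swap 2, .swap 1, .swap 0, .swap 0, .swap 1, .swap 4, .swap 3, .swap 2, .swap 3, .swap 2, .swap 4, .swap 3, .swap 5, .swap 4, .swap 6, .swap 5], [.swap 1, .swap 1, .swap 0, .swap 1, .swap 0, .swap 2, .swap 1, .swap 3, .swap 2, .swap 2, .swap 3, .swap 4, .swap 5, .swap 4, .swap 5, .swap 4, .swap 3, .swap 3, .swap 2, .swap 1, .swap 4, .swap 7, .swap 6, .swap 5, .swap 8, .cancel 7]⟩,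
  ⟨(21, 36), [34, 21, 36], [.swap 0, .swap 1], [.swap 1, .cancel 0, .swap 0, .swap 1, .swap 0, .swap 1, .swap 0, .swap 2, .swap 1, .cancel 3]⟩,
  ⟨(44, 1), [36, 1, 37], [.swap 0, .swap 1, .swap 1, .swap 0, .swap 1, .swap 0, .swap 2, .swap 1, .swap 4], [.swap 1, .swap 0, .swap 0, .swap 1, .swap 2, .swap 1, .swap 2, .swap 1, .swap 3, .swap 2, .swap 4, .swap 3, .swap 5, .swap 4, .swap 3, .swap 3, .swap 2, .swap 2, .swap 1, .swap 0, .swap 3, .swap 5, .cancel 6, .swap 6, .swap 5, .swap 4, .swap 5, .swap 4, .swap 3, .swap 2, .swap 1, .swap 6, .swap 5, .swap 7, .cancel 6, .cancel 6]⟩]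

/-- Rewriting steps, part 8. -/
def block8 : List (Eqn 48) := [
  ⟨(1, 44), [19, 1, 44], [.swap 0, .swap 1], [.swap 1, .cancel 0, .swap 0, .swap 1, .swap 0, .swap 1, .swap 0, .swap 2, .swap 1, .cancel 3]⟩,
  ⟨(34, 26), [34, 1, 39], [.swap 0, .swap 1, .swap 1, .swap 0, .swap 1, .swap 0, .swap 2, .swap 1, .swap 4], [.swap 1, .swap 0, .swap 0, .swap 1, .swap 2, .swap 1, .swap 2, .swap 1, .swap 3, .swap 2, .swap 4, .swap 3, .swap 5, .swap 4, .swap 3, .swap 3, .swap 2, .swap 2, .swap 1, .swap 0, .swap 3, .swap 5, .cancel 6, .swap 6, .swap 5, .swap 4, .swap 5, .swap 4, .swap 3, .swap 2, .swap 1, .swap 6, .swap 5, .swap 7, .cancel 6, .cancel 6]⟩,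
  ⟨(26, 34), [36, 34, 26], [.swap 0, .swap 1], [.swap 1, .cancel 0, .swap 0, .swap 1, .swap 0, .swap 1, .swap 0, .swap 2, .swap 1, .cancel 3]⟩,
  ⟨(38, 16), [38, 1, 35], [.swap 0, .swap 1, .swap 1, .swap 0, .swap 1, .swap 0, .swap 2, .swap 1, .swap 4], [.swap 1, .swap 0, .swap 0, .swap 1, .swap 2, .swap 1, .swap 2, .swap 1, .swap 3, .swap 2, .swap 4, .swap 3, .swap 5, .swap 4, .swap 3, .swap 3, .swap 2, .swap 2, .swap 1, .swap 0, .swap 3, .swap 5, .cancel 6, .swap 6, .swap 5, .swap 4, .swap 5, .swap 4, .swap 3, .swap 2, .swap 1, .swap 6, .swap 5, .swap 7, .cancel 6, .cancel 6]⟩,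
  ⟨(16, 38), [33, 16, 38], [.swap 0, .swap 1], [.swap 1, .cancel 0, .swap 0, .swap 1, .swap 0, .swap 1, .swap 0, .swap 2, .swap 1, .cancel 3]⟩,
  ⟨(24, 35), [35, 22, 26], [.swap 0, .swap 1, .swap 0, .swap 2, .swap 1, .swap 3, .swap 3, .swap 2, .swap 3, .swap 2, .swap 1, .swap 4, .swap 3, .swap 5, .swap 6, .swap 5], [.swap 1, .swap 1, .swap 0, .swap 2, .swap 1, .swap 2, .swap 1, .swap 0, .swap 0, .swap 1, .swap 4, .swap 3, .swap 2, .swap 3, .swap 2, .swap 4, .swap 3, .swap 5, .swap 4, .swap 6, .swap 7, .swap 6, .swap 6, .swap 5, .swap 4, .cancel 3, .swap 5, .swap 6]⟩,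
  ⟨(35, 24), [36, 24, 35], [.swap 0, .swap 1], [.swap 1, .cancel 0, .swap 0, .swap 1, .swap 0, .swap 1, .swap 0, .swap 2, .swap 1, .cancel 3]⟩,
  ⟨(44, 2), [35, 2, 38], [.swap 0, .swap 1, .swap 1, .swap 0, .swap 1, .swap 0, .swap 2, .swap 1, .swap 4], [.swap 1, .swap 0, .swap 0, .swap 1, .swap 2, .swap 1, .swap 2, .swap 1, .swap 3, .swap 2, .swap 4, .swap 3, .swap 5, .swap 4, .swap 3, .swap 3, .swap 2, .swap 2, .swap 1, .swap 0, .swap 3, .swap 5, .cancel 6, .swap 6, .swap 5, .swap 4, .swap 5, .swap 4, .swap 3, .swap 2, .swap 1, .swap 6, .swap 5, .swap 7, .cancel 6, .cancel 6]⟩,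
  ⟨(2, 44), [20, 2, 44], [.swap 0, .swap 1], [.swap 1, .cancel 0, .swap 0, .swap 1, .swap 0, .swap 1, .swap 0, .swap 2, .swap 1, .cancel 3]⟩,
  ⟨(36, 23), [36, 2, 37], [.swap 0, .swap 1, .swap 1, .swap 0, .swap 1, .swap 0, .swap 2, .swap 1, .swap 4], [.swap 1, .swap 0, .swap 0, .swap 1, .swap 2, .swap 1, .swap 2, .swap 1, .swap 3, .swap 2, .swap 4, .swap 3, .swap 5, .swap 4, .swap 3, .swap 3, .swap 2, .swap 2, .swap 1, .swap 0, .swap 3, .swap 5, .cancel 6, .swap 6, .swap 5, .swap 4, .swap 5, .swap 4, .swap 3, .swap 2, .swap 1, .swap 6, .swap 5, .swap 7, .cancel 6, .cancel 6]⟩,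
  ⟨(23, 36), [35, 23, 36], [.swap 0, .swap 1], [.swap 1, .cancel 0, .swap 0, .swap 1, .swap 0, .swap 1, .swap 0, .swap 2, .swap 1, .cancel 3]⟩,
  ⟨(39, 15), [39, 2, 34], [.swap 0, .swap 1, .swap 1, .swap 0, .swap 1, .swap 0, .swap 2, .swap 1, .swap 4], [.swap 1, .swap 0, .swap 0, .swap 1, .swap 2, .swap 1, .swap 2, .swap 1, .swap 3, .swap 2, .swap 4, .swap 3, .swap 5, .swap 4, .swap 3, .swap 3, .swap 2, .swap 2, .swap 1, .swap 0, .swap 3, .swap 5, .cancel 6, .swap 6, .swap 5, .swap 4, .swap 5, .swap 4, .swap 3, .swap 2, .swap 1, .swap 6, .swap 5, .swap 7, .cancel 6, .cancel 6]⟩,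
  ⟨(15, 39), [33, 15, 39], [.swap 0, .swap 1], [.swap 1, .cancel 0, .swap 0, .swap 1, .swap 0, .swap 1, .swap 0, .swap 2, .swap 1, .cancel 3]⟩,
  ⟨(34, 25), [36, 21, 25], [.swap 0, .swap 1, .swap 0, .swap 2, .swap 1, .swap 3, .swap 3, .swap 2, .swap 3, .swap 2, .swap 1, .swap 4, .swap 3, .swap 5, .swap 6, .swap 5], [.swap 1, .swap 1, .swap 0, .swap 2, .swap 1, .swap 2, .swap 1, .swap 0, .swap 0, .swap 1, .swap 4, .swap 3, .swap 2, .swap 3, .swap 2, .swap 4, .swap 3, .swap 5, .swap 4, .swap 6, .swap 7, .swap 6, .swap 6, .swap 5, .swap 4, .cancel 3, .swap 5, .swap 6]⟩,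
  ⟨(25, 34), [35, 25, 34], [.swap 0, .swap 1], [.swap 1, .cancel 0, .swap 0, .swap 1, .swap 0, .swap 1, .swap 0, .swap 2, .swap 1, .cancel 3]⟩,
  ⟨(44, 0), [34, 0, 39], [.swap 0, .swap 1, .swap 1, .swap 0, .swap 1, .swap 0, .swap 2, .swap 1, .swap 4], [.swap 1, .swap 0, .swap 0, .swap 1, .swap 2, .swap 1, .swap 2, .swap 1, .swap 3, .swap 2, .swap 4, .swap 3, .swap 5, .swap 4, .swap 3, .swap 3, .swap 2, .swap 2, .swap 1, .swap 0, .swap 3, .swap 5, .cancel 6, .swap 6, .swap 5, .swap 4, .swap 5, .swap 4, .swap 3, .swap 2, .swap 1, .swap 6, .swap 5, .swap 7, .cancel 6, .cancel 6]⟩,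
  ⟨(0, 44), [18, 0, 44], [.swap 0, .swap 1], [.swap 1, .cancel 0, .swap 0, .swap 1, .swap 0, .swap 1, .swap 0, .swap 2, .swap 1, .cancel 3]⟩,
  ⟨(35, 22), [35, 0, 38], [.swap 0, .swap 1, .swap 1, .swap 0, .swap 1, .swap 0, .swap 2, .swap 1, .swap 4], [.swap 1, .swap 0, .swap 0, .swap 1, .swap 2, .swap 1, .swap 2, .swap 1, .swap 3, .swap 2, .swap 4, .swap 3, .swap 5, .swap 4, .swap 3, .swap 3, .swap 2, .swap 2, .swap 1, .swap 0, .swap 3, .swap 5, .cancel 6, .swap 6, .swap 5, .swap 4, .swap 5, .swap 4, .swap 3, .swap 2, .swap 1, .swap 6, .swap 5, .swap 7, .cancel 6, .cancel 6]⟩,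
  ⟨(22, 35), [34, 22, 35], [.swap 0, .swap 1], [.swap 1, .cancel 0, .swap 0, .swap 1, .swap 0, .swap 1, .swap 0, .swap 2, .swap 1, .cancel 3]⟩,
  ⟨(37, 17), [37, 0, 36], [.swap 0, .swap 1, .swap 1, .swap 0, .swap 1, .swap 0, .swap 2, .swap 1, .swap 4], [.swap 1, .swap 0, .swap 0, .swap 1, .swap 2, .swap 1, .swap 2, .swap 1, .swap 3, .swap 2, .swap 4, .swap 3, .swap 5, .swap 4, .swap 3, .swap 3, .swap 2, .swap 2, .swap 1, .swap 0, .swap 3, .swap 5, .cancel 6, .swap 6, .swap 5, .swap 4, .swap 5, .swap 4, .swap 3, .swap 2, .swap 1, .swap 6, .swap 5, .swap 7, .cancel 6, .cancel 6]⟩,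
  ⟨(17, 37), [33, 17, 37], [.swap 0, .swap 1], [.swap 1, .cancel 0, .swap 0, .swap 1, .swap 0, .swap 1, .swap 0, .swap 2, .swap 1, .cancel 3]⟩,
  ⟨(30, 33), [22, 33, 28], [.swap 0, .swap 1, .swap 2, .swap 1, .swap 0, .swap 0, .swap 1, .swap 4, .swap 3, .swap 2, .swap 3, .swap 2, .swap 4, .swap 3, .swap 5, .swap 4, .swap 6, .swap 5], [.swap 1, .swap 1, .swap 0, .swap 1, .swap 0, .swap 2, .swap 1, .swap 3, .swap 2, .swap 2, .swap 3, .swap 4, .swap 5, .swap 4, .swap 5, .swap 4, .swap 3, .swap 3, .swap 2, .swap 1, .swap 4, .swap 7, .swap 6, .swap 5, .swap 8, .cancel 7]⟩,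
  ⟨(33, 30), [37, 33, 30], [.swap 0, .swap 1], [.swap 1, .cancel 0, .swap 0, .swap 1, .swap 0, .swap 1, .swap 0, .swap 2, .swap 1, .cancel 3]⟩,
  ⟨(18, 24), [44, 0, 24], [.swap 0, .swap 1, .swap 0, .swap 2, .swap 1, .swap 3, .swap 3, .swap 2, .swap 3, .swap 2, .swap 1, .swap 4, .swap 3, .swap 5, .swap 6, .swap 5], [.swap 1, .swap 1, .swap 0, .swap 2, .swap 1, .swap 2, .swap 1, .swap 0, .swap 0, .swap 1, .swap 4, .swap 3, .swap 2, .swap 3, .swap 2, .swap 4, .swap 3, .swap 5, .swap 4, .swap 6, .swap 7, .swap 6, .swap 6, .swap 5, .swap 4, .cancel 3, .swap 5, .swap 6]⟩,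
  ⟨(24, 18), [15, 18, 24], [.swap 0, .swap 1], [.swap 1, .swap 0, .cancel 1, .swap 0, .swap 1, .swap 0, .swap 1, .swap 0, .swap 2, .swap 1, .swap 3, .cancel 2]⟩,
  ⟨(18, 26), [44, 0, 26], [.swap 0, .swap 1, .swap 0, .swap 2, .swap 1, .swap 3, .swap 3, .swap 2, .swap 3, .swap 2, .swap 1, .swap 4, .swap 3, .swap 5, .swap 6, .swap 5], [.swap 1, .swap 1, .swap 0, .swap 2, .swap 1, .swap 2, .swap 1, .swap 0, .swap 0, .swap 1, .swap 4, .swap 3, .swap 2, .swap 3, .swap 2, .swap 4, .swap 3, .swap 5, .swap 4, .swap 6, .swap 7, .swap 6, .swap 6, .swap 5, .swap 4, .cancel 3, .swap 5, .swap 6]⟩,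
  ⟨(26, 18), [16, 18, 26], [.swap 0, .swap 1], [.swap 1, .swap 0, .cancel 1, .swap 0, .swap 1, .swap 0, .swap 1, .swap 0, .swap 2, .swap 1, .swap 3, .cancel 2]⟩,
  ⟨(18, 31), [44, 0, 31], [.swap 0, .swap 1, .swap 0, .swap 2, .swap 1, .swap 3, .swap 3, .swap 2, .swap 3, .swap 2, .swap 1, .swap 4, .swap 3, .swap 5, .swap 6, .swap 5], [.swap 1, .swap 1, .swap 0, .swap 2, .swap 1, .swap 2, .swap 1, .swap 0, .swap 0, .swap 1, .swap 4, .swap 3, .swap 2, .swap 3, .swap 2, .swap 4, .swap 3, .swap 5, .swap 4, .swap 6, .swap 7, .swap 6, .swap 6, .swap 5, .swap 4, .cancel 3, .swap 5, .swap 6]⟩,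
  ⟨(31, 18), [21, 18, 31], [.swap 0, .swap 1], [.swap 1, .swap 0, .cancel 1, .swap 0, .swap 1, .swap 0, .swap 1, .swap 0, .swap 2, .swap 1, .swap 3, .cancel 2]⟩,
  ⟨(19, 23), [44, 1, 23], [.swap 0, .swap 1, .swap 0, .swap 2, .swap 1, .swap 3, .swap 3, .swap 2, .swap 3, .swap 2, .swap 1, .swap 4, .swap 3, .swap 5, .swap 6, .swap 5], [.swap 1, .swap 1, .swap 0, .swap 2, .swap 1, .swap 2, .swap 1, .swap 0, .swap 0, .swap 1, .swap 4, .swap 3, .swap 2, .swap 3, .swap 2, .swap 4, .swap 3, .swap 5, .swap 4, .swap 6, .swap 7, .swap 6, .swap 6, .swap 5, .swap 4, .cancel 3, .swap 5, .swap 6]⟩,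
  ⟨(23, 19), [15, 19, 23], [.swap 0, .swap 1], [.swap 1, .swap 0, .cancel 1, .swap 0, .swap 1, .swap 0, .swap 1, .swap 0, .swap 2, .swap 1, .swap 3, .cancel 2]⟩,
  ⟨(19, 25), [44, 1, 25], [.swap 0, .swap 1, .swap 0, .swap 2, .swap 1, .swap 3, .swap 3, .swap 2, .swap 3, .swap 2, .swap 1, .swap 4, .swap 3, .swap 5, .swap 6, .swap 5], [.swap 1, .swap 1, .swap 0, .swap 2, .swap 1, .swap 2, .swap 1, .swap 0, .swap 0, .swap 1, .swap 4, .swap 3, .swap 2, .swap 3, .swap 2, .swap 4, .swap 3, .swap 5, .swap 4, .swap 6, .swap 7, .swap 6, .swap 6, .swap 5, .swap 4, .cancel 3, .swap 5, .swap 6]⟩,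
  ⟨(25, 19), [17, 19, 25], [.swap 0, .swap 1], [.swap 1, .swap 0, .cancel 1, .swap 0, .swap 1, .swap 0, .swap 1, .swap 0, .swap 2, .swap 1, .swap 3, .cancel 2]⟩,
  ⟨(19, 30), [44, 1, 30], [.swap 0, .swap 1, .swap 0, .swap 2, .swap 1, .swap 3, .swap 3, .swap 2, .swap 3, .swap 2, .swap 1, .swap 4, .swap 3, .swap 5, .swap 6, .swap 5], [.swap 1, .swap 1, .swap 0, .swap 2, .swap 1, .swap 2, .swap 1, .swap 0, .swap 0, .swap 1, .swap 4, .swap 3, .swap 2, .swap 3, .swap 2, .swap 4, .swap 3, .swap 5, .swap 4, .swap 6, .swap 7, .swap 6, .swap 6, .swap 5, .swap 4, .cancel 3, .swap 5, .swap 6]⟩,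
  ⟨(30, 19), [22, 19, 30], [.swap 0, .swap 1], [.swap 1, .swap 0, .cancel 1, .swap 0, .swap 1, .swap 0, .swap 1, .swap 0, .swap 2, .swap 1, .swap 3, .cancel 2]⟩,
  ⟨(20, 21), [44, 2, 21], [.swap 0, .swap 1, .swap 0, .swap 2, .swap 1, .swap 3, .swap 3, .swap 2, .swap 3, .swap 2, .swap 1, .swap 4, .swap 3, .swap 5, .swap 6, .swap 5], [.swap 1, .swap 1, .swap 0, .swap 2, .swap 1, .swap 2, .swap 1, .swap 0, .swap 0, .swap 1, .swap 4, .swap 3, .swap 2, .swap 3, .swap 2, .swap 4, .swap 3, .swap 5, .swap 4, .swap 6, .swap 7, .swap 6, .swap 6, .swap 5, .swap 4, .cancel 3, .swap 5, .swap 6]⟩,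
  ⟨(21, 20), [16, 20, 21], [.swap 0, .swap 1], [.swap 1, .swap 0, .cancel 1, .swap 0, .swap 1, .swap 0, .swap 1, .swap 0, .swap 2, .swap 1, .swap 3, .cancel 2]⟩,
  ⟨(20, 22), [44, 2, 22], [.swap 0, .swap 1, .swap 0, .swap 2, .swap 1, .swap 3, .swap 3, .swap 2, .swap 3, .swap 2, .swap 1, .swap 4, .swap 3, .swap 5, .swap 6, .swap 5], [.swap 1, .swap 1, .swap 0, .swap 2, .swap 1, .swap 2, .swap 1, .swap 0, .swap 0, .swap 1, .swap 4, .swap 3, .swap 2, .swap 3, .swap 2, .swap 4, .swap 3, .swap 5, .swap 4, .swap 6, .swap 7, .swap 6, .swap 6, .swap 5, .swap 4, .cancel 3, .swap 5, .swap 6]⟩,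
  ⟨(22, 20), [17, 20, 22], [.swap 0, .swap 1], [.swap 1, .swap 0, .cancel 1, .swap 0, .swap 1, .swap 0, .swap 1, .swap 0, .swap 2, .swap 1, .swap 3, .cancel 2]⟩,
  ⟨(20, 30), [44, 2, 30], [.swap 0, .swap 1, .swap 0, .swap 2, .swap 1, .swap 3, .swap 3, .swap 2, .swap 3, .swap 2, .swap 1, .swap 4, .swap 3, .swap 5, .swap 6, .swap 5], [.swap 1, .swap 1, .swap 0, .swap 2, .swap 1, .swap 2, .swap 1, .swap 0, .swap 0, .swap 1, .swap 4, .swap 3, .swap 2, .swap 3, .swap 2, .swap 4, .swap 3, .swap 5, .swap 4, .swap 6, .swap 7, .swap 6, .swap 6, .swap 5, .swap 4, .cancel 3, .swap 5, .swap 6]⟩,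
  ⟨(30, 20), [25, 20, 30], [.swap 0, .swap 1], [.swap 1, .swap 0, .cancel 1, .swap 0, .swap 1, .swap 0, .swap 1, .swap 0, .swap 2, .swap 1, .swap 3, .cancel 2]⟩,
  ⟨(27, 16), [44, 4, 16], [.swap 0, .swap 1, .swap 0, .swap 2, .swap 1, .swap 3, .swap 3, .swap 2, .swap 3, .swap 2, .swap 1, .swap 4, .swap 3, .swap 5, .swap 6, .swap 5], [.swap 1, .swap 1, .swap 0, .swap 2, .swap 1, .swap 2, .swap 1, .swap 0, .swap 0, .swap 1, .swap 4, .swap 3, .swap 2, .swap 3, .swap 2, .swap 4, .swap 3, .swap 5, .swap 4, .swap 6, .swap 7, .swap 6, .swap 6, .swap 5, .swap 4, .cancel 3, .swap 5, .swap 6]⟩,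
  ⟨(16, 27), [18, 27, 16], [.swap 0, .swap 1], [.swap 1, .cancel 0, .swap 0, .swap 1, .swap 0, .swap 1, .swap 0, .swap 2, .swap 1, .cancel 3]⟩,
  ⟨(5, 34), [16, 34, 14], [.swap 0, .swap 1, .swap 2, .swap 1, .swap 0, .swap 0, .swap 1, .swap 4, .swap 3, .swap 2, .swap 3, .swap 2, .swap 4, .swap 3, .swap 5, .swap 4, .swap 6, .swap 5], [.swap 1, .swap 1, .swap 0, .swap 1, .swap 0, .swap 2, .swap 1, .swap 3, .swap 2, .swap 2, .swap 3, .swap 4, .swap 5, .swap 4, .swap 5, .swap 4, .swap 3, .swap 3, .swap 2, .swap 1, .swap 4, .swap 7, .swap 6, .swap 5, .swap 8, .cancel 7]⟩,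
  ⟨(34, 5), [11, 34, 5], [.swap 0, .swap 1], [.swap 1, .cancel 0, .swap 0, .swap 1, .swap 0, .swap 1, .swap 0, .swap 2, .swap 1, .cancel 3]⟩,
  ⟨(37, 1), [1, 34, 28], [.swap 0, .swap 1, .swap 2, .swap 1, .swap 0, .swap 0, .swap 1, .swap 4, .swap 3, .swap 2, .swap 3, .swap 2, .swap 4, .swap 3, .swap 5, .swap 4, .swap 6, .swap 5], [.swap 1, .swap 1, .swap 0, .swap 1, .swap 0, .swap 2, .swap 1, .swap 3, .swap 2, .swap 2, .swap 3, .swap 4, .swap 5, .swap 4, .swap 5, .swap 4, .swap 3, .swap 3, .swap 2, .swap 1, .swap 4, .swap 7, .swap 6, .swap 5, .swap 8, .cancel 7]⟩,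
  ⟨(1, 37), [8, 37, 1], [.swap 0, .swap 1], [.swap 1, .cancel 0, .swap 0, .swap 1, .swap 0, .swap 1, .swap 0, .swap 2, .swap 1, .cancel 3]⟩,
  ⟨(27, 17), [44, 4, 17], [.swap 0, .swap 1, .swap 0, .swap 2, .swap 1, .swap 3, .swap 3, .swap 2, .swap 3, .swap 2, .swap 1, .swap 4, .swap 3, .swap 5, .swap 6, .swap 5], [.swap 1, .swap 1, .swap 0, .swap 2, .swap 1, .swap 2, .swap 1, .swap 0, .swap 0, .swap 1, .swap 4, .swap 3, .swap 2, .swap 3, .swap 2, .swap 4, .swap 3, .swap 5, .swap 4, .swap 6, .swap 7, .swap 6, .swap 6, .swap 5, .swap 4, .cancel 3, .swap 5, .swap 6]⟩,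
  ⟨(17, 27), [19, 27, 17], [.swap 0, .swap 1], [.swap 1, .cancel 0, .swap 0, .swap 1, .swap 0, .swap 1, .swap 0, .swap 2, .swap 1, .cancel 3]⟩,
  ⟨(6, 34), [17, 34, 14], [.swap 0, .swap 1, .swap 2, .swap 1, .swap 0, .swap 0, .swap 1, .swap 4, .swap 3, .swap 2, .swap 3, .swap 2, .swap 4, .swap 3, .swap 5, .swap 4, .swap 6, .swap 5], [.swap 1, .swap 1, .swap 0, .swap 1, .swap 0, .swap 2, .swap 1, .swap 3, .swap 2, .swap 2, .swap 3, .swap 4, .swap 5, .swap 4, .swap 5, .swap 4, .swap 3, .swap 3, .swap 2, .swap 1, .swap 4, .swap 7, .swap 6, .swap 5, .swap 8, .cancel 7]⟩,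
  ⟨(34, 6), [12, 34, 6], [.swap 0, .swap 1], [.swap 1, .cancel 0, .swap 0, .swap 1, .swap 0, .swap 1, .swap 0, .swap 2, .swap 1, .cancel 3]⟩,
  ⟨(38, 0), [0, 34, 29], [.swap 0, .swap 1, .swap 2, .swap 1, .swap 0, .swap 0, .swap 1, .swap 4, .swap 3, .swap 2, .swap 3, .swap 2, .swap 4, .swap 3, .swap 5, .swap 4, .swap 6, .swap 5], [.swap 1, .swap 1, .swap 0, .swap 1, .swap 0, .swap 2, .swap 1, .swap 3, .swap 2, .swap 2, .swap 3, .swap 4, .swap 5, .swap 4, .swap 5, .swap 4, .swap 3, .swap 3, .swap 2, .swap 1, .swap 4, .swap 7, .swap 6, .swap 5, .swap 8, .cancel 7]⟩]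

/-- Rewriting steps, part 9. -/
def block9 : List (Eqn 48) := [
  ⟨(0, 38), [8, 38, 0], [.swap 0, .swap 1], [.swap 1, .cancel 0, .swap 0, .swap 1, .swap 0, .swap 1, .swap 0, .swap 2, .swap 1, .cancel 3]⟩,
  ⟨(27, 25), [44, 4, 25], [.swap 0, .swap 1, .swap 0, .swap 2, .swap 1, .swap 3, .swap 3, .swap 2, .swap 3, .swap 2, .swap 1, .swap 4, .swap 3, .swap 5, .swap 6, .swap 5], [.swap 1, .swap 1, .swap 0, .swap 2, .swap 1, .swap 2, .swap 1, .swap 0, .swap 0, .swap 1, .swap 4, .swap 3, .swap 2, .swap 3, .swap 2, .swap 4, .swap 3, .swap 5, .swap 4, .swap 6, .swap 7, .swap 6, .swap 6, .swap 5, .swap 4, .cancel 3, .swap 5, .swap 6]⟩,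
  ⟨(25, 27), [28, 27, 25], [.swap 0, .swap 1], [.swap 1, .cancel 0, .swap 0, .swap 1, .swap 0, .swap 1, .swap 0, .swap 2, .swap 1, .cancel 3]⟩,
  ⟨(6, 37), [25, 37, 12], [.swap 0, .swap 1, .swap 2, .swap 1, .swap 0, .swap 0, .swap 1, .swap 4, .swap 3, .swap 2, .swap 3, .swap 2, .swap 4, .swap 3, .swap 5, .swap 4, .swap 6, .swap 5], [.swap 1, .swap 1, .swap 0, .swap 1, .swap 0, .swap 2, .swap 1, .swap 3, .swap 2, .swap 2, .swap 3, .swap 4, .swap 5, .swap 4, .swap 5, .swap 4, .swap 3, .swap 3, .swap 2, .swap 1, .swap 4, .swap 7, .swap 6, .swap 5, .swap 8, .cancel 7]⟩,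
  ⟨(37, 6), [14, 6, 37], [.swap 0, .swap 1], [.swap 1, .cancel 0, .swap 0, .swap 1, .swap 0, .swap 1, .swap 0, .swap 2, .swap 1, .cancel 3]⟩,
  ⟨(40, 0), [37, 0, 29], [.swap 0, .swap 1, .swap 1, .swap 0, .swap 1, .swap 0, .swap 2, .swap 1, .swap 4], [.swap 1, .swap 0, .swap 0, .swap 1, .swap 2, .swap 1, .swap 2, .swap 1, .swap 3, .swap 2, .swap 4, .swap 3, .swap 5, .swap 4, .swap 3, .swap 3, .swap 2, .swap 2, .swap 1, .swap 0, .swap 3, .swap 5, .cancel 6, .swap 6, .swap 5, .swap 4, .swap 5, .swap 4, .swap 3, .swap 2, .swap 1, .swap 6, .swap 5, .swap 7, .cancel 6, .cancel 6]⟩,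
  ⟨(0, 40), [11, 0, 40], [.swap 0, .swap 1], [.swap 1, .cancel 0, .swap 0, .swap 1, .swap 0, .swap 1, .swap 0, .swap 2, .swap 1, .cancel 3]⟩,
  ⟨(28, 22), [22, 37, 13], [.swap 0, .swap 1, .swap 2, .swap 1, .swap 0, .swap 0, .swap 1, .swap 4, .swap 3, .swap 2, .swap 3, .swap 2, .swap 4, .swap 3, .swap 5, .swap 4, .swap 6, .swap 5], [.swap 1, .swap 1, .swap 0, .swap 1, .swap 0, .swap 2, .swap 1, .swap 3, .swap 2, .swap 2, .swap 3, .swap 4, .swap 5, .swap 4, .swap 5, .swap 4, .swap 3, .swap 3, .swap 2, .swap 1, .swap 4, .swap 7, .swap 6, .swap 5, .swap 8, .cancel 7]⟩,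
  ⟨(22, 28), [27, 28, 22], [.swap 0, .swap 1], [.swap 1, .cancel 0, .swap 0, .swap 1, .swap 0, .swap 1, .swap 0, .swap 2, .swap 1, .cancel 3]⟩,
  ⟨(28, 17), [44, 5, 17], [.swap 0, .swap 1, .swap 0, .swap 2, .swap 1, .swap 3, .swap 3, .swap 2, .swap 3, .swap 2, .swap 1, .swap 4, .swap 3, .swap 5, .swap 6, .swap 5], [.swap 1, .swap 1, .swap 0, .swap 2, .swap 1, .swap 2, .swap 1, .swap 0, .swap 0, .swap 1, .swap 4, .swap 3, .swap 2, .swap 3, .swap 2, .swap 4, .swap 3, .swap 5, .swap 4, .swap 6, .swap 7, .swap 6, .swap 6, .swap 5, .swap 4, .cancel 3, .swap 5, .swap 6]⟩,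
  ⟨(17, 28), [20, 28, 17], [.swap 0, .swap 1], [.swap 1, .cancel 0, .swap 0, .swap 1, .swap 0, .swap 1, .swap 0, .swap 2, .swap 1, .cancel 3]⟩,
  ⟨(6, 35), [17, 35, 14], [.swap 0, .swap 1, .swap 2, .swap 1, .swap 0, .swap 0, .swap 1, .swap 4, .swap 3, .swap 2, .swap 3, .swap 2, .swap 4, .swap 3, .swap 5, .swap 4, .swap 6, .swap 5], [.swap 1, .swap 1, .swap 0, .swap 1, .swap 0, .swap 2, .swap 1, .swap 3, .swap 2, .swap 2, .swap 3, .swap 4, .swap 5, .swap 4, .swap 5, .swap 4, .swap 3, .swap 3, .swap 2, .swap 1, .swap 4, .swap 7, .swap 6, .swap 5, .swap 8, .cancel 7]⟩,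
  ⟨(35, 6), [13, 35, 6], [.swap 0, .swap 1], [.swap 1, .cancel 0, .swap 0, .swap 1, .swap 0, .swap 1, .swap 0, .swap 2, .swap 1, .cancel 3]⟩,
  ⟨(39, 0), [0, 35, 29], [.swap 0, .swap 1, .swap 2, .swap 1, .swap 0, .swap 0, .swap 1, .swap 4, .swap 3, .swap 2, .swap 3, .swap 2, .swap 4, .swap 3, .swap 5, .swap 4, .swap 6, .swap 5], [.swap 1, .swap 1, .swap 0, .swap 1, .swap 0, .swap 2, .swap 1, .swap 3, .swap 2, .swap 2, .swap 3, .swap 4, .swap 5, .swap 4, .swap 5, .swap 4, .swap 3, .swap 3, .swap 2, .swap 1, .swap 4, .swap 7, .swap 6, .swap 5, .swap 8, .cancel 7]⟩,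
  ⟨(0, 39), [9, 39, 0], [.swap 0, .swap 1], [.swap 1, .cancel 0, .swap 0, .swap 1, .swap 0, .swap 1, .swap 0, .swap 2, .swap 1, .cancel 3]⟩,
  ⟨(36, 0), [0, 19, 39], [.swap 0, .swap 1, .swap 2, .swap 1, .swap 3, .swap 2], [.swap 1, .swap 1, .swap 0, .swap 1, .swap 0, .swap 2, .swap 1, .swap 3, .swap 2, .swap 2, .swap 3, .swap 4, .swap 5, .swap 4, .swap 5, .swap 4, .swap 3, .swap 3, .swap 2, .swap 1, .swap 0, .swap 0, .swap 1, .swap 2, .swap 3, .swap 2, .swap 4, .swap 3, .swap 5, .swap 4, .cancel 3, .swap 4, .cancel 3, .swap 3, .swap 4, .cancel 5, .swap 4, .cancel 5]⟩,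
  ⟨(0, 36), [7, 36, 0], [.swap 0, .swap 1], [.swap 1, .cancel 0, .swap 0, .swap 1, .swap 0, .swap 1, .swap 0, .swap 2, .swap 1, .cancel 3]⟩,
  ⟨(6, 33), [0, 33, 29], [.swap 0, .swap 1, .swap 2, .swap 1, .swap 0, .swap 0, .swap 1, .swap 4, .swap 3, .swap 2, .swap 3, .swap 2, .swap 4, .swap 3, .swap 5, .swap 4, .swap 6, .swap 5], [.swap 1, .swap 1, .swap 0, .swap 1, .swap 0, .swap 2, .swap 1, .swap 3, .swap 2, .swap 2, .swap 3, .swap 4, .swap 5, .swap 4, .swap 5, .swap 4, .swap 3, .swap 3, .swap 2, .swap 1, .swap 4, .swap 7, .swap 6, .swap 5, .swap 8, .cancel 7]⟩,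
  ⟨(33, 6), [10, 33, 6], [.swap 0, .swap 1], [.swap 1, .cancel 0, .swap 0, .swap 1, .swap 0, .swap 1, .swap 0, .swap 2, .swap 1, .cancel 3]⟩,
  ⟨(35, 1), [1, 18, 39], [.swap 0, .swap 1, .swap 2, .swap 1, .swap 3, .swap 2], [.swap 1, .swap 1, .swap 0, .swap 1, .swap 0, .swap 2, .swap 1, .swap 3, .swap 2, .swap 2, .swap 3, .swap 4, .swap 5, .swap 4, .swap 5, .swap 4, .swap 3, .swap 3, .swap 2, .swap 1, .swap 0, .swap 0, .swap 1, .swap 2, .swap 3, .swap 2, .swap 4, .swap 3, .swap 5, .swap 4, .cancel 3, .swap 4, .cancel 3, .swap 3, .swap 4, .cancel 5, .swap 4, .cancel 5]⟩,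
  ⟨(1, 35), [7, 35, 1], [.swap 0, .swap 1], [.swap 1, .cancel 0, .swap 0, .swap 1, .swap 0, .swap 1, .swap 0, .swap 2, .swap 1, .cancel 3]⟩,
  ⟨(5, 33), [1, 33, 28], [.swap 0, .swap 1, .swap 2, .swap 1, .swap 0, .swap 0, .swap 1, .swap 4, .swap 3, .swap 2, .swap 3, .swap 2, .swap 4, .swap 3, .swap 5, .swap 4, .swap 6, .swap 5], [.swap 1, .swap 1, .swap 0, .swap 1, .swap 0, .swap 2, .swap 1, .swap 3, .swap 2, .swap 2, .swap 3, .swap 4, .swap 5, .swap 4, .swap 5, .swap 4, .swap 3, .swap 3, .swap 2, .swap 1, .swap 4, .swap 7, .swap 6, .swap 5, .swap 8, .cancel 7]⟩,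
  ⟨(33, 5), [9, 33, 5], [.swap 0, .swap 1], [.swap 1, .cancel 0, .swap 0, .swap 1, .swap 0, .swap 1, .swap 0, .swap 2, .swap 1, .cancel 3]⟩,
  ⟨(34, 2), [2, 18, 38], [.swap 0, .swap 1, .swap 2, .swap 1, .swap 3, .swap 2], [.swap 1, .swap 1, .swap 0, .swap 1, .swap 0, .swap 2, .swap 1, .swap 3, .swap 2, .swap 2, .swap 3, .swap 4, .swap 5, .swap 4, .swap 5, .swap 4, .swap 3, .swap 3, .swap 2, .swap 1, .swap 0, .swap 0, .swap 1, .swap 2, .swap 3, .swap 2, .swap 4, .swap 3, .swap 5, .swap 4, .cancel 3, .swap 4, .cancel 3, .swap 3, .swap 4, .cancel 5, .swap 4, .cancel 5]⟩,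
  ⟨(2, 34), [7, 34, 2], [.swap 0, .swap 1], [.swap 1, .cancel 0, .swap 0, .swap 1, .swap 0, .swap 1, .swap 0, .swap 2, .swap 1, .cancel 3]⟩,
  ⟨(4, 33), [2, 33, 27], [.swap 0, .swap 1, .swap 2, .swap 1, .swap 0, .swap 0, .swap 1, .swap 4, .swap 3, .swap 2, .swap 3, .swap 2, .swap 4, .swap 3, .swap 5, .swap 4, .swap 6, .swap 5], [.swap 1, .swap 1, .swap 0, .swap 1, .swap 0, .swap 2, .swap 1, .swap 3, .swap 2, .swap 2, .swap 3, .swap 4, .swap 5, .swap 4, .swap 5, .swap 4, .swap 3, .swap 3, .swap 2, .swap 1, .swap 4, .swap 7, .swap 6, .swap 5, .swap 8, .cancel 7]⟩,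
  ⟨(33, 4), [8, 33, 4], [.swap 0, .swap 1], [.swap 1, .cancel 0, .swap 0, .swap 1, .swap 0, .swap 1, .swap 0, .swap 2, .swap 1, .cancel 3]⟩,
  ⟨(13, 15), [15, 5, 36], [.swap 0, .swap 0, .swap 1, .swap 2, .swap 3, .swap 2, .swap 1, .swap 0, .swap 1, .swap 0, .swap 2, .swap 1, .swap 3, .swap 3, .swap 2, .swap 3, .swap 2, .swap 4, .swap 3, .swap 5, .swap 6, .swap 5, .swap 4, .swap 7, .swap 6, .cancel 5, .swap 6, .cancel 5, .swap 5, .swap 4, .swap 4, .swap 5, .cancel 6], [.swap 1, .swap 2, .swap 1, .swap 0, .swap 3, .swap 2, .swap 1, .swap 1, .swap 2, .swap 3]⟩,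
  ⟨(15, 13), [2, 13, 15], [.swap 0, .swap 1], [.swap 1, .swap 0, .cancel 1, .swap 0, .swap 1, .swap 0, .swap 1, .swap 0, .swap 2, .swap 1, .swap 3, .cancel 2]⟩,
  ⟨(20, 4), [4, 13, 33], [.swap 0, .swap 1, .swap 2, .swap 1, .swap 3, .swap 2], [.swap 1, .swap 1, .swap 0, .swap 1, .swap 0, .swap 2, .swap 1, .swap 3, .swap 2, .swap 2, .swap 3, .swap 4, .swap 5, .swap 4, .swap 5, .swap 4, .swap 3, .swap 3, .swap 2, .swap 1, .swap 0, .swap 0, .swap 1, .swap 2, .swap 3, .swap 2, .swap 4, .swap 3, .swap 5, .swap 4, .cancel 3, .swap 4, .cancel 3, .swap 3, .swap 4, .cancel 5, .swap 4, .cancel 5]⟩,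
  ⟨(4, 20), [2, 20, 4], [.swap 0, .swap 1], [.swap 1, .swap 0, .cancel 1, .swap 0, .swap 1, .swap 0, .swap 1, .swap 0, .swap 2, .swap 1, .swap 3, .cancel 2]⟩,
  ⟨(32, 7), [4, 7, 39], [.swap 0, .swap 1, .swap 2, .swap 1, .swap 3, .swap 2], [.swap 1, .swap 1, .swap 0, .swap 1, .swap 0, .swap 2, .swap 1, .swap 3, .swap 2, .swap 2, .swap 3, .swap 4, .swap 5, .swap 4, .swap 5, .swap 4, .swap 3, .swap 3, .swap 2, .swap 1, .swap 0, .swap 0, .swap 1, .swap 2, .swap 3, .swap 2, .swap 4, .swap 3, .swap 5, .swap 4, .cancel 3, .swap 4, .cancel 3, .swap 3, .swap 4, .cancel 5, .swap 4, .cancel 5]⟩,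
  ⟨(7, 32), [2, 7, 32], [.swap 0, .swap 1], [.swap 1, .swap 0, .cancel 1, .swap 0, .swap 1, .swap 0, .swap 1, .swap 0, .swap 2, .swap 1, .swap 3, .cancel 2]⟩,
  ⟨(24, 9), [4, 9, 36], [.swap 0, .swap 1, .swap 2, .swap 1, .swap 3, .swap 2], [.swap 1, .swap 1, .swap 0, .swap 1, .swap 0, .swap 2, .swap 1, .swap 3, .swap 2, .swap 2, .swap 3, .swap 4, .swap 5, .swap 4, .swap 5, .swap 4, .swap 3, .swap 3, .swap 2, .swap 1, .swap 0, .swap 0, .swap 1, .swap 2, .swap 3, .swap 2, .swap 4, .swap 3, .swap 5, .swap 4, .cancel 3, .swap 4, .cancel 3, .swap 3, .swap 4, .cancel 5, .swap 4, .cancel 5]⟩,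
  ⟨(9, 24), [2, 9, 24], [.swap 0, .swap 1], [.swap 1, .swap 0, .cancel 1, .swap 0, .swap 1, .swap 0, .swap 1, .swap 0, .swap 2, .swap 1, .swap 3, .cancel 2]⟩,
  ⟨(23, 10), [4, 10, 35], [.swap 0, .swap 1, .swap 2, .swap 1, .swap 3, .swap 2], [.swap 1, .swap 1, .swap 0, .swap 1, .swap 0, .swap 2, .swap 1, .swap 3, .swap 2, .swap 2, .swap 3, .swap 4, .swap 5, .swap 4, .swap 5, .swap 4, .swap 3, .swap 3, .swap 2, .swap 1, .swap 0, .swap 0, .swap 1, .swap 2, .swap 3, .swap 2, .swap 4, .swap 3, .swap 5, .swap 4, .cancel 3, .swap 4, .cancel 3, .swap 3, .swap 4, .cancel 5, .swap 4, .cancel 5]⟩,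
  ⟨(10, 23), [2, 10, 23], [.swap 0, .swap 1], [.swap 1, .swap 0, .cancel 1, .swap 0, .swap 1, .swap 0, .swap 1, .swap 0, .swap 2, .swap 1, .swap 3, .cancel 2]⟩,
  ⟨(14, 15), [15, 5, 38], [.swap 0, .swap 0, .swap 1, .swap 2, .swap 3, .swap 2, .swap 1, .swap 0, .swap 1, .swap 0, .swap 2, .swap 1, .swap 3, .swap 3, .swap 2, .swap 3, .swap 2, .swap 4, .swap 3, .swap 5, .swap 6, .swap 5, .swap 4, .swap 7, .swap 6, .cancel 5, .swap 6, .cancel 5, .swap 5, .swap 4, .swap 4, .swap 5, .cancel 6], [.swap 1, .swap 2, .swap 1, .swap 0, .swap 3, .swap 2, .swap 1, .swap 1, .swap 2, .swap 3]⟩,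
  ⟨(15, 14), [4, 14, 15], [.swap 0, .swap 1], [.swap 1, .swap 0, .cancel 1, .swap 0, .swap 1, .swap 0, .swap 1, .swap 0, .swap 2, .swap 1, .swap 3, .cancel 2]⟩,
  ⟨(27, 2), [2, 14, 34], [.swap 0, .swap 1, .swap 2, .swap 1, .swap 3, .swap 2], [.swap 1, .swap 1, .swap 0, .swap 1, .swap 0, .swap 2, .swap 1, .swap 3, .swap 2, .swap 2, .swap 3, .swap 4, .swap 5, .swap 4, .swap 5, .swap 4, .swap 3, .swap 3, .swap 2, .swap 1, .swap 0, .swap 0, .swap 1, .swap 2, .swap 3, .swap 2, .swap 4, .swap 3, .swap 5, .swap 4, .cancel 3, .swap 4, .cancel 3, .swap 3, .swap 4, .cancel 5, .swap 4, .cancel 5]⟩,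
  ⟨(2, 27), [3, 27, 2], [.swap 0, .swap 1], [.swap 1, .cancel 0, .swap 0, .swap 1, .swap 0, .swap 1, .swap 0, .swap 2, .swap 1, .cancel 3]⟩,
  ⟨(24, 11), [2, 11, 38], [.swap 0, .swap 1, .swap 2, .swap 1, .swap 3, .swap 2], [.swap 1, .swap 1, .swap 0, .swap 1, .swap 0, .swap 2, .swap 1, .swap 3, .swap 2, .swap 2, .swap 3, .swap 4, .swap 5, .swap 4, .swap 5, .swap 4, .swap 3, .swap 3, .swap 2, .swap 1, .swap 0, .swap 0, .swap 1, .swap 2, .swap 3, .swap 2, .swap 4, .swap 3, .swap 5, .swap 4, .cancel 3, .swap 4, .cancel 3, .swap 3, .swap 4, .cancel 5, .swap 4, .cancel 5]⟩,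
  ⟨(11, 24), [4, 11, 24], [.swap 0, .swap 1], [.swap 1, .swap 0, .cancel 1, .swap 0, .swap 1, .swap 0, .swap 1, .swap 0, .swap 2, .swap 1, .swap 3, .cancel 2]⟩,
  ⟨(23, 12), [2, 12, 37], [.swap 0, .swap 1, .swap 2, .swap 1, .swap 3, .swap 2], [.swap 1, .swap 1, .swap 0, .swap 1, .swap 0, .swap 2, .swap 1, .swap 3, .swap 2, .swap 2, .swap 3, .swap 4, .swap 5, .swap 4, .swap 5, .swap 4, .swap 3, .swap 3, .swap 2, .swap 1, .swap 0, .swap 0, .swap 1, .swap 2, .swap 3, .swap 2, .swap 4, .swap 3, .swap 5, .swap 4, .cancel 3, .swap 4, .cancel 3, .swap 3, .swap 4, .cancel 5, .swap 4, .cancel 5]⟩,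
  ⟨(12, 23), [4, 12, 23], [.swap 0, .swap 1], [.swap 1, .swap 0, .cancel 1, .swap 0, .swap 1, .swap 0, .swap 1, .swap 0, .swap 2, .swap 1, .swap 3, .cancel 2]⟩,
  ⟨(43, 3), [15, 39, 3], [.swap 0, .swap 1, .swap 0, .swap 2, .swap 1, .swap 3, .swap 4, .swap 3, .swap 2, .swap 2, .swap 1, .swap 0, .swap 0, .swap 1, .swap 4, .swap 7, .swap 6], [.swap 1, .swap 0, .swap 1, .swap 0, .swap 2, .swap 1, .swap 3, .swap 2, .swap 1, .swap 0, .swap 4, .swap 3, .swap 3, .swap 2, .swap 3, .swap 2, .swap 1, .swap 4, .swap 3, .swap 6, .swap 5]⟩,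
  ⟨(3, 43), [2, 3, 43], [.swap 0, .swap 1], [.swap 1, .swap 0, .cancel 1, .swap 0, .swap 1, .swap 0, .swap 1, .swap 0, .swap 2, .swap 1, .swap 3, .cancel 2]⟩,
  ⟨(45, 3), [15, 40, 3], [.swap 0, .swap 1, .swap 0, .swap 2, .swap 1, .swap 3, .swap 4, .swap 3, .swap 2, .swap 2, .swap 1, .swap 0, .swap 0, .swap 1, .swap 4, .swap 7, .swap 6], [.swap 1, .swap 0, .swap 1, .swap 0, .swap 2, .swap 1, .swap 3, .swap 2, .swap 1, .swap 0, .swap 4, .swap 3, .swap 3, .swap 2, .swap 3, .swap 2, .swap 1, .swap 4, .swap 3, .swap 6, .swap 5]⟩,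
  ⟨(3, 45), [4, 3, 45], [.swap 0, .swap 1], [.swap 1, .swap 0, .cancel 1, .swap 0, .swap 1, .swap 0, .swap 1, .swap 0, .swap 2, .swap 1, .swap 3, .cancel 2]⟩,
  ⟨(12, 16), [16, 4, 36], [.swap 0, .swap 0, .swap 1, .swap 2, .swap 3, .swap 2, .swap 1, .swap 0, .swap 1, .swap 0, .swap 2, .swap 1, .swap 3, .swap 3, .swap 2, .swap 3, .swap 2, .swap 4, .swap 3, .swap 5, .swap 6, .swap 5, .swap 4, .swap 7, .swap 6, .cancel 5, .swap 6, .cancel 5, .swap 5, .swap 4, .swap 4, .swap 5, .cancel 6], [.swap 1, .swap 2, .swap 1, .swap 0, .swap 3, .swap 2, .swap 1, .swap 1, .swap 2, .swap 3]⟩,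
  ⟨(16, 12), [1, 12, 16], [.swap 0, .swap 1], [.swap 1, .swap 0, .cancel 1, .swap 0, .swap 1, .swap 0, .swap 1, .swap 0, .swap 2, .swap 1, .swap 3, .cancel 2]⟩,
  ⟨(19, 5), [5, 12, 33], [.swap 0, .swap 1, .swap 2, .swap 1, .swap 3, .swap 2], [.swap 1, .swap 1, .swap 0, .swap 1, .swap 0, .swap 2, .swap 1, .swap 3, .swap 2, .swap 2, .swap 3, .swap 4, .swap 5, .swap 4, .swap 5, .swap 4, .swap 3, .swap 3, .swap 2, .swap 1, .swap 0, .swap 0, .swap 1, .swap 2, .swap 3, .swap 2, .swap 4, .swap 3, .swap 5, .swap 4, .cancel 3, .swap 4, .cancel 3, .swap 3, .swap 4, .cancel 5, .swap 4, .cancel 5]⟩]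

/-- Rewriting steps, part 10. -/
def block10 : List (Eqn 48) := [
  ⟨(5, 19), [1, 19, 5], [.swap 0, .swap 1], [.swap 1, .swap 0, .cancel 1, .swap 0, .swap 1, .swap 0, .swap 1, .swap 0, .swap 2, .swap 1, .swap 3, .cancel 2]⟩,
  ⟨(31, 7), [5, 7, 38], [.swap 0, .swap 1, .swap 2, .swap 1, .swap 3, .swap 2], [.swap 1, .swap 1, .swap 0, .swap 1, .swap 0, .swap 2, .swap 1, .swap 3, .swap 2, .swap 2, .swap 3, .swap 4, .swap 5, .swap 4, .swap 5, .swap 4, .swap 3, .swap 3, .swap 2, .swap 1, .swap 0, .swap 0, .swap 1, .swap 2, .swap 3, .swap 2, .swap 4, .swap 3, .swap 5, .swap 4, .cancel 3, .swap 4, .cancel 3, .swap 3, .swap 4, .cancel 5, .swap 4, .cancel 5]⟩,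
  ⟨(7, 31), [1, 7, 31], [.swap 0, .swap 1], [.swap 1, .swap 0, .cancel 1, .swap 0, .swap 1, .swap 0, .swap 1, .swap 0, .swap 2, .swap 1, .swap 3, .cancel 2]⟩,
  ⟨(26, 8), [5, 8, 36], [.swap 0, .swap 1, .swap 2, .swap 1, .swap 3, .swap 2], [.swap 1, .swap 1, .swap 0, .swap 1, .swap 0, .swap 2, .swap 1, .swap 3, .swap 2, .swap 2, .swap 3, .swap 4, .swap 5, .swap 4, .swap 5, .swap 4, .swap 3, .swap 3, .swap 2, .swap 1, .swap 0, .swap 0, .swap 1, .swap 2, .swap 3, .swap 2, .swap 4, .swap 3, .swap 5, .swap 4, .cancel 3, .swap 4, .cancel 3, .swap 3, .swap 4, .cancel 5, .swap 4, .cancel 5]⟩,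
  ⟨(8, 26), [1, 8, 26], [.swap 0, .swap 1], [.swap 1, .swap 0, .cancel 1, .swap 0, .swap 1, .swap 0, .swap 1, .swap 0, .swap 2, .swap 1, .swap 3, .cancel 2]⟩,
  ⟨(21, 10), [5, 10, 34], [.swap 0, .swap 1, .swap 2, .swap 1, .swap 3, .swap 2], [.swap 1, .swap 1, .swap 0, .swap 1, .swap 0, .swap 2, .swap 1, .swap 3, .swap 2, .swap 2, .swap 3, .swap 4, .swap 5, .swap 4, .swap 5, .swap 4, .swap 3, .swap 3, .swap 2, .swap 1, .swap 0, .swap 0, .swap 1, .swap 2, .swap 3, .swap 2, .swap 4, .swap 3, .swap 5, .swap 4, .cancel 3, .swap 4, .cancel 3, .swap 3, .swap 4, .cancel 5, .swap 4, .cancel 5]⟩,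
  ⟨(10, 21), [1, 10, 21], [.swap 0, .swap 1], [.swap 1, .swap 0, .cancel 1, .swap 0, .swap 1, .swap 0, .swap 1, .swap 0, .swap 2, .swap 1, .swap 3, .cancel 2]⟩,
  ⟨(14, 16), [16, 4, 39], [.swap 0, .swap 0, .swap 1, .swap 2, .swap 3, .swap 2, .swap 1, .swap 0, .swap 1, .swap 0, .swap 2, .swap 1, .swap 3, .swap 3, .swap 2, .swap 3, .swap 2, .swap 4, .swap 3, .swap 5, .swap 6, .swap 5, .swap 4, .swap 7, .swap 6, .cancel 5, .swap 6, .cancel 5, .swap 5, .swap 4, .swap 4, .swap 5, .cancel 6], [.swap 1, .swap 2, .swap 1, .swap 0, .swap 3, .swap 2, .swap 1, .swap 1, .swap 2, .swap 3]⟩,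
  ⟨(16, 14), [5, 14, 16], [.swap 0, .swap 1], [.swap 1, .swap 0, .cancel 1, .swap 0, .swap 1, .swap 0, .swap 1, .swap 0, .swap 2, .swap 1, .swap 3, .cancel 2]⟩,
  ⟨(28, 1), [1, 14, 35], [.swap 0, .swap 1, .swap 2, .swap 1, .swap 3, .swap 2], [.swap 1, .swap 1, .swap 0, .swap 1, .swap 0, .swap 2, .swap 1, .swap 3, .swap 2, .swap 2, .swap 3, .swap 4, .swap 5, .swap 4, .swap 5, .swap 4, .swap 3, .swap 3, .swap 2, .swap 1, .swap 0, .swap 0, .swap 1, .swap 2, .swap 3, .swap 2, .swap 4, .swap 3, .swap 5, .swap 4, .cancel 3, .swap 4, .cancel 3, .swap 3, .swap 4, .cancel 5, .swap 4, .cancel 5]⟩,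
  ⟨(1, 28), [3, 28, 1], [.swap 0, .swap 1], [.swap 1, .cancel 0, .swap 0, .swap 1, .swap 0, .swap 1, .swap 0, .swap 2, .swap 1, .cancel 3]⟩,
  ⟨(26, 11), [1, 11, 39], [.swap 0, .swap 1, .swap 2, .swap 1, .swap 3, .swap 2], [.swap 1, .swap 1, .swap 0, .swap 1, .swap 0, .swap 2, .swap 1, .swap 3, .swap 2, .swap 2, .swap 3, .swap 4, .swap 5, .swap 4, .swap 5, .swap 4, .swap 3, .swap 3, .swap 2, .swap 1, .swap 0, .swap 0, .swap 1, .swap 2, .swap 3, .swap 2, .swap 4, .swap 3, .swap 5, .swap 4, .cancel 3, .swap 4, .cancel 3, .swap 3, .swap 4, .cancel 5, .swap 4, .cancel 5]⟩,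
  ⟨(11, 26), [5, 11, 26], [.swap 0, .swap 1], [.swap 1, .swap 0, .cancel 1, .swap 0, .swap 1, .swap 0, .swap 1, .swap 0, .swap 2, .swap 1, .swap 3, .cancel 2]⟩,
  ⟨(21, 13), [1, 13, 37], [.swap 0, .swap 1, .swap 2, .swap 1, .swap 3, .swap 2], [.swap 1, .swap 1, .swap 0, .swap 1, .swap 0, .swap 2, .swap 1, .swap 3, .swap 2, .swap 2, .swap 3, .swap 4, .swap 5, .swap 4, .swap 5, .swap 4, .swap 3, .swap 3, .swap 2, .swap 1, .swap 0, .swap 0, .swap 1, .swap 2, .swap 3, .swap 2, .swap 4, .swap 3, .swap 5, .swap 4, .cancel 3, .swap 4, .cancel 3, .swap 3, .swap 4, .cancel 5, .swap 4, .cancel 5]⟩,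
  ⟨(13, 21), [5, 13, 21], [.swap 0, .swap 1], [.swap 1, .swap 0, .cancel 1, .swap 0, .swap 1, .swap 0, .swap 1, .swap 0, .swap 2, .swap 1, .swap 3, .cancel 2]⟩,
  ⟨(2, 37), [16, 6, 37], [.swap 0, .swap 0, .swap 1, .swap 2, .swap 3, .swap 2, .swap 1, .swap 0, .swap 1, .swap 0, .swap 2, .swap 1, .swap 3, .swap 3, .swap 2, .swap 3, .swap 2, .swap 4, .swap 3, .swap 5, .swap 6, .swap 5, .swap 4, .swap 7, .swap 6, .cancel 5, .swap 6, .cancel 5, .swap 5, .swap 4, .swap 4, .swap 5, .cancel 6], [.swap 1, .swap 2, .swap 1, .swap 0, .swap 3, .swap 2, .swap 1, .swap 1, .swap 2, .swap 3]⟩,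
  ⟨(37, 2), [9, 37, 2], [.swap 0, .swap 1], [.swap 1, .cancel 0, .swap 0, .swap 1, .swap 0, .swap 1, .swap 0, .swap 2, .swap 1, .cancel 3]⟩,
  ⟨(4, 35), [2, 35, 27], [.swap 0, .swap 1, .swap 2, .swap 1, .swap 0, .swap 0, .swap 1, .swap 4, .swap 3, .swap 2, .swap 3, .swap 2, .swap 4, .swap 3, .swap 5, .swap 4, .swap 6, .swap 5], [.swap 1, .swap 1, .swap 0, .swap 1, .swap 0, .swap 2, .swap 1, .swap 3, .swap 2, .swap 2, .swap 3, .swap 4, .swap 5, .swap 4, .swap 5, .swap 4, .swap 3, .swap 3, .swap 2, .swap 1, .swap 4, .swap 7, .swap 6, .swap 5, .swap 8, .cancel 7]⟩,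
  ⟨(35, 4), [11, 35, 4], [.swap 0, .swap 1], [.swap 1, .cancel 0, .swap 0, .swap 1, .swap 0, .swap 1, .swap 0, .swap 2, .swap 1, .cancel 3]⟩,
  ⟨(28, 15), [15, 35, 14], [.swap 0, .swap 1, .swap 2, .swap 1, .swap 0, .swap 0, .swap 1, .swap 4, .swap 3, .swap 2, .swap 3, .swap 2, .swap 4, .swap 3, .swap 5, .swap 4, .swap 6, .swap 5], [.swap 1, .swap 1, .swap 0, .swap 1, .swap 0, .swap 2, .swap 1, .swap 3, .swap 2, .swap 2, .swap 3, .swap 4, .swap 5, .swap 4, .swap 5, .swap 4, .swap 3, .swap 3, .swap 2, .swap 1, .swap 4, .swap 7, .swap 6, .swap 5, .swap 8, .cancel 7]⟩,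
  ⟨(15, 28), [18, 28, 15], [.swap 0, .swap 1], [.swap 1, .cancel 0, .swap 0, .swap 1, .swap 0, .swap 1, .swap 0, .swap 2, .swap 1, .cancel 3]⟩,
  ⟨(32, 18), [2, 18, 40], [.swap 0, .swap 1, .swap 2, .swap 1, .swap 3, .swap 2], [.swap 1, .swap 1, .swap 0, .swap 1, .swap 0, .swap 2, .swap 1, .swap 3, .swap 2, .swap 2, .swap 3, .swap 4, .swap 5, .swap 4, .swap 5, .swap 4, .swap 3, .swap 3, .swap 2, .swap 1, .swap 0, .swap 0, .swap 1, .swap 2, .swap 3, .swap 2, .swap 4, .swap 3, .swap 5, .swap 4, .cancel 3, .swap 4, .cancel 3, .swap 3, .swap 4, .cancel 5, .swap 4, .cancel 5]⟩,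
  ⟨(18, 32), [23, 18, 32], [.swap 0, .swap 1], [.swap 1, .swap 0, .cancel 1, .swap 0, .swap 1, .swap 0, .swap 1, .swap 0, .swap 2, .swap 1, .swap 3, .cancel 2]⟩,
  ⟨(43, 11), [15, 11, 39], [.swap 0, .swap 1, .swap 2, .swap 1, .swap 3, .swap 2], [.swap 1, .swap 1, .swap 0, .swap 1, .swap 0, .swap 2, .swap 1, .swap 3, .swap 2, .swap 2, .swap 3, .swap 4, .swap 5, .swap 4, .swap 5, .swap 4, .swap 3, .swap 3, .swap 2, .swap 1, .swap 0, .swap 0, .swap 1, .swap 2, .swap 3, .swap 2, .swap 4, .swap 3, .swap 5, .swap 4, .cancel 3, .swap 4, .cancel 3, .swap 3, .swap 4, .cancel 5, .swap 4, .cancel 5]⟩,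
  ⟨(11, 43), [23, 11, 43], [.swap 0, .swap 1], [.swap 1, .swap 0, .cancel 1, .swap 0, .swap 1, .swap 0, .swap 1, .swap 0, .swap 2, .swap 1, .swap 3, .cancel 2]⟩,
  ⟨(42, 3), [16, 38, 3], [.swap 0, .swap 1, .swap 0, .swap 2, .swap 1, .swap 3, .swap 4, .swap 3, .swap 2, .swap 2, .swap 1, .swap 0, .swap 0, .swap 1, .swap 4, .swap 7, .swap 6], [.swap 1, .swap 0, .swap 1, .swap 0, .swap 2, .swap 1, .swap 3, .swap 2, .swap 1, .swap 0, .swap 4, .swap 3, .swap 3, .swap 2, .swap 3, .swap 2, .swap 1, .swap 4, .swap 3, .swap 6, .swap 5]⟩,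
  ⟨(3, 42), [1, 3, 42], [.swap 0, .swap 1], [.swap 1, .swap 0, .cancel 1, .swap 0, .swap 1, .swap 0, .swap 1, .swap 0, .swap 2, .swap 1, .swap 3, .cancel 2]⟩,
  ⟨(46, 3), [16, 40, 3], [.swap 0, .swap 1, .swap 0, .swap 2, .swap 1, .swap 3, .swap 4, .swap 3, .swap 2, .swap 2, .swap 1, .swap 0, .swap 0, .swap 1, .swap 4, .swap 7, .swap 6], [.swap 1, .swap 0, .swap 1, .swap 0, .swap 2, .swap 1, .swap 3, .swap 2, .swap 1, .swap 0, .swap 4, .swap 3, .swap 3, .swap 2, .swap 3, .swap 2, .swap 1, .swap 4, .swap 3, .swap 6, .swap 5]⟩,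
  ⟨(3, 46), [5, 3, 46], [.swap 0, .swap 1], [.swap 1, .swap 0, .cancel 1, .swap 0, .swap 1, .swap 0, .swap 1, .swap 0, .swap 2, .swap 1, .swap 3, .cancel 2]⟩,
  ⟨(11, 17), [17, 4, 35], [.swap 0, .swap 0, .swap 1, .swap 2, .swap 3, .swap 2, .swap 1, .swap 0, .swap 1, .swap 0, .swap 2, .swap 1, .swap 3, .swap 3, .swap 2, .swap 3, .swap 2, .swap 4, .swap 3, .swap 5, .swap 6, .swap 5, .swap 4, .swap 7, .swap 6, .cancel 5, .swap 6, .cancel 5, .swap 5, .swap 4, .swap 4, .swap 5, .cancel 6], [.swap 1, .swap 2, .swap 1, .swap 0, .swap 3, .swap 2, .swap 1, .swap 1, .swap 2, .swap 3]⟩,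
  ⟨(17, 11), [0, 11, 17], [.swap 0, .swap 1], [.swap 1, .swap 0, .cancel 1, .swap 0, .swap 1, .swap 0, .swap 1, .swap 0, .swap 2, .swap 1, .swap 3, .cancel 2]⟩,
  ⟨(18, 6), [6, 11, 33], [.swap 0, .swap 1, .swap 2, .swap 1, .swap 3, .swap 2], [.swap 1, .swap 1, .swap 0, .swap 1, .swap 0, .swap 2, .swap 1, .swap 3, .swap 2, .swap 2, .swap 3, .swap 4, .swap 5, .swap 4, .swap 5, .swap 4, .swap 3, .swap 3, .swap 2, .swap 1, .swap 0, .swap 0, .swap 1, .swap 2, .swap 3, .swap 2, .swap 4, .swap 3, .swap 5, .swap 4, .cancel 3, .swap 4, .cancel 3, .swap 3, .swap 4, .cancel 5, .swap 4, .cancel 5]⟩,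
  ⟨(6, 18), [0, 18, 6], [.swap 0, .swap 1], [.swap 1, .swap 0, .cancel 1, .swap 0, .swap 1, .swap 0, .swap 1, .swap 0, .swap 2, .swap 1, .swap 3, .cancel 2]⟩,
  ⟨(30, 7), [6, 7, 37], [.swap 0, .swap 1, .swap 2, .swap 1, .swap 3, .swap 2], [.swap 1, .swap 1, .swap 0, .swap 1, .swap 0, .swap 2, .swap 1, .swap 3, .swap 2, .swap 2, .swap 3, .swap 4, .swap 5, .swap 4, .swap 5, .swap 4, .swap 3, .swap 3, .swap 2, .swap 1, .swap 0, .swap 0, .swap 1, .swap 2, .swap 3, .swap 2, .swap 4, .swap 3, .swap 5, .swap 4, .cancel 3, .swap 4, .cancel 3, .swap 3, .swap 4, .cancel 5, .swap 4, .cancel 5]⟩,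
  ⟨(7, 30), [0, 7, 30], [.swap 0, .swap 1], [.swap 1, .swap 0, .cancel 1, .swap 0, .swap 1, .swap 0, .swap 1, .swap 0, .swap 2, .swap 1, .swap 3, .cancel 2]⟩,
  ⟨(25, 8), [6, 8, 35], [.swap 0, .swap 1, .swap 2, .swap 1, .swap 3, .swap 2], [.swap 1, .swap 1, .swap 0, .swap 1, .swap 0, .swap 2, .swap 1, .swap 3, .swap 2, .swap 2, .swap 3, .swap 4, .swap 5, .swap 4, .swap 5, .swap 4, .swap 3, .swap 3, .swap 2, .swap 1, .swap 0, .swap 0, .swap 1, .swap 2, .swap 3, .swap 2, .swap 4, .swap 3, .swap 5, .swap 4, .cancel 3, .swap 4, .cancel 3, .swap 3, .swap 4, .cancel 5, .swap 4, .cancel 5]⟩,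
  ⟨(8, 25), [0, 8, 25], [.swap 0, .swap 1], [.swap 1, .swap 0, .cancel 1, .swap 0, .swap 1, .swap 0, .swap 1, .swap 0, .swap 2, .swap 1, .swap 3, .cancel 2]⟩,
  ⟨(22, 9), [6, 9, 34], [.swap 0, .swap 1, .swap 2, .swap 1, .swap 3, .swap 2], [.swap 1, .swap 1, .swap 0, .swap 1, .swap 0, .swap 2, .swap 1, .swap 3, .swap 2, .swap 2, .swap 3, .swap 4, .swap 5, .swap 4, .swap 5, .swap 4, .swap 3, .swap 3, .swap 2, .swap 1, .swap 0, .swap 0, .swap 1, .swap 2, .swap 3, .swap 2, .swap 4, .swap 3, .swap 5, .swap 4, .cancel 3, .swap 4, .cancel 3, .swap 3, .swap 4, .cancel 5, .swap 4, .cancel 5]⟩,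
  ⟨(9, 22), [0, 9, 22], [.swap 0, .swap 1], [.swap 1, .swap 0, .cancel 1, .swap 0, .swap 1, .swap 0, .swap 1, .swap 0, .swap 2, .swap 1, .swap 3, .cancel 2]⟩,
  ⟨(41, 3), [17, 37, 3], [.swap 0, .swap 1, .swap 0, .swap 2, .swap 1, .swap 3, .swap 4, .swap 3, .swap 2, .swap 2, .swap 1, .swap 0, .swap 0, .swap 1, .swap 4, .swap 7, .swap 6], [.swap 1, .swap 0, .swap 1, .swap 0, .swap 2, .swap 1, .swap 3, .swap 2, .swap 1, .swap 0, .swap 4, .swap 3, .swap 3, .swap 2, .swap 3, .swap 2, .swap 1, .swap 4, .swap 3, .swap 6, .swap 5]⟩,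
  ⟨(3, 41), [0, 3, 41], [.swap 0, .swap 1], [.swap 1, .swap 0, .cancel 1, .swap 0, .swap 1, .swap 0, .swap 1, .swap 0, .swap 2, .swap 1, .swap 3, .cancel 2]⟩,
  ⟨(31, 9), [21, 29, 9], [.swap 0, .swap 1, .swap 0, .swap 2, .swap 1, .swap 3, .swap 4, .swap 3, .swap 2, .swap 2, .swap 1, .swap 0, .swap 0, .swap 1, .swap 4, .swap 7, .swap 6], [.swap 1, .swap 0, .swap 1, .swap 0, .swap 2, .swap 1, .swap 3, .swap 2, .swap 1, .swap 0, .swap 4, .swap 3, .swap 3, .swap 2, .swap 3, .swap 2, .swap 1, .swap 4, .swap 3, .swap 6, .swap 5]⟩,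
  ⟨(9, 31), [5, 9, 31], [.swap 0, .swap 1], [.swap 1, .swap 0, .cancel 1, .swap 0, .swap 1, .swap 0, .swap 1, .swap 0, .swap 2, .swap 1, .swap 3, .cancel 2]⟩,
  ⟨(42, 9), [21, 36, 9], [.swap 0, .swap 1, .swap 0, .swap 2, .swap 1, .swap 3, .swap 4, .swap 3, .swap 2, .swap 2, .swap 1, .swap 0, .swap 0, .swap 1, .swap 4, .swap 7, .swap 6], [.swap 1, .swap 0, .swap 1, .swap 0, .swap 2, .swap 1, .swap 3, .swap 2, .swap 1, .swap 0, .swap 4, .swap 3, .swap 3, .swap 2, .swap 3, .swap 2, .swap 1, .swap 4, .swap 3, .swap 6, .swap 5]⟩,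
  ⟨(9, 42), [16, 9, 42], [.swap 0, .swap 1], [.swap 1, .swap 0, .cancel 1, .swap 0, .swap 1, .swap 0, .swap 1, .swap 0, .swap 2, .swap 1, .swap 3, .cancel 2]⟩,
  ⟨(46, 7), [21, 39, 7], [.swap 0, .swap 1, .swap 0, .swap 2, .swap 1, .swap 3, .swap 4, .swap 3, .swap 2, .swap 2, .swap 1, .swap 0, .swap 0, .swap 1, .swap 4, .swap 7, .swap 6], [.swap 1, .swap 0, .swap 1, .swap 0, .swap 2, .swap 1, .swap 3, .swap 2, .swap 1, .swap 0, .swap 4, .swap 3, .swap 3, .swap 2, .swap 3, .swap 2, .swap 1, .swap 4, .swap 3, .swap 6, .swap 5]⟩,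
  ⟨(7, 46), [16, 7, 46], [.swap 0, .swap 1], [.swap 1, .swap 0, .cancel 1, .swap 0, .swap 1, .swap 0, .swap 1, .swap 0, .swap 2, .swap 1, .swap 3, .cancel 2]⟩,
  ⟨(30, 10), [22, 28, 10], [.swap 0, .swap 1, .swap 0, .swap 2, .swap 1, .swap 3, .swap 4, .swap 3, .swap 2, .swap 2, .swap 1, .swap 0, .swap 0, .swap 1, .swap 4, .swap 7, .swap 6], [.swap 1, .swap 0, .swap 1, .swap 0, .swap 2, .swap 1, .swap 3, .swap 2, .swap 1, .swap 0, .swap 4, .swap 3, .swap 3, .swap 2, .swap 3, .swap 2, .swap 1, .swap 4, .swap 3, .swap 6, .swap 5]⟩,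
  ⟨(10, 30), [6, 10, 30], [.swap 0, .swap 1], [.swap 1, .swap 0, .cancel 1, .swap 0, .swap 1, .swap 0, .swap 1, .swap 0, .swap 2, .swap 1, .swap 3, .cancel 2]⟩,
  ⟨(41, 10), [22, 35, 10], [.swap 0, .swap 1, .swap 0, .swap 2, .swap 1, .swap 3, .swap 4, .swap 3, .swap 2, .swap 2, .swap 1, .swap 0, .swap 0, .swap 1, .swap 4, .swap 7, .swap 6], [.swap 1, .swap 0, .swap 1, .swap 0, .swap 2, .swap 1, .swap 3, .swap 2, .swap 1, .swap 0, .swap 4, .swap 3, .swap 3, .swap 2, .swap 3, .swap 2, .swap 1, .swap 4, .swap 3, .swap 6, .swap 5]⟩,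
  ⟨(10, 41), [17, 10, 41], [.swap 0, .swap 1], [.swap 1, .swap 0, .cancel 1, .swap 0, .swap 1, .swap 0, .swap 1, .swap 0, .swap 2, .swap 1, .swap 3, .cancel 2]⟩,
  ⟨(32, 8), [23, 29, 8], [.swap 0, .swap 1, .swap 0, .swap 2, .swap 1, .swap 3, .swap 4, .swap 3, .swap 2, .swap 2, .swap 1, .swap 0, .swap 0, .swap 1, .swap 4, .swap 7, .swap 6], [.swap 1, .swap 0, .swap 1, .swap 0, .swap 2, .swap 1, .swap 3, .swap 2, .swap 1, .swap 0, .swap 4, .swap 3, .swap 3, .swap 2, .swap 3, .swap 2, .swap 1, .swap 4, .swap 3, .swap 6, .swap 5]⟩]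

/-- Rewriting steps, part 11. -/
def block11 : List (Eqn 48) := [
  ⟨(8, 32), [4, 8, 32], [.swap 0, .swap 1], [.swap 1, .swap 0, .cancel 1, .swap 0, .swap 1, .swap 0, .swap 1, .swap 0, .swap 2, .swap 1, .swap 3, .cancel 2]⟩,
  ⟨(43, 8), [23, 36, 8], [.swap 0, .swap 1, .swap 0, .swap 2, .swap 1, .swap 3, .swap 4, .swap 3, .swap 2, .swap 2, .swap 1, .swap 0, .swap 0, .swap 1, .swap 4, .swap 7, .swap 6], [.swap 1, .swap 0, .swap 1, .swap 0, .swap 2, .swap 1, .swap 3, .swap 2, .swap 1, .swap 0, .swap 4, .swap 3, .swap 3, .swap 2, .swap 3, .swap 2, .swap 1, .swap 4, .swap 3, .swap 6, .swap 5]⟩,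
  ⟨(8, 43), [15, 8, 43], [.swap 0, .swap 1], [.swap 1, .swap 0, .cancel 1, .swap 0, .swap 1, .swap 0, .swap 1, .swap 0, .swap 2, .swap 1, .swap 3, .cancel 2]⟩,
  ⟨(45, 7), [23, 38, 7], [.swap 0, .swap 1, .swap 0, .swap 2, .swap 1, .swap 3, .swap 4, .swap 3, .swap 2, .swap 2, .swap 1, .swap 0, .swap 0, .swap 1, .swap 4, .swap 7, .swap 6], [.swap 1, .swap 0, .swap 1, .swap 0, .swap 2, .swap 1, .swap 3, .swap 2, .swap 1, .swap 0, .swap 4, .swap 3, .swap 3, .swap 2, .swap 3, .swap 2, .swap 1, .swap 4, .swap 3, .swap 6, .swap 5]⟩,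
  ⟨(7, 45), [15, 7, 45], [.swap 0, .swap 1], [.swap 1, .swap 0, .cancel 1, .swap 0, .swap 1, .swap 0, .swap 1, .swap 0, .swap 2, .swap 1, .swap 3, .cancel 2]⟩,
  ⟨(2, 40), [25, 1, 40], [.swap 0, .swap 0, .swap 1, .swap 2, .swap 3, .swap 2, .swap 1, .swap 0, .swap 1, .swap 0, .swap 2, .swap 1, .swap 3, .swap 3, .swap 2, .swap 3, .swap 2, .swap 4, .swap 3, .swap 5, .swap 6, .swap 5, .swap 4, .swap 7, .swap 6, .cancel 5, .swap 6, .cancel 5, .swap 5, .swap 4, .swap 4, .swap 5, .cancel 6], [.swap 1, .swap 2, .swap 1, .swap 0, .swap 3, .swap 2, .swap 1, .swap 1, .swap 2, .swap 3]⟩,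
  ⟨(40, 2), [13, 2, 40], [.swap 0, .swap 1], [.swap 1, .cancel 0, .swap 0, .swap 1, .swap 0, .swap 1, .swap 0, .swap 2, .swap 1, .cancel 3]⟩,
  ⟨(39, 4), [39, 2, 27], [.swap 0, .swap 1, .swap 1, .swap 0, .swap 1, .swap 0, .swap 2, .swap 1, .swap 4], [.swap 1, .swap 0, .swap 0, .swap 1, .swap 2, .swap 1, .swap 2, .swap 1, .swap 3, .swap 2, .swap 4, .swap 3, .swap 5, .swap 4, .swap 3, .swap 3, .swap 2, .swap 2, .swap 1, .swap 0, .swap 3, .swap 5, .cancel 6, .swap 6, .swap 5, .swap 4, .swap 5, .swap 4, .swap 3, .swap 2, .swap 1, .swap 6, .swap 5, .swap 7, .cancel 6, .cancel 6]⟩,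
  ⟨(4, 39), [14, 4, 39], [.swap 0, .swap 1], [.swap 1, .cancel 0, .swap 0, .swap 1, .swap 0, .swap 1, .swap 0, .swap 2, .swap 1, .cancel 3]⟩,
  ⟨(29, 23), [23, 39, 12], [.swap 0, .swap 1, .swap 2, .swap 1, .swap 0, .swap 0, .swap 1, .swap 4, .swap 3, .swap 2, .swap 3, .swap 2, .swap 4, .swap 3, .swap 5, .swap 4, .swap 6, .swap 5], [.swap 1, .swap 1, .swap 0, .swap 1, .swap 0, .swap 2, .swap 1, .swap 3, .swap 2, .swap 2, .swap 3, .swap 4, .swap 5, .swap 4, .swap 5, .swap 4, .swap 3, .swap 3, .swap 2, .swap 1, .swap 4, .swap 7, .swap 6, .swap 5, .swap 8, .cancel 7]⟩,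
  ⟨(23, 29), [28, 23, 29], [.swap 0, .swap 1], [.swap 1, .cancel 0, .swap 0, .swap 1, .swap 0, .swap 1, .swap 0, .swap 2, .swap 1, .cancel 3]⟩,
  ⟨(28, 24), [24, 39, 11], [.swap 0, .swap 1, .swap 2, .swap 1, .swap 0, .swap 0, .swap 1, .swap 4, .swap 3, .swap 2, .swap 3, .swap 2, .swap 4, .swap 3, .swap 5, .swap 4, .swap 6, .swap 5], [.swap 1, .swap 1, .swap 0, .swap 1, .swap 0, .swap 2, .swap 1, .swap 3, .swap 2, .swap 2, .swap 3, .swap 4, .swap 5, .swap 4, .swap 5, .swap 4, .swap 3, .swap 3, .swap 2, .swap 1, .swap 4, .swap 7, .swap 6, .swap 5, .swap 8, .cancel 7]⟩,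
  ⟨(24, 28), [29, 24, 28], [.swap 0, .swap 1], [.swap 1, .cancel 0, .swap 0, .swap 1, .swap 0, .swap 1, .swap 0, .swap 2, .swap 1, .cancel 3]⟩,
  ⟨(41, 29), [29, 30, 33], [.swap 0, .swap 1, .swap 1, .swap 0, .swap 1, .swap 0, .swap 2, .swap 1, .swap 3, .swap 4, .swap 5, .swap 4, .swap 3, .swap 2, .swap 2, .swap 3, .swap 4, .swap 7, .swap 6, .swap 5], [.swap 1, .swap 2, .swap 1, .swap 0, .swap 0, .swap 1, .swap 2, .swap 2, .swap 3, .swap 4, .swap 5, .swap 4, .swap 3, .swap 4, .swap 3, .swap 2, .swap 1, .swap 5, .swap 4, .swap 6, .swap 5, .swap 7]⟩,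
  ⟨(29, 41), [44, 29, 41], [.swap 0, .swap 1], [.swap 1, .cancel 0, .swap 0, .swap 1, .swap 0, .swap 1, .swap 0, .swap 2, .swap 1, .cancel 3]⟩,
  ⟨(32, 34), [30, 26, 34], [.swap 0, .swap 0, .swap 1, .swap 2, .swap 3, .swap 2, .swap 1, .swap 0, .swap 1, .swap 0, .swap 2, .swap 1, .swap 3, .swap 3, .swap 2, .swap 3, .swap 2, .swap 4, .swap 3, .swap 5, .swap 6, .swap 5, .swap 4, .swap 7, .swap 6, .cancel 5, .swap 6, .cancel 5, .swap 5, .swap 4, .swap 4, .swap 5, .cancel 6], [.swap 1, .swap 2, .swap 1, .swap 0, .swap 3, .swap 2, .swap 1, .swap 1, .swap 2, .swap 3]⟩,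
  ⟨(34, 32), [40, 34, 32], [.swap 0, .swap 1], [.swap 1, .cancel 0, .swap 0, .swap 1, .swap 0, .swap 1, .swap 0, .swap 2, .swap 1, .cancel 3]⟩,
  ⟨(47, 3), [30, 36, 3], [.swap 0, .swap 1, .swap 0, .swap 2, .swap 1, .swap 3, .swap 4, .swap 3, .swap 2, .swap 2, .swap 1, .swap 0, .swap 0, .swap 1, .swap 4, .swap 7, .swap 6], [.swap 1, .swap 0, .swap 1, .swap 0, .swap 2, .swap 1, .swap 3, .swap 2, .swap 1, .swap 0, .swap 4, .swap 3, .swap 3, .swap 2, .swap 3, .swap 2, .swap 1, .swap 4, .swap 3, .swap 6, .swap 5]⟩,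
  ⟨(3, 47), [6, 3, 47], [.swap 0, .swap 1], [.swap 1, .swap 0, .cancel 1, .swap 0, .swap 1, .swap 0, .swap 1, .swap 0, .swap 2, .swap 1, .swap 3, .cancel 2]⟩,
  ⟨(47, 18), [30, 36, 18], [.swap 0, .swap 1, .swap 0, .swap 2, .swap 1, .swap 3, .swap 4, .swap 3, .swap 2, .swap 2, .swap 1, .swap 0, .swap 0, .swap 1, .swap 4, .swap 7, .swap 6], [.swap 1, .swap 0, .swap 1, .swap 0, .swap 2, .swap 1, .swap 3, .swap 2, .swap 1, .swap 0, .swap 4, .swap 3, .swap 3, .swap 2, .swap 3, .swap 2, .swap 1, .swap 4, .swap 3, .swap 6, .swap 5]⟩,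
  ⟨(18, 47), [41, 18, 47], [.swap 0, .swap 1], [.swap 1, .swap 0, .cancel 1, .swap 0, .swap 1, .swap 0, .swap 1, .swap 0, .swap 2, .swap 1, .swap 3, .cancel 2]⟩,
  ⟨(46, 8), [31, 35, 8], [.swap 0, .swap 1, .swap 0, .swap 2, .swap 1, .swap 3, .swap 4, .swap 3, .swap 2, .swap 2, .swap 1, .swap 0, .swap 0, .swap 1, .swap 4, .swap 7, .swap 6], [.swap 1, .swap 0, .swap 1, .swap 0, .swap 2, .swap 1, .swap 3, .swap 2, .swap 1, .swap 0, .swap 4, .swap 3, .swap 3, .swap 2, .swap 3, .swap 2, .swap 1, .swap 4, .swap 3, .swap 6, .swap 5]⟩,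
  ⟨(8, 46), [21, 8, 46], [.swap 0, .swap 1], [.swap 1, .swap 0, .cancel 1, .swap 0, .swap 1, .swap 0, .swap 1, .swap 0, .swap 2, .swap 1, .swap 3, .cancel 2]⟩,
  ⟨(46, 19), [31, 35, 19], [.swap 0, .swap 1, .swap 0, .swap 2, .swap 1, .swap 3, .swap 4, .swap 3, .swap 2, .swap 2, .swap 1, .swap 0, .swap 0, .swap 1, .swap 4, .swap 7, .swap 6], [.swap 1, .swap 0, .swap 1, .swap 0, .swap 2, .swap 1, .swap 3, .swap 2, .swap 1, .swap 0, .swap 4, .swap 3, .swap 3, .swap 2, .swap 3, .swap 2, .swap 1, .swap 4, .swap 3, .swap 6, .swap 5]⟩,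
  ⟨(19, 46), [42, 19, 46], [.swap 0, .swap 1], [.swap 1, .swap 0, .cancel 1, .swap 0, .swap 1, .swap 0, .swap 1, .swap 0, .swap 2, .swap 1, .swap 3, .cancel 2]⟩,
  ⟨(43, 27), [32, 33, 27], [.swap 0, .swap 1, .swap 0, .swap 2, .swap 1, .swap 3, .swap 4, .swap 3, .swap 2, .swap 2, .swap 1, .swap 0, .swap 0, .swap 1, .swap 4, .swap 7, .swap 6], [.swap 1, .swap 0, .swap 1, .swap 0, .swap 2, .swap 1, .swap 3, .swap 2, .swap 1, .swap 0, .swap 4, .swap 3, .swap 3, .swap 2, .swap 3, .swap 2, .swap 1, .swap 4, .swap 3, .swap 6, .swap 5]⟩,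
  ⟨(27, 43), [44, 27, 43], [.swap 0, .swap 1], [.swap 1, .cancel 0, .swap 0, .swap 1, .swap 0, .swap 1, .swap 0, .swap 2, .swap 1, .cancel 3]⟩,
  ⟨(45, 9), [32, 34, 9], [.swap 0, .swap 1, .swap 0, .swap 2, .swap 1, .swap 3, .swap 4, .swap 3, .swap 2, .swap 2, .swap 1, .swap 0, .swap 0, .swap 1, .swap 4, .swap 7, .swap 6], [.swap 1, .swap 0, .swap 1, .swap 0, .swap 2, .swap 1, .swap 3, .swap 2, .swap 1, .swap 0, .swap 4, .swap 3, .swap 3, .swap 2, .swap 3, .swap 2, .swap 1, .swap 4, .swap 3, .swap 6, .swap 5]⟩,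
  ⟨(9, 45), [23, 9, 45], [.swap 0, .swap 1], [.swap 1, .swap 0, .cancel 1, .swap 0, .swap 1, .swap 0, .swap 1, .swap 0, .swap 2, .swap 1, .swap 3, .cancel 2]⟩,
  ⟨(45, 10), [32, 34, 10], [.swap 0, .swap 1, .swap 0, .swap 2, .swap 1, .swap 3, .swap 4, .swap 3, .swap 2, .swap 2, .swap 1, .swap 0, .swap 0, .swap 1, .swap 4, .swap 7, .swap 6], [.swap 1, .swap 0, .swap 1, .swap 0, .swap 2, .swap 1, .swap 3, .swap 2, .swap 1, .swap 0, .swap 4, .swap 3, .swap 3, .swap 2, .swap 3, .swap 2, .swap 1, .swap 4, .swap 3, .swap 6, .swap 5]⟩,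
  ⟨(10, 45), [24, 10, 45], [.swap 0, .swap 1], [.swap 1, .swap 0, .cancel 1, .swap 0, .swap 1, .swap 0, .swap 1, .swap 0, .swap 2, .swap 1, .swap 3, .cancel 2]⟩,
  ⟨(32, 33), [32, 35, 19], [.swap 0, .swap 1, .swap 2, .swap 1, .swap 0, .swap 0, .swap 1, .swap 4, .swap 3], [.swap 1, .swap 0, .swap 1, .swap 0, .swap 2, .swap 1, .swap 3, .swap 2, .swap 2, .swap 1, .swap 2, .swap 1, .swap 0, .swap 3, .swap 2, .swap 5, .swap 7, .swap 6, .swap 5, .swap 4, .swap 5, .swap 4, .swap 3, .swap 3, .swap 2, .swap 1, .swap 4, .swap 7, .swap 6, .swap 5, .swap 8, .swap 7, .cancel 6, .swap 7, .cancel 6, .cancel 6]⟩,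
  ⟨(33, 32), [39, 33, 32], [.swap 0, .swap 1], [.swap 1, .cancel 0, .swap 0, .swap 1, .swap 0, .swap 1, .swap 0, .swap 2, .swap 1, .cancel 3]⟩,
  ⟨(45, 20), [32, 34, 20], [.swap 0, .swap 1, .swap 0, .swap 2, .swap 1, .swap 3, .swap 4, .swap 3, .swap 2, .swap 2, .swap 1, .swap 0, .swap 0, .swap 1, .swap 4, .swap 7, .swap 6], [.swap 1, .swap 0, .swap 1, .swap 0, .swap 2, .swap 1, .swap 3, .swap 2, .swap 1, .swap 0, .swap 4, .swap 3, .swap 3, .swap 2, .swap 3, .swap 2, .swap 1, .swap 4, .swap 3, .swap 6, .swap 5]⟩,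
  ⟨(20, 45), [43, 20, 45], [.swap 0, .swap 1], [.swap 1, .swap 0, .cancel 1, .swap 0, .swap 1, .swap 0, .swap 1, .swap 0, .swap 2, .swap 1, .swap 3, .cancel 2]⟩,
  ⟨(47, 7), [41, 29, 7], [.swap 0, .swap 1, .swap 0, .swap 2, .swap 1, .swap 3, .swap 4, .swap 3, .swap 2, .swap 2, .swap 1, .swap 0, .swap 0, .swap 1, .swap 4, .swap 7, .swap 6], [.swap 1, .swap 0, .swap 1, .swap 0, .swap 2, .swap 1, .swap 3, .swap 2, .swap 1, .swap 0, .swap 4, .swap 3, .swap 3, .swap 2, .swap 3, .swap 2, .swap 1, .swap 4, .swap 3, .swap 6, .swap 5]⟩,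
  ⟨(7, 47), [17, 7, 47], [.swap 0, .swap 1], [.swap 1, .swap 0, .cancel 1, .swap 0, .swap 1, .swap 0, .swap 1, .swap 0, .swap 2, .swap 1, .swap 3, .cancel 2]⟩,
  ⟨(47, 8), [41, 29, 8], [.swap 0, .swap 1, .swap 0, .swap 2, .swap 1, .swap 3, .swap 4, .swap 3, .swap 2, .swap 2, .swap 1, .swap 0, .swap 0, .swap 1, .swap 4, .swap 7, .swap 6], [.swap 1, .swap 0, .swap 1, .swap 0, .swap 2, .swap 1, .swap 3, .swap 2, .swap 1, .swap 0, .swap 4, .swap 3, .swap 3, .swap 2, .swap 3, .swap 2, .swap 1, .swap 4, .swap 3, .swap 6, .swap 5]⟩,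
  ⟨(8, 47), [22, 8, 47], [.swap 0, .swap 1], [.swap 1, .swap 0, .cancel 1, .swap 0, .swap 1, .swap 0, .swap 1, .swap 0, .swap 2, .swap 1, .swap 3, .cancel 2]⟩,
  ⟨(47, 9), [41, 29, 9], [.swap 0, .swap 1, .swap 0, .swap 2, .swap 1, .swap 3, .swap 4, .swap 3, .swap 2, .swap 2, .swap 1, .swap 0, .swap 0, .swap 1, .swap 4, .swap 7, .swap 6], [.swap 1, .swap 0, .swap 1, .swap 0, .swap 2, .swap 1, .swap 3, .swap 2, .swap 1, .swap 0, .swap 4, .swap 3, .swap 3, .swap 2, .swap 3, .swap 2, .swap 1, .swap 4, .swap 3, .swap 6, .swap 5]⟩,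
  ⟨(9, 47), [25, 9, 47], [.swap 0, .swap 1], [.swap 1, .swap 0, .cancel 1, .swap 0, .swap 1, .swap 0, .swap 1, .swap 0, .swap 2, .swap 1, .swap 3, .cancel 2]⟩,
  ⟨(47, 11), [41, 29, 11], [.swap 0, .swap 1, .swap 0, .swap 2, .swap 1, .swap 3, .swap 4, .swap 3, .swap 2, .swap 2, .swap 1, .swap 0, .swap 0, .swap 1, .swap 4, .swap 7, .swap 6], [.swap 1, .swap 0, .swap 1, .swap 0, .swap 2, .swap 1, .swap 3, .swap 2, .swap 1, .swap 0, .swap 4, .swap 3, .swap 3, .swap 2, .swap 3, .swap 2, .swap 1, .swap 4, .swap 3, .swap 6, .swap 5]⟩,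
  ⟨(11, 47), [30, 11, 47], [.swap 0, .swap 1], [.swap 1, .swap 0, .cancel 1, .swap 0, .swap 1, .swap 0, .swap 1, .swap 0, .swap 2, .swap 1, .swap 3, .cancel 2]⟩,
  ⟨(46, 10), [42, 28, 10], [.swap 0, .swap 1, .swap 0, .swap 2, .swap 1, .swap 3, .swap 4, .swap 3, .swap 2, .swap 2, .swap 1, .swap 0, .swap 0, .swap 1, .swap 4, .swap 7, .swap 6], [.swap 1, .swap 0, .swap 1, .swap 0, .swap 2, .swap 1, .swap 3, .swap 2, .swap 1, .swap 0, .swap 4, .swap 3, .swap 3, .swap 2, .swap 3, .swap 2, .swap 1, .swap 4, .swap 3, .swap 6, .swap 5]⟩,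
  ⟨(10, 46), [26, 10, 46], [.swap 0, .swap 1], [.swap 1, .swap 0, .cancel 1, .swap 0, .swap 1, .swap 0, .swap 1, .swap 0, .swap 2, .swap 1, .swap 3, .cancel 2]⟩,
  ⟨(46, 12), [42, 28, 12], [.swap 0, .swap 1, .swap 0, .swap 2, .swap 1, .swap 3, .swap 4, .swap 3, .swap 2, .swap 2, .swap 1, .swap 0, .swap 0, .swap 1, .swap 4, .swap 7, .swap 6], [.swap 1, .swap 0, .swap 1, .swap 0, .swap 2, .swap 1, .swap 3, .swap 2, .swap 1, .swap 0, .swap 4, .swap 3, .swap 3, .swap 2, .swap 3, .swap 2, .swap 1, .swap 4, .swap 3, .swap 6, .swap 5]⟩,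
  ⟨(12, 46), [31, 12, 46], [.swap 0, .swap 1], [.swap 1, .swap 0, .cancel 1, .swap 0, .swap 1, .swap 0, .swap 1, .swap 0, .swap 2, .swap 1, .swap 3, .cancel 2]⟩,
  ⟨(43, 14), [43, 28, 12], [.swap 0, .swap 1, .swap 2, .swap 1, .swap 0, .swap 0, .swap 1, .swap 4, .swap 3], [.swap 1, .swap 0, .swap 1, .swap 0, .swap 2, .swap 1, .swap 3, .swap 2, .swap 2, .swap 1, .swap 2, .swap 1, .swap 0, .swap 3, .swap 2, .swap 5, .swap 7, .swap 6, .swap 5, .swap 4, .swap 5, .swap 4, .swap 3, .swap 3, .swap 2, .swap 1, .swap 4, .swap 7, .swap 6, .swap 5, .swap 8, .swap 7, .cancel 6, .swap 7, .cancel 6, .cancel 6]⟩,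
  ⟨(14, 43), [32, 14, 43], [.swap 0, .swap 1], [.swap 1, .swap 0, .cancel 1, .swap 0, .swap 1, .swap 0, .swap 1, .swap 0, .swap 2, .swap 1, .swap 3, .cancel 2]⟩,
  ⟨(45, 13), [43, 27, 13], [.swap 0, .swap 1, .swap 0, .swap 2, .swap 1, .swap 3, .swap 4, .swap 3, .swap 2, .swap 2, .swap 1, .swap 0, .swap 0, .swap 1, .swap 4, .swap 7, .swap 6], [.swap 1, .swap 0, .swap 1, .swap 0, .swap 2, .swap 1, .swap 3, .swap 2, .swap 1, .swap 0, .swap 4, .swap 3, .swap 3, .swap 2, .swap 3, .swap 2, .swap 1, .swap 4, .swap 3, .swap 6, .swap 5]⟩,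
  ⟨(13, 45), [32, 13, 45], [.swap 0, .swap 1], [.swap 1, .swap 0, .cancel 1, .swap 0, .swap 1, .swap 0, .swap 1, .swap 0, .swap 2, .swap 1, .swap 3, .cancel 2]⟩]

/-- The certificate. -/
def cert : Cert 48 where
  dp := [(1, 23), (0, 24), (0, 26), (7, 14), (0, 31), (0, 32), (1, 32), (3, 33), (3, 34), (3, 35), (3, 36), (3, 37), (3, 38), (3, 39), (3, 40), (0, 42), (0, 43), (1, 43), (7, 37), (7, 38), (7, 39), (0, 45), (1, 45), (0, 46), (1, 47), (2, 46), (2, 47), (8, 40), (9, 40), (10, 40), (4, 46), (4, 47), (5, 47), (7, 44), (8, 44), (9, 44), (10, 44), (11, 44), (12, 44), (13, 44), (14, 44), (15, 46), (15, 47), (16, 47), (33, 40), (21, 47), (23, 47), (24, 46)]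
  base := (0, 29)
  nears := [nears0, nears1, nears2, nears3, nears4, nears5, nears6, nears7, nears8, nears9, nears10, nears11, nears12].flatten
  nearSet := 1871026681211769195268928459962085654761684549480002138865673719153851226766015202541647454289913040825880527514380387376114163438685775924304261360260460407358578069393608298296721268255496436806824211448241876856468033847785259251395521865533287139796908425727403351055380866650697481732834243433612853247402545387238504448121931508272089861713718847496706162315161543572723937966017087418502553681715462460171090220941501895560722008599337576530222205508440105364196374787352685544773848423385240778264260056621095510237341739728816057970697751077568591433207895524024392846567970569748386118180110507502872048363732667695579996412942945353217418045844486508616314198408769652411479225270270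
  val := 3524304242705895432351646563388062214090296449757629127269388539265545063866467918841918877743871986410701480486106383334421735387595051031573466503755375380448104071689278726201914798880093199162370825739713033695880962959733863632735464726915590719544111088755732825061325564956253282160233059629988407327095022595576270471055961621964763196824287170563317740192512821423412568052153665911862113079240208459822920926525239838354660426338062416254493948301595652485451077855130559886619285147370356772825635652218366649979174236277421260439442851057532042915000120471100745863844478987549421415476921799113451317059241033418407205244031121506292864201790272731908909286010566989578240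
  known := 1871026681211769195268928459962085654761684549480002138865673719153851226766015202541647454289913040825880527514380387376114163438685775924304261360260460407358578069393608298296721268255496436806824211448987832421586199686688919264604544838410478654161699577762575874235474658307757618983165561427119991741958564577382456425880481541851203388140710852543862673605943746046956814094717282960464171870102737207432802923493193100901464575221909689645117231381970113728793852394187480588984554479652691161600445540325526581108075308427717398082338553964661358884173939007490789488070053731881798000345755161280478685757561685143793170111806308815663666635518545442697266766837677733322271144017918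
  blocks := [(block0, 1871026821921745855421409745619118900519209652026723681076032959899304676821926274698834051880013916367292490822607939566115571832956856040359785604045331096077041185395091055672726713978953988416095025118551899465053488979167987388992820841064495968941168577964520913738402244594566131958217061621149920419728061857030083311423526944743824846900888947136237045659573308828673821786680001332899063772341195145075990564548047428218728291405462924166919738211965212138838278989096160688461647653093165810294734653240386744685449101128288814236238971529978481341905024641433458968916332604368496974913295400521397106953493356664657942301185721964331576497161955519880712385046821833616747114004478),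
    (block1, 1871026821921745855421409745619118900519209652026723681076032959899304676821926274698834051880013916367292490822607939566115571832956856040359785604045331096077041185395091055672726713978953988416095025118551899465053488979167987388992820841064495968941168578025365753513340227347559780927357355808392971763129239731758327575235832683007940490611474483221337542921454271566630795027976480349912471791319411598380325906599140056685644299387797421606215915617740938238176029625040985585417236601797442857129764798270051412794621672389086175630423781596065019355910855793194402736972526222572158258914258112311177671806305867734416755503312018036349385579447096957584947647938930522596107448483838),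
    (block2, 1871026821921745855421409745619118900519209652026723681076032959899304676821926274698864149437312113945484545272958612119302271841134998021145462495711054947758987417153440081543465257514175044904309445074301723556165643457526960469140575239248738702522324037794446189879614346442774964213871898730841910080616467659932168928464702165828695935482929790569355161246123027916198213761332855031237176008799635610442676433082841042282435880710058931751513234062186560133161237709700197676211276818315178337027589635833203557773198686121696851908034786403862300554194731356872982713225152558953040934152053803865170965177834160633829463784373051726606211719251053293026476775173320275128840573943806),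
    (block3, 1871026821921745855421409745619118900519215021610374923287068692437972315299674925172136004909124844355351323732132292583180876505553622011684189529846879625268017901560228475974516205176723531903309993351948841036748693879777833297376866072626719382861246505133978547755880327490795811193006326629328150104624787665477683544366863906794820509285988895700819897407971374635254878582402523973191059520966228626930093318942678877151066656459899985071042792216685891179474703111945954311554688035713018248757245169171352073637538920924407929832750634618883311485543334426061886617422757476730950318725091142543034797225749499323050812252812078132529706835783408449134838954595513456486682997030910),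
    (block4, 1871026821921745855421409745619118900519215021610374923287068692437972315299674925172136004909124844355351323906405103764887065122850477764609405892891215440984394520357685761102867355673182161141876179087721717242515949352980672668920197575514085359885593119023953563995457396385294737804972716479294757587838716974701281353317569779285894940498292934104546567243371155772614678816924363672960431552244406584278843681063471854684372843870715154071689418991778707261356703012479126202769226843226035485949772254316503683429098873600201927551053665158226733612872084514213049929395153696652529011469154930368880810851056990931403123284039849053506484188230479908162549978062146593212617329737726),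
    (block5, 1871026821921745855421614038998374899823013907493864090909578977377069788422578027768975089918893632257653177497737328086381882862179215389065942794800847244727567226517246134639990303523999068967813735564383201277599194651437620202311493754381759681456746391041179672285810342030804656862871162025245314063106666737159108123726850829552900942128649442522548481561339765067014563250213762660780863366294307865216292367763183242116129080133194575797090903986145089383003561685496841250210401695561817765717774131107127549848191713593649373741445800707231417301695689372208024297508456496808831114125454972388764339017568676851967553265980851374443182392948762278961016396647100567238818282864638),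
    (block6, 1871026821921745855421614042021181766203659582750527051100168716812778040795922264218970544408946849119329869327719605249157879682374559775828947276616378849681613850049704593961365981111223177101353146458843106804698243001305973752728733932059492189930223383501702299244112948640397027054439392547719978676852972148234876447362776686075981005834111373895102511601337461779340919144158852069477678317271516453380128098436630813730732559306973703000219594189984733339377513762504608687956400323717346252486531934043105038435716346126975876773789001390645888954378780543244483220251671145212253652352733751868175189568513950800388635595231831213737727136885954062458239256811155029743375608709118),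
    (block7, 1871026821921745855421614042021181766203659582750527051168129080398541120034602759673023796283966807594577766613482034981492041350154169663983149473661921232157148575608539783616654072219759396969484137017554630136869334180075009452529537269245526866814610873450695349340454258767218684585854700941359526105424204922609362676126767762102296119723124824560704867689043081989136260391546113711783405438673443406130114102200238656136670122396800700595470911207884357469611868449813173977507262431829488323033519224434055145527288184239178152673227521892316144087573225229592059831857306569126007984647131125798067049408040228958140747390177996026791550849434599391657813318537803466872544020135934),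
    (block8, 1871026821921745855421614042021181766203659582750527051171109798099671079650334271756466087990412824967950531927447000616661319235075693099167570309002212246917360910067941652587666559571852242325396925167298661155794561505301291254172703766695012988815914085126738924214155035652469206448024265607482421920883726096945571544487273843179848757840838921163301099904539349490824412635758606506642531550432365347291711334989556730893383035645146776169826746898715115758363307674917848781421105243037087800498322320787690147269902579329821829505724480145916387506817407491929234089251971400726040691456414474298850871223744566820324877241254358414369906896194654255683763032775779884690636493815806),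
    (block9, 1871026821921745855421614042021181766203660925146439861723868731234337989269763355123236126520539363944660643253972808871008221165251212096988572998567420967315726503243849986345677935616486140750613673427870316251057926961449859177603929449867109630709560619764671976913674640490254167932337887300236484377131110699205990673245924121696327339859204851953160953632872585852603975546957467164424603238784074142640066547153463240136280356646981566371913229590264249347893362129134969948982553517594454850182548680913862848713185408313865275588119105869797289822894724507786941331978482292541501404954855943186145433936886043069842093093964350107215010438504750132976826440908665576158881696972798),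
    (block10, 1871026821921745855421614048444646357215773308235918667876954047664454191274848870139630436447567945655785530686000553287453927682451651675611556829077519436470519581734592467499965742070344518432560423758640111157931140160691542093516872613587602518564879296606326785073969130346633545146528118386612630519339395356681806099070285696898549480733787374431626912137901134022125769812316138849858614902190113122151458576452735469778371530584721521049513092203667277714790123292832088324133951976186286507506048067233635427309847715293019838933639679723961509780662839143066304442671491657404153945748107813867873287876357555660676891156144924558105331278707795915343075832510039114393752478679038),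
    (block11, 1871026825446050098127509474372828329591721796840823500857797844082157905031206020885036079177107508320113129725744269761114724080784999777474783883805595719486713311193365275957113746868414729483190193056051007055471945982232130034202081876023411394165677987102236184588227763104728084571857114495353564187486348517872606505352775897776028892216583950029880341040383580893526733775195555120468505671254357379648857535236313841799006174414135545580540696990292569324650160181873496726614412185680679947560771591223396124705596894540787135544416001752048345373377732397006027105861788908032285248623201299669837157808691549230430619409605810539584314813008659646126031287244417982818556294725630)]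

end CfsgLib.Schur.F4Two
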