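import Cfsg.Agent.Lib.Schur.F4Two.Upper
import Cfsg.Agent.Lib.Schur.D4Two.Ext

/-!
Stem extensions of a group presented by a system of involutions as in `Tab`.
-/

set_option autoImplicit false
set_option linter.unusedSectionVars false

namespace CfsgLib.Schur.F4Two

open Subgroup
open scoped commutatorElement

universe u

variable {n : ℕ} {T : Tab n} {G : Type u} [Group G] {x : Fin n → G}

/-- `G` is presented by the relations. -/
def Presents (T : Tab n) (x : Fin n → G) : Prop :=
  closure (Set.range x) = ⊤ ∧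
    ∀ (H : Type u) [Group H] (Y : Fin n → H), Rels T Y → ∃ f : G →* H, ∀ r, f (x r) = Y r

/-- Perfectness from the decompositions. -/
theorem commutator_eq_top (R : Rels T x) (hgen : closure (Set.range x) = ⊤) {C : Cert n}
    (hC : C.Ok T) : commutator G = ⊤ := by
  rw [eq_top_iff, ← hgen, closure_le]
  rintro _ ⟨v, rfl⟩
  obtain ⟨h1, h2, -⟩ := hC.near.dec v
  obtain ⟨a, b⟩ := ok_iff.1 h1
  have e := R.pair _ _ a b
  rw [h2, List.map_cons, List.map_nil, List.prod_cons, List.prod_nil, mul_one] at e
  rw [← e]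
  exact commutator_mem_commutator (mem_top _) (mem_top _)

theorem normal_of_central {H : Type*} [Group H] {c : H} (hc : ∀ g, Commute c g) :
    (zpowers c).Normal := by
  refine ⟨fun z hz g => ?_⟩
  have hle : zpowers c ≤ center H := by
    rw [zpowers_le, mem_center_iff]
    exact fun h => (hc h).eq.symm
  rw [mem_center_iff.1 (hle hz) g, mul_inv_cancel_right]
  exact hz

/-- Lifts satisfy the relations in a quotient. -/
theorem rels_mk {H : Type*} [Group H] {N : Subgroup H} [N.Normal] {Y : Fin n → H}
    (h1 : ∀ r, Y r * Y r ∈ N)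
    (h2 : ∀ r s, T.ok r s = true → delta T Y (r, s) ∈ N) :
    Rels T fun r => QuotientGroup.mk' N (Y r) where
  sq r := by rw [← map_mul]; exact (QuotientGroup.eq_one_iff _).2 (h1 r)
  pair r s a b := by
    have e : ((T.word r s).map fun r => QuotientGroup.mk' N (Y r)).prod =
        QuotientGroup.mk' N ((T.word r s).map Y).prod := by
      rw [map_list_prod, List.map_map]; rfl
    rw [e, ← map_commutatorElement, ← mul_inv_eq_one, ← map_inv, ← map_mul]
    exact (QuotientGroup.eq_one_iff _).2 (h2 r s (ok_iff.2 ⟨a, b⟩))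

/-- The homomorphism from the group of order two given by an involution. -/
def twoHom {H : Type*} [Group H] {c : H} (q : c * c = 1) : Multiplicative (ZMod 2) →* H :=
  MonoidHom.mk' (fun p => c ^ (Multiplicative.toAdd p).val) fun p p' => by
    show c ^ (Multiplicative.toAdd p + Multiplicative.toAdd p').val = _
    rw [ZMod.val_add, ← pow_eq_pow_mod _ (by rw [pow_two, q]), pow_add]

theorem twoHom_range {H : Type*} [Group H] {c : H} (q : c * c = 1) :
    (twoHom q).range = zpowers c := by
  refine le_antisymm ?_ (zpowers_le.2 ⟨Multiplicative.ofAdd 1, ?_⟩)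
  · rintro _ ⟨p, rfl⟩
    exact pow_mem (mem_zpowers c) _
  · show c ^ (1 : ZMod 2).val = c
    rw [ZMod.val_one, pow_one]

theorem twoHom_injective {H : Type*} [Group H] {c : H} (q : c * c = 1) (h : c ≠ 1) :
    Function.Injective (twoHom q) := by
  refine (injective_iff_map_eq_one _).2 fun p hp => ?_
  obtain ⟨i, rfl⟩ := Multiplicative.ofAdd.surjective p
  change c ^ i.val = 1 at hp
  obtain rfl | rfl := (by decide : ∀ i : ZMod 2, i = 0 ∨ i = 1) i
  · rfl
  · rw [ZMod.val_one, pow_one] at hp
    exact absurd hp h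

/-- Every stem extension has as kernel an image of the group of order two. -/
theorem exists_surjective (hperf : commutator G = ⊤) (R : Rels T x) (hP : Presents T x) {C : Cert n}
    (hC : C.Ok T) {E : Type u} [Group E] {σ : E →* G} (hσ : Cfsg.IsStemExtension σ) :
    ∃ π : Multiplicative (ZMod 2) →* σ.ker, Function.Surjective π := by
  obtain ⟨hs, hcen, hd⟩ := hσ
  have hc : ∀ z, σ z = 1 → ∀ g : E, Commute z g := fun z hz g =>
    (mem_center_iff.1 (hcen hz) g).symm
  obtain ⟨c, Y, k1, q1, hY, hsq, hdel⟩ := exists_lifts hs hc R hC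
  set N := zpowers c
  have : N.Normal := normal_of_central (hc _ k1)
  have hN : N ≤ σ.ker := zpowers_le.2 k1
  let q : E ⧸ N →* G := QuotientGroup.lift N σ hN
  obtain ⟨f, hf⟩ := hP.2 (E ⧸ N) _ (rels_mk (N := N) (fun r => by rw [hsq]; exact one_mem _) hdel)
  have hqf : q.comp f = MonoidHom.id G := MonoidHom.eq_of_eqOn_dense hP.1 (by
    rintro _ ⟨r, rfl⟩
    show q (f (x r)) = x r
    rw [hf r]
    exact hY r)
  have hE : commutator E = ⊤ := by
    rw [eq_top_iff]
    intro g _
    have hm : σ g ∈ (commutator E).map σ := by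
      rw [_root_.commutator_def, map_commutator, map_top_of_surjective σ hs,
        ← _root_.commutator_def, hperf]
      exact mem_top _
    obtain ⟨d, hd', e⟩ := hm
    have := mul_mem hd' (hd (show d⁻¹ * g ∈ σ.ker by
      rw [MonoidHom.mem_ker, map_mul, map_inv, e, inv_mul_cancel]))
    rwa [mul_inv_cancel_left] at this
  have hq : Function.Injective q := by
    refine D4Two.injective_of_section q ?_ ?_ hqf
    · intro z hz
      obtain ⟨z, rfl⟩ := QuotientGroup.mk'_surjective N z
      refine mem_center_iff.2 fun g => ?_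
      obtain ⟨g, rfl⟩ := QuotientGroup.mk'_surjective N g
      rw [← map_mul, ← map_mul, (hc z hz g).eq]
    · rw [_root_.commutator_def, ← map_top_of_surjective (QuotientGroup.mk' N)
        (QuotientGroup.mk'_surjective N), ← map_commutator, ← _root_.commutator_def, hE]
  refine ⟨(twoHom q1).codRestrict σ.ker fun p => hN ((twoHom_range q1).le ⟨p, rfl⟩), ?_⟩
  rintro ⟨z, hz⟩
  have hzN : z ∈ N := (QuotientGroup.eq_one_iff z).1 (hq (by rw [map_one]; exact hz))
  obtain ⟨p, hp⟩ := (twoHom_range q1).ge hzN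
  exact ⟨p, Subtype.ext hp⟩

/-- A stem extension with kernel of order two from a system of lifts. -/
theorem exists_stem [Finite G] [IsSimpleGroup G] (hP : Presents T x) {H : Type u} [Group H] [Finite H]
    (Y : Fin n → H) (z : H) (hz : ∀ g, Commute z g) (q1 : z * z = 1) (n1 : z ≠ 1)
    (hsq : ∀ r, Y r * Y r = 1)
    (hdel : ∀ r s, T.ok r s = true → delta T Y (r, s) ∈ zpowers z)
    {a b : Fin n} (e : delta T Y (a, b) = z)
    (hdec : ∀ v ∈ T.word a b, ∃ p q, Y v = ⁅Y p, Y q⁆)
    (hne : ∃ r, Y r ∉ zpowers z) :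
    ∃ (Γ : Type u) (_ : Group Γ) (_ : Finite Γ) (σ : Γ →* G),
      Cfsg.IsStemExtension σ ∧ Nonempty (σ.ker ≃* Multiplicative (ZMod 2)) := by
  let K := closure (Set.range Y)
  let Y' : Fin n → K := fun r => ⟨Y r, Subgroup.subset_closure ⟨r, rfl⟩⟩
  have hco : ∀ r s, ((delta T Y' (r, s) : K) : H) = delta T Y (r, s) := by
    intro r s
    show K.subtype (delta T Y' (r, s)) = _
    rw [delta, delta, map_mul, map_inv, map_list_prod, List.map_map, map_commutatorElement]
    rfl
  set w : K := delta T Y' (a, b) with hw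
  have v1 : (w : H) = z := (hco a b).trans e
  have cw : ∀ g, Commute w g := fun g => Subtype.ext (by push_cast; rw [v1]; exact (hz g).eq)
  set N := zpowers w
  have : N.Normal := normal_of_central cw
  have hmem : ∀ k : K, (k : H) ∈ zpowers z → k ∈ N := by
    intro k hk
    rw [← v1, ← K.coe_subtype, ← MonoidHom.map_zpowers] at hk
    obtain ⟨k', hk', e⟩ := hk
    exact Subtype.ext e ▸ hk'
  obtain ⟨f, hf⟩ := hP.2 (K ⧸ N) _ (rels_mk (N := N) (Y := Y')
    (fun r => hmem _ (by show Y r * Y r ∈ _; rw [hsq]; exact one_mem _))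
    (fun r s h => hmem _ (by rw [hco]; exact hdel r s h)))
  have hfs : Function.Surjective f := by
    rw [← MonoidHom.range_eq_top, eq_top_iff]
    intro y hy
    clear hy
    obtain ⟨⟨k, hk⟩, rfl⟩ := QuotientGroup.mk'_surjective N y
    induction hk using closure_induction with
    | mem k hk =>
      obtain ⟨r, rfl⟩ := hk
      exact ⟨x r, hf r⟩
    | one => exact one_mem f.range
    | mul k l hk hl ih ih' =>
      rw [show (⟨k * l, mul_mem hk hl⟩ : K) = ⟨k, hk⟩ * ⟨l, hl⟩ from rfl, map_mul]
      exact mul_mem ih ih'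
    | inv k hk ih =>
      rw [show (⟨k⁻¹, inv_mem hk⟩ : K) = ⟨k, hk⟩⁻¹ from rfl, map_inv]
      exact inv_mem ih
  have hfi : Function.Injective f := by
    rw [← MonoidHom.ker_eq_bot_iff]
    refine (IsSimpleGroup.eq_bot_or_eq_top_of_normal _ inferInstance).resolve_right fun ht => ?_
    obtain ⟨r, hr⟩ := hne
    refine hr ?_
    have h1 : f (x r) = 1 := MonoidHom.mem_ker.1 (ht ▸ mem_top _)
    rw [hf r] at h1
    have h2 := mem_map_of_mem K.subtype ((QuotientGroup.eq_one_iff _).1 h1)
    rw [MonoidHom.map_zpowers, K.coe_subtype, v1] at h2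
    exact h2
  let e' := MulEquiv.ofBijective f ⟨hfi, hfs⟩
  let σ : K →* G := e'.symm.toMonoidHom.comp (QuotientGroup.mk' N)
  have hker : σ.ker = N := by
    ext k
    rw [MonoidHom.mem_ker]
    show e'.symm (QuotientGroup.mk' N k) = 1 ↔ _
    rw [map_eq_one_iff _ e'.symm.injective]
    exact QuotientGroup.eq_one_iff k
  refine ⟨K, inferInstance, inferInstance, σ, ⟨?_, ?_, ?_⟩, ?_⟩
  · exact e'.symm.surjective.comp (QuotientGroup.mk'_surjective N)
  · rw [hker, zpowers_le, mem_center_iff]
    exact fun g => (cw g).eq.symm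
  · rw [hker, zpowers_le, hw, delta]
    refine mul_mem ?_ (inv_mem (list_prod_mem fun y hy => ?_))
    · rw [_root_.commutator_def]
      exact commutator_mem_commutator (mem_top _) (mem_top _)
    · obtain ⟨v, hv, rfl⟩ := List.mem_map.1 hy
      obtain ⟨p, q, hpq⟩ := hdec v hv
      rw [show Y' v = ⁅Y' p, Y' q⁆ from Subtype.ext hpq, _root_.commutator_def]
      exact commutator_mem_commutator (mem_top _) (mem_top _)
  · rw [hker]
    have p1 : w * w = 1 := Subtype.ext (by push_cast; rw [v1, q1])
    have hi := twoHom_injective p1 fun h => n1 (by rw [← v1, h]; rfl)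
    exact ⟨((MonoidHom.ofInjective hi).trans (MulEquiv.subgroupCongr (twoHom_range p1))).symm⟩

end CfsgLib.Schur.F4Two
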