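import Cfsg.Agent.Lib.Schur.F4Two.Packed

/-!
The comparisons of packed products are comparisons of products of matrices.
-/

set_option autoImplicit false
set_option maxRecDepth 20000

namespace CfsgLib.Schur.F4Two.Packed

/-- Slots given by a function as a number. -/
def num : ℕ → (ℕ → ℕ) → ℕ
  | 0, _ => 0
  | n + 1, f => f 0 + 65536 * num n fun j => f (j + 1)

theorem num_congr : ∀ (n : ℕ) (f g : ℕ → ℕ), (∀ j < n, f j = g j) → num n f = num n g
  | 0, _, _, _ => rfl
  | n + 1, f, g, h => by
    rw [num, num, h 0 (Nat.succ_pos n), num_congr n _ _ fun j hj => h (j + 1) (by omega)]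

theorem num_zero : ∀ n : ℕ, num n (fun _ => 0) = 0
  | 0 => rfl
  | n + 1 => by rw [num, num_zero n]

theorem num_add : ∀ (n : ℕ) (f g : ℕ → ℕ), num n (fun j => f j + g j) = num n f + num n g
  | 0, _, _ => rfl
  | n + 1, f, g => by rw [num, num, num, num_add n]; ring

theorem num_smul : ∀ (n c : ℕ) (f : ℕ → ℕ), num n (fun j => c * f j) = c * num n f
  | 0, _, _ => rfl
  | n + 1, c, f => by rw [num, num, num_smul n]; ring

theorem num_sum (n : ℕ) {ι : Type*} (s : Finset ι) (f : ι → ℕ → ℕ) :
    num n (fun j => ∑ i ∈ s, f i j) = ∑ i ∈ s, num n (f i) := by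
  classical
  induction s using Finset.induction_on with
  | empty => simp [num_zero]
  | insert a s ha ih => simp only [Finset.sum_insert ha, num_add, ih]

theorem num_digit : ∀ (j n : ℕ) (f : ℕ → ℕ), j < n → (∀ i < n, f i < 65536) →
    num n f / 65536 ^ j % 65536 = f j
  | 0, n + 1, f, _, h => by
    rw [num, pow_zero, Nat.div_one, Nat.add_mul_mod_self_left, Nat.mod_eq_of_lt (h 0 (Nat.succ_pos n))]
  | j + 1, n + 1, f, hj, h => by
    rw [num, pow_succ', ← Nat.div_div_eq_div_mul, Nat.add_mul_div_left _ _ (by norm_num),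
      Nat.div_eq_of_lt (h 0 (Nat.succ_pos n)), zero_add,
      num_digit j n _ (by omega) fun i hi => h (i + 1) (by omega)]

theorem num_of_digits : ∀ n x : ℕ, num n (fun j => x / 65536 ^ j % 65536) = x % 65536 ^ n
  | 0, x => by simp [num, Nat.mod_one]
  | n + 1, x => by
    have e := num_of_digits n (x / 65536)
    simp only [Nat.div_div_eq_div_mul, ← pow_succ'] at e
    rw [num, e, pow_succ', Nat.mod_mul, pow_zero, Nat.div_one]

/-- The slot with the given number. -/
def slot (x j : ℕ) : ℕ := at' x (32 + 16 * j)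

theorem at_eq (x o : ℕ) : at' x o = x / 2 ^ o % 65536 := by
  show (x >>> o) &&& 65535 = _
  rw [Nat.shiftRight_eq_div_pow, show (65535 : ℕ) = 2 ^ 16 - 1 by norm_num,
    Nat.and_two_pow_sub_one_eq_mod]

theorem slot_eq (x j : ℕ) : slot x j = x / 4294967296 / 65536 ^ j % 65536 := by
  rw [slot, at_eq, Nat.div_div_eq_div_mul, show (65536 : ℕ) ^ j = 2 ^ (16 * j) by rw [pow_mul]; norm_num,
    show (4294967296 : ℕ) = 2 ^ 32 by norm_num, ← pow_add]

theorem offs_eq : offs = List.ofFn fun j : Fin 52 => 32 + 16 * j.val := by decide +kernel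

/-- The matrix. -/
def toMat (A : List ℕ) : Matrix (Fin 52) (Fin 52) (ZMod 11) :=
  fun i j => ((slot (A.getD i.val 0) j.val : ℕ) : ZMod 11)

attribute [local irreducible] num

/-- A number with a bounded tag and the given bounded slots. -/
def Has (x b m : ℕ) (f : ℕ → ℕ) : Prop :=
  (∀ j < 52, f j ≤ m) ∧ ∃ lo, lo ≤ b ∧ x = lo + 4294967296 * num 52 f

theorem Has.slot {x b m : ℕ} {f : ℕ → ℕ} (h : Has x b m f) (hb : b < 4294967296) (hm : m < 65536)
    {j : ℕ} (hj : j < 52) : slot x j = f j := by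
  obtain ⟨hf, lo, hlo, rfl⟩ := h
  rw [slot_eq, Nat.add_mul_div_left _ _ (by norm_num), Nat.div_eq_of_lt (show lo < 4294967296 by omega), zero_add,
    num_digit j 52 f hj fun i hi => lt_of_le_of_lt (hf i hi) hm]

theorem wf_iff {A : List ℕ} : wf A = true ↔ A.length = 52 ∧ ∀ x ∈ A, rowWf x = true := by
  simp [wf]

theorem rowWf_spec {x : ℕ} (h : rowWf x = true) : Has x 65535 15 (Packed.slot x) := by
  simp only [rowWf, Bool.and_eq_true, List.all_eq_true, Nat.ble_eq, Nat.blt_eq] at h
  refine ⟨fun j hj => ?_, x % 4294967296, Nat.le_of_lt_succ h.1.1, ?_⟩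
  · refine h.2 _ ?_
    rw [offs_eq, List.mem_ofFn]
    exact ⟨⟨j, hj⟩, rfl⟩
  · have h0 : x / 2 ^ 864 = 0 := by
      rw [← Nat.shiftRight_eq_div_pow]
      exact Nat.eq_of_beq_eq_true h.1.2
    rw [num_congr 52 _ (fun j => x / 4294967296 / 65536 ^ j % 65536) fun j _ => slot_eq x j,
      num_of_digits, Nat.mod_eq_of_lt (show x / 4294967296 < 65536 ^ 52 from ?_), Nat.mod_add_div]
    refine Nat.lt_of_div_eq_zero (by positivity) ?_
    rw [Nat.div_div_eq_div_mul, show (4294967296 : ℕ) = 2 ^ 32 by norm_num,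
      show (65536 : ℕ) ^ 52 = 2 ^ (16 * 52) by rw [pow_mul]; norm_num, ← pow_add]
    exact h0

theorem row_spec {A : List ℕ} (h : wf A = true) (i : Fin 52) :
    Has (A.getD i.val 0) 65535 15 (slot (A.getD i.val 0)) := by
  obtain ⟨h1, h2⟩ := wf_iff.1 h
  rw [List.getD_eq_getElem _ _ (by omega)]
  exact rowWf_spec (h2 _ (List.getElem_mem (by omega)))

theorem dotR_eq (x : ℕ) : ∀ l : List (ℕ × ℕ), dotR x l = (l.map fun p => at' x p.1 * p.2).sum
  | [] => rfl
  | (o, b) :: l => by
    rw [dotR, dotR_eq x l, List.map_cons, List.sum_cons]; rfl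

/-- The combination of rows and its slots. -/
theorem dotR_spec {B : List ℕ} (hB : wf B = true) {x : ℕ} (hx : Has x 65535 15 (slot x)) :
    Has (dotR x (offs.zip B)) 51117300 11700
      (fun j => ∑ k : Fin 52, slot x k * slot (B.getD k 0) j) := by
  have hlen : B.length = 52 := (wf_iff.1 hB).1
  have hzip : offs.zip B = List.ofFn fun k : Fin 52 => (32 + 16 * k.val, B.getD k.val 0) := by
    refine List.ext_getElem (by simp [offs_eq, hlen]) fun k h1 h2 => ?_
    simp only [List.length_ofFn] at h2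
    simp only [List.getElem_zip, List.getElem_ofFn]
    rw [List.getD_eq_getElem _ _ (by omega)]
    congr 1
    exact (List.getElem_of_eq offs_eq _).trans (List.getElem_ofFn _)
  choose hf lo hlo he using fun k : Fin 52 => row_spec hB k
  refine ⟨fun j hj => ?_, ∑ k : Fin 52, slot x k * lo k, ?_, ?_⟩
  · refine (Finset.sum_le_card_nsmul _ _ 225 fun k _ => ?_).trans (by simp)
    exact Nat.mul_le_mul (hx.1 k k.2) (hf k j hj)
  · refine (Finset.sum_le_card_nsmul _ _ (15 * 65535) fun k _ => ?_).trans (by simp)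
    exact Nat.mul_le_mul (hx.1 k k.2) (hlo k)
  · rw [dotR_eq, hzip, List.map_ofFn, List.sum_ofFn, num_sum, Finset.mul_sum, ← Finset.sum_add_distrib]
    refine Finset.sum_congr rfl fun k _ => ?_
    rw [num_smul]
    show slot x k * B.getD k 0 = _
    conv_lhs => rw [he k]
    ring

theorem Has.add {X Y b b' m m' : ℕ} {f g : ℕ → ℕ} (hX : Has X b m f) (hY : Has Y b' m' g) :
    Has (X + Y) (b + b') (m + m') (fun j => f j + g j) := by
  obtain ⟨hf, lo, hlo, rfl⟩ := hX
  obtain ⟨hg, lo', hlo', rfl⟩ := hY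
  refine ⟨fun j hj => add_le_add (hf j hj) (hg j hj), lo + lo', add_le_add hlo hlo', ?_⟩
  rw [num_add]; ring

theorem bias_has : bias = 2147483648 + 4294967296 * num 52 (fun _ => 11704) := by decide +kernel

theorem Has.sub {X Y b b' : ℕ} {f g : ℕ → ℕ} (hb : b' ≤ 2147483648) (hX : Has X b 11700 f)
    (hY : Has Y b' 11700 g) :
    Has (X + bias - Y) (b + 2147483648) 23404 (fun j => f j + 11704 - g j) := by
  obtain ⟨hf, lo, hlo, rfl⟩ := hX
  obtain ⟨hg, lo', hlo', rfl⟩ := hY
  have e : num 52 (fun j => f j + 11704 - g j) + num 52 g = num 52 f + num 52 (fun _ => 11704) := by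
    rw [← num_add, ← num_add]
    exact num_congr _ _ _ fun j hj => by have := hg j hj; omega
  refine ⟨fun j hj => by have := hf j hj; dsimp only; omega, lo + 2147483648 - lo', by omega, ?_⟩
  rw [bias_has]
  omega

theorem okD_spec : ∀ (d : ℕ) (l : List ℕ), okD d l = true → ∀ o ∈ l, at' d o % 11 = 0
  | _, [], _, o, ho => by simp at ho
  | d, a :: l, h, o, ho => by
    simp only [okD, Bool.and_eq_true] at h
    rcases List.mem_cons.1 ho with rfl | ho
    · exact Nat.eq_of_beq_eq_true h.1
    · exact okD_spec d l h.2 o ho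

theorem okD_slot {d : ℕ} (h : okD d offs = true) {j : ℕ} (hj : j < 52) : slot d j % 11 = 0 := by
  refine okD_spec d offs h _ ?_
  rw [offs_eq, List.mem_ofFn]
  exact ⟨⟨j, hj⟩, rfl⟩

/-- Two numbers congruent slot by slot. -/
theorem cast_of_ok {X Y b b' : ℕ} {f g : ℕ → ℕ} (hb : b ≤ 51117300) (hb' : b' ≤ 51117300)
    (hX : Has X b 11700 f) (hY : Has Y b' 11700 g) {neg : Bool}
    (h : okD (bif neg then Nat.add X Y else Nat.sub (Nat.add X bias) Y) offs = true) {j : ℕ}
    (hj : j < 52) :
    ((f j : ℕ) : ZMod 11) = bif neg then -((g j : ℕ) : ZMod 11) else ((g j : ℕ) : ZMod 11) := by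
  cases neg
  · simp only [cond_false] at h ⊢
    have h' := okD_slot (d := X + bias - Y) h hj
    rw [(hX.sub (by omega) hY).slot (by omega) (by omega) hj] at h'
    have h2 : ((f j + 11704 - g j : ℕ) : ZMod 11) = 0 := by
      rw [ZMod.natCast_eq_zero_iff]
      exact Nat.dvd_of_mod_eq_zero h'
    have := hY.1 j hj
    rw [Nat.cast_sub (by omega), Nat.cast_add, show ((11704 : ℕ) : ZMod 11) = 0 by decide,
      add_zero, sub_eq_zero] at h2
    exact h2
  · simp only [cond_true] at h ⊢
    have h' := okD_slot (d := X + Y) h hj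
    rw [(hX.add hY).slot (by omega) (by omega) hj] at h'
    have h2 : ((f j + g j : ℕ) : ZMod 11) = 0 := by
      rw [ZMod.natCast_eq_zero_iff]
      exact Nat.dvd_of_mod_eq_zero h'
    rw [Nat.cast_add] at h2
    exact eq_neg_of_add_eq_zero_left h2

theorem rows2_spec {neg : Bool} {B D : List (ℕ × ℕ)} : ∀ {A C : List ℕ}, rows2 neg B D A C = true →
    ∀ i, i < A.length → okD (bif neg then Nat.add (dotR (A.getD i 0) B) (dotR (C.getD i 0) D)
      else Nat.sub (Nat.add (dotR (A.getD i 0) B) bias) (dotR (C.getD i 0) D)) offs = true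
  | [], _, _, i, hi => by simp at hi
  | _ :: _, [], h, _, _ => by simp [rows2] at h
  | a :: A, c :: C, h, i, hi => by
    simp only [rows2, Bool.and_eq_true] at h
    cases i with
    | zero => simpa using h.1
    | succ i => simpa using rows2_spec h.2 i (by simpa using hi)

theorem rows1_spec {neg : Bool} {B : List (ℕ × ℕ)} : ∀ {A C : List ℕ}, rows1 neg B A C = true →
    ∀ i, i < A.length → okD (bif neg then Nat.add (dotR (A.getD i 0) B) (C.getD i 0)
      else Nat.sub (Nat.add (dotR (A.getD i 0) B) bias) (C.getD i 0)) offs = true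
  | [], _, _, i, hi => by simp at hi
  | _ :: _, [], h, _, _ => by simp [rows1] at h
  | a :: A, c :: C, h, i, hi => by
    simp only [rows1, Bool.and_eq_true] at h
    cases i with
    | zero => simpa using h.1
    | succ i => simpa using rows1_spec h.2 i (by simpa using hi)

theorem eqMul2_spec {neg : Bool} {A B C D : List ℕ} (hA : wf A = true) (hB : wf B = true)
    (hC : wf C = true) (hD : wf D = true) (h : eqMul2 neg A B C D = true) :
    toMat A * toMat B = bif neg then -(toMat C * toMat D) else toMat C * toMat D := by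
  ext i j
  have hi := rows2_spec h i (by rw [(wf_iff.1 hA).1]; exact i.2)
  have e := cast_of_ok (le_refl _) (le_refl _) (dotR_spec hB (row_spec hA i))
    (dotR_spec hD (row_spec hC i)) hi j.2
  simp only [Nat.cast_sum, Nat.cast_mul] at e
  cases neg
  · exact e
  · exact e

theorem eqMul1_spec {neg : Bool} {A B C : List ℕ} (hA : wf A = true) (hB : wf B = true)
    (hC : wf C = true) (h : eqMul1 neg A B C = true) :
    toMat A * toMat B = bif neg then -toMat C else toMat C := by
  ext i j
  have hi := rows1_spec h i (by rw [(wf_iff.1 hA).1]; exact i.2)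
  have hc : Has (C.getD i.val 0) 65535 11700 (slot (C.getD i.val 0)) := by
    obtain ⟨h1, h2⟩ := row_spec hC i
    exact ⟨fun k hk => (h1 k hk).trans (by norm_num), h2⟩
  have e := cast_of_ok (le_refl _) (by norm_num) (dotR_spec hB (row_spec hA i)) hc hi j.2
  simp only [Nat.cast_sum, Nat.cast_mul] at e
  cases neg
  · exact e
  · exact e

end CfsgLib.Schur.F4Two.Packed
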