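import Cfsg.Agent.Lib.Schur.F4Two.Tab
import Cfsg.Agent.Lib.Schur.D4Two.Upper

/-!
In a central extension of a group with relations as in `Tab` the lifts satisfy the relations up to one
central involution.
-/

set_option autoImplicit false
set_option linter.unusedSectionVars false

namespace CfsgLib.Schur.F4Two

open CfsgLib.Schur.D4Two (comm_congr commute_comm)
open scoped commutatorElement

universe u

variable {n : ℕ} {T : Tab n} {G E : Type u} [Group G] [Group E] {σ : E →* G}

theorem pid_inj {p q : Fin n × Fin n} (h : pid p = pid q) : p = q := by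
  obtain ⟨a, b⟩ := p
  obtain ⟨c, d⟩ := q
  simp only [pid] at h
  have hn : 0 < n := Fin.pos a
  have h1 := congrArg (fun k => k / n) h
  simp only [Nat.mul_add_div hn, Nat.div_eq_of_lt b.2, Nat.div_eq_of_lt d.2, add_zero] at h1
  rw [h1] at h
  exact Prod.ext (Fin.ext h1) (Fin.ext (by simpa using h))

theorem mem_ins {m : ℕ} {p q : Fin n × Fin n} (h : mem (ins m p) q = true) :
    mem m q = true ∨ q = p := by
  simp only [mem, ins, Nat.testBit_or, Nat.testBit_two_pow, Bool.or_eq_true, decide_eq_true_eq] at h
  exact h.imp_right fun e => (pid_inj e).symm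

theorem ok_iff {r s : Fin n} : T.ok r s = true ↔ s ≠ r ∧ s ≠ T.neg r := by simp [Tab.ok]

theorem com_iff {r s : Fin n} : T.com r s = true ↔ T.ok r s = true ∧ T.word r s = [] := by
  simp [Tab.com, List.isEmpty_iff]

theorem Rels.comm {x : Fin n → G} (R : Rels T x) {r s : Fin n} (h : T.com r s = true) :
    x r * x s = x s * x r := by
  obtain ⟨h1, h2⟩ := com_iff.1 h
  obtain ⟨a, b⟩ := ok_iff.1 h1
  exact commutatorElement_eq_one_iff_mul_comm.1 (by rw [R.pair r s a b, h2]; rfl)

/-- The defect of a pair. -/
def delta (T : Tab n) (X : Fin n → E) (p : Fin n × Fin n) : E :=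
  ⁅X p.1, X p.2⁆ * (((T.word p.1 p.2).map X).prod)⁻¹

theorem comm_eq_delta (X : Fin n → E) (r s : Fin n) :
    ⁅X r, X s⁆ = delta T X (r, s) * ((T.word r s).map X).prod :=
  (inv_mul_cancel_right _ _).symm

/-- A product of commuting involutions is an involution or one. -/
theorem prod_sq {l : List E} (h1 : ∀ a ∈ l, a * a = 1) (h2 : ∀ a ∈ l, ∀ b ∈ l, Commute a b) :
    l.prod * l.prod = 1 := by
  induction l with
  | nil => simp
  | cons a l ih =>
    have hc : Commute a l.prod := Commute.list_prod_right _ _ fun b hb =>
      h2 a List.mem_cons_self b (List.mem_cons_of_mem _ hb)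
    rw [List.prod_cons, mul_assoc, ← mul_assoc l.prod, ← hc.eq, mul_assoc a, ← mul_assoc a a,
      h1 a List.mem_cons_self, one_mul]
    exact ih (fun b hb => h1 b (List.mem_cons_of_mem _ hb)) fun b hb d hd =>
      h2 b (List.mem_cons_of_mem _ hb) d (List.mem_cons_of_mem _ hd)

theorem pow_bool_xor {c : E} (hc : c * c = 1) (a b : Bool) :
    c ^ (xor a b).toNat = c ^ a.toNat * c ^ b.toNat := by
  cases a <;> cases b <;> simp [hc]

section lifts

variable {x : Fin n → G} {X : Fin n → E}
variable (hc : ∀ z, σ z = 1 → ∀ g : E, Commute z g) (hX : ∀ r, σ (X r) = x r) (R : Rels T x)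
include hc hX R

theorem delta_ker {p : Fin n × Fin n} (h : T.ok p.1 p.2 = true) : σ (delta T X p) = 1 := by
  obtain ⟨a, b⟩ := ok_iff.1 h
  rw [delta, map_mul, map_inv, map_commutatorElement, hX, hX, R.pair _ _ a b, map_list_prod,
    List.map_map, show (σ : E → G) ∘ X = x from funext hX, mul_inv_cancel]

theorem delta_central {p : Fin n × Fin n} (h : T.ok p.1 p.2 = true) (g : E) :
    Commute (delta T X p) g :=
  hc _ (delta_ker hc hX R h) g

theorem near_spec : ∀ (l : List (Near n)) (m m' : ℕ),
    (∀ p, mem m p = true → Commute (X p.1) (X p.2)) → nearRun T l m = some m' →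
    ∀ p, mem m' p = true → Commute (X p.1) (X p.2) := by
  intro l
  induction l with
  | nil =>
    intro m m' hm e
    simp only [nearRun, Option.some.injEq] at e
    exact e ▸ hm
  | cons step l ih =>
    intro m m' hm e
    cases step with
    | symm a t =>
      simp only [nearRun] at e
      split at e
      · rename_i h
        refine ih _ m' (fun p hp => ?_) e
        rcases mem_ins hp with hp | rfl
        exacts [hm p hp, (hm _ h).symm]
      · cases e
    | dec a t p q pre post =>
      simp only [nearRun] at e
      split at e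
      · rename_i h
        simp only [Bool.and_eq_true, decide_eq_true_eq, List.all_eq_true, List.mem_append] at h
        obtain ⟨⟨⟨⟨h1, h2⟩, h3⟩, h4⟩, h5⟩ := h
        refine ih _ m' (fun p' hp => ?_) e
        rcases mem_ins hp with hp | rfl
        · exact hm p' hp
        have c1 : Commute (X a) ⁅X p, X q⁆ := commute_comm hc
          (by rw [hX, hX]; exact R.comm h1) (by rw [hX, hX]; exact R.comm h2)
        have c2 : Commute (X a) (delta T X (p, q)) :=
          (delta_central hc hX R (p := (p, q)) h3 (X a)).symm
        have cl : ∀ l' : List (Fin n), (∀ u ∈ l', u ∈ pre ∨ u ∈ post) →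
            Commute (X a) (l'.map X).prod := fun l' hl => Commute.list_prod_right _ _ fun y hy => by
          obtain ⟨u, hu, rfl⟩ := List.mem_map.1 hy
          exact hm (a, u) (h5 u (hl u hu))
        have e1 := comm_eq_delta (T := T) X p q
        rw [h4, List.map_append, List.map_cons, List.prod_append, List.prod_cons] at e1
        have e2 : X t = (pre.map X).prod⁻¹ * ((delta T X (p, q))⁻¹ * ⁅X p, X q⁆) *
            (post.map X).prod⁻¹ := by
          rw [e1]; group
        show Commute (X a) (X t)
        rw [e2]
        exact ((cl pre fun u hu => Or.inl hu).inv_right.mul_right (c2.inv_right.mul_right c1)).mul_right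
          (cl post fun u hu => Or.inr hu).inv_right
      · cases e

theorem move_spec : ∀ (w : List (Fin n)) (m : Move) (w' : List (Fin n)) (o : List (Fin n × Fin n)),
    (∀ r, X r * X r = 1) → move T m w = some (w', o) →
    (∀ p ∈ o, T.ok p.1 p.2 = true) ∧
      (w.map X).prod = (o.map (delta T X)).prod * (w'.map X).prod := by
  intro w
  induction w with
  | nil =>
    intro m w' o _ h
    cases m with
    | swap i => cases i <;> simp [move] at h
    | cancel i => cases i <;> simp [move] at h
  | cons a w ih =>
    intro m w' o hsq h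
    have step : ∀ m', (move T m' w).map (fun o => (a :: o.1, o.2)) = some (w', o) →
        (∀ p ∈ o, T.ok p.1 p.2 = true) ∧
          ((a :: w).map X).prod = (o.map (delta T X)).prod * (w'.map X).prod := by
      intro m' h'
      simp only [Option.map_eq_some_iff, Prod.mk.injEq] at h'
      obtain ⟨⟨w1, o1⟩, h1, rfl, rfl⟩ := h'
      obtain ⟨h2, h3⟩ := ih m' w1 o1 hsq h1
      refine ⟨h2, ?_⟩
      have hz : Commute (o1.map (delta T X)).prod (X a) := Commute.list_prod_left _ _ fun y hy => by
        obtain ⟨p, hp, rfl⟩ := List.mem_map.1 hy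
        exact delta_central hc hX R (h2 p hp) _
      simp only [List.map_cons, List.prod_cons, h3]
      rw [← mul_assoc, ← hz.eq, mul_assoc]
    cases m with
    | swap i =>
      cases i with
      | succ i => simp only [move] at h; exact step _ h
      | zero =>
        cases w with
        | nil => simp [move] at h
        | cons s w =>
          simp only [move] at h
          split at h
          · rename_i hok
            simp only [Option.some.injEq, Prod.mk.injEq] at h
            obtain ⟨rfl, rfl⟩ := h
            refine ⟨by simpa using hok, ?_⟩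
            simp only [List.map_cons, List.map_append, List.map_nil, List.prod_cons, List.prod_append,
              List.prod_nil, mul_one]
            rw [← mul_assoc (delta T X (a, s)), ← comm_eq_delta, commutatorElement_def]
            group
          · cases h
    | cancel i =>
      cases i with
      | succ i => simp only [move] at h; exact step _ h
      | zero =>
        cases w with
        | nil => simp [move] at h
        | cons s w =>
          simp only [move] at h
          split at h
          · rename_i heq
            simp only [Option.some.injEq, Prod.mk.injEq] at h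
            obtain ⟨rfl, rfl⟩ := h
            subst heq
            exact ⟨by simp, by simp only [List.map_cons, List.prod_cons, List.map_nil, List.prod_nil,
              one_mul, ← mul_assoc, hsq]⟩
          · cases h

theorem moves_spec (hsq : ∀ r, X r * X r = 1) : ∀ (l : List Move) (w w' : List (Fin n))
    (o : List (Fin n × Fin n)), moves T l w = some (w', o) →
    (∀ p ∈ o, T.ok p.1 p.2 = true) ∧
      (w.map X).prod = (o.map (delta T X)).prod * (w'.map X).prod := by
  intro l
  induction l with
  | nil =>
    intro w w' o h
    simp only [moves, Option.some.injEq, Prod.mk.injEq] at h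
    obtain ⟨rfl, rfl⟩ := h
    simp
  | cons m l ih =>
    intro w w' o h
    simp only [moves] at h
    split at h
    · rename_i w1 o1 h1
      simp only [Option.map_eq_some_iff, Prod.mk.injEq] at h
      obtain ⟨⟨w2, o2⟩, h2, rfl, rfl⟩ := h
      obtain ⟨a1, b1⟩ := move_spec hc hX R w m w1 o1 hsq h1
      obtain ⟨a2, b2⟩ := ih w1 w2 o2 h2
      refine ⟨fun p hp => ?_, by rw [b1, b2, List.map_append, List.prod_append, mul_assoc]⟩
      rcases List.mem_append.1 hp with hp | hp
      exacts [a1 p hp, a2 p hp]
    · cases h

theorem eval_occ {c : E} (hcc : c * c = 1) (hcz : ∀ g, Commute c g) {val : ℕ} {u : Fin n × Fin n}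
    (hu : T.ok u.1 u.2 = true) (hu2 : delta T X u * delta T X u = 1) :
    ∀ l : List (Fin n × Fin n),
      (∀ p ∈ l, p ≠ u → delta T X p = c ^ (mem val p).toNat) →
      (l.map (delta T X)).prod =
        delta T X u ^ (parity u l).toNat * c ^ (valSum val u l).toNat := by
  intro l
  induction l with
  | nil => simp [parity, valSum]
  | cons p l ih =>
    intro h
    rw [List.map_cons, List.prod_cons, ih fun q hq => h q (List.mem_cons_of_mem _ hq)]
    by_cases hp : p = u
    · subst hp
      simp only [parity, valSum, if_true]
      cases parity p l <;> simp [← mul_assoc, hu2]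
    · simp only [parity, valSum, if_neg hp, pow_bool_xor hcc]
      rw [h p List.mem_cons_self hp, ← mul_assoc, ((hcz _).pow_left _).eq, mul_assoc]

theorem oddPairs_spec (hd2 : ∀ p, T.ok p.1 p.2 = true → delta T X p * delta T X p = 1) :
    ∀ l : List (Fin n × Fin n), (∀ p ∈ l, T.ok p.1 p.2 = true) →
      (∀ p ∈ oddPairs l, T.ok p.1 p.2 = true) ∧
        ((oddPairs l).map (delta T X)).prod = (l.map (delta T X)).prod := by
  have key : ∀ p : Fin n × Fin n, T.ok p.1 p.2 = true → ∀ l : List (Fin n × Fin n),
      (∀ q ∈ l, T.ok q.1 q.2 = true) → (∀ q ∈ toggle p l, T.ok q.1 q.2 = true) ∧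
        ((toggle p l).map (delta T X)).prod = delta T X p * (l.map (delta T X)).prod := by
    intro p hp l
    induction l with
    | nil => intro _; simp [toggle, hp]
    | cons q l ih =>
      intro hq
      obtain ⟨h1, h2⟩ := ih fun r hr => hq r (List.mem_cons_of_mem _ hr)
      by_cases h : p = q
      · subst h
        simp only [toggle, if_true, List.map_cons, List.prod_cons, ← mul_assoc, hd2 p hp, one_mul]
        exact ⟨fun r hr => hq r (List.mem_cons_of_mem _ hr), trivial⟩
      · simp only [toggle, if_neg h, List.map_cons, List.prod_cons, List.mem_cons]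
        refine ⟨?_, by rw [h2, ← mul_assoc, ← (delta_central hc hX R hp _).eq, mul_assoc]⟩
        rintro r (rfl | hr)
        exacts [hq r List.mem_cons_self, h1 r hr]
  intro l
  induction l with
  | nil => simp [oddPairs]
  | cons p l ih =>
    intro h
    obtain ⟨h1, h2⟩ := ih fun r hr => h r (List.mem_cons_of_mem _ hr)
    obtain ⟨h3, h4⟩ := key p (h p List.mem_cons_self) _ h1
    exact ⟨h3, by rw [oddPairs, h4, h2, List.map_cons, List.prod_cons]⟩

theorem eqRun_spec (hsq : ∀ r, X r * X r = 1)
    (hd2 : ∀ p, T.ok p.1 p.2 = true → delta T X p * delta T X p = 1)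
    {c : E} (hcc : c * c = 1) (hcz : ∀ g, Commute c g) (val : ℕ) :
    ∀ (l : List (Eqn n)) (k k' : ℕ),
      (∀ p, mem k p = true → delta T X p = c ^ (mem val p).toNat) →
      eqRun T val l k = some k' →
      ∀ p, mem k' p = true → delta T X p = c ^ (mem val p).toNat := by
  intro l
  induction l with
  | nil =>
    intro k k' hk e
    simp only [eqRun, Option.some.injEq] at e
    exact e ▸ hk
  | cons e l ih =>
    intro k k' hk h
    simp only [eqRun] at h
    split at h
    · rename_i hch
      refine ih _ k' (fun p hp => ?_) h
      rcases mem_ins hp with hp | rfl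
      · exact hk p hp
      unfold Eqn.check at hch
      split at hch
      · rename_i w o w' o' h1 h2
        simp only [Bool.and_eq_true, decide_eq_true_eq, List.all_eq_true, Bool.or_eq_true,
          beq_iff_eq] at hch
        obtain ⟨⟨⟨rfl, hall⟩, hpar⟩, hval⟩ := hch
        obtain ⟨a1, b1⟩ := moves_spec hc hX R hsq _ _ _ _ h1
        obtain ⟨a2, b2⟩ := moves_spec hc hX R hsq _ _ _ _ h2
        have hu : T.ok e.u.1 e.u.2 = true := by
          by_contra hne
          have hnot : ∀ l : List (Fin n × Fin n), (∀ p ∈ l, T.ok p.1 p.2 = true) →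
              parity e.u l = false := by
            intro l
            induction l with
            | nil => simp [parity]
            | cons q l ihl =>
              intro hq
              have : q ≠ e.u := fun he => hne (he ▸ hq q List.mem_cons_self)
              simp only [parity, if_neg this]
              exact ihl fun r hr => hq r (List.mem_cons_of_mem _ hr)
          rw [hnot _ (oddPairs_spec hc hX R hd2 (o ++ o') fun q hq =>
            (List.mem_append.1 hq).elim (a1 q) (a2 q)).1] at hpar
          cases hpar
        have hprod : ((o ++ o').map (delta T X)).prod = 1 := by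
          rw [List.map_append, List.prod_append, mul_right_cancel (b1.symm.trans b2)]
          refine prod_sq ?_ ?_
          · intro y hy
            obtain ⟨q, hq, rfl⟩ := List.mem_map.1 hy
            exact hd2 q (a2 q hq)
          · intro y hy z hz
            obtain ⟨q, hq, rfl⟩ := List.mem_map.1 hy
            exact delta_central hc hX R (a2 q hq) z
        rw [← (oddPairs_spec hc hX R hd2 (o ++ o') fun q hq =>
            (List.mem_append.1 hq).elim (a1 q) (a2 q)).2] at hprod
        rw [eval_occ hc hX R hcc hcz (val := val) hu (hd2 e.u hu) _ (fun q hq hne =>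
          hk q ((hall q hq).resolve_left hne)), hpar, hval] at hprod
        have hpow : c ^ (mem val e.u).toNat * c ^ (mem val e.u).toNat = 1 := by
          rw [← pow_bool_xor hcc]; simp
        simp only [Bool.toNat_true, pow_one] at hprod
        rw [← hpow] at hprod
        exact mul_right_cancel hprod
      · cases hch
    · cases h

end lifts

/-- The system of lifts. -/
theorem exists_lifts (hs : Function.Surjective σ) (hc : ∀ z, σ z = 1 → ∀ g : E, Commute z g)
    {x : Fin n → G} (R : Rels T x) {C : Cert n} (hC : C.Ok T) :
    ∃ (c : E) (X : Fin n → E), σ c = 1 ∧ c * c = 1 ∧ (∀ r, σ (X r) = x r) ∧ (∀ r, X r * X r = 1) ∧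
      ∀ r s, T.ok r s = true → delta T X (r, s) ∈ Subgroup.zpowers c := by
  choose A hA using fun r => hs (x r)
  set X : Fin n → E := fun v => ⁅A (C.dec v).1, A (C.dec v).2⁆ with hXdef
  have hX : ∀ r, σ (X r) = x r := fun r => by
    obtain ⟨h1, h2, -⟩ := hC.near.dec r
    obtain ⟨a, b⟩ := ok_iff.1 h1
    simp only [hXdef]
    rw [map_commutatorElement, hA, hA, R.pair _ _ a b, h2, List.map_cons, List.map_nil,
      List.prod_cons, List.prod_nil, mul_one]
  have hdec : ∀ v, ⁅X (C.dec v).1, X (C.dec v).2⁆ = X v := fun v => by
    rw [comm_congr hc (a' := A (C.dec v).1) (b' := A (C.dec v).2) (by rw [hX, hA]) (by rw [hX, hA])]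
  have hnear : ∀ p, mem C.nearSet p = true → Commute (X p.1) (X p.2) :=
    near_spec hc hX R C.nears 0 C.nearSet (fun p hp => by simp [mem] at hp) hC.near.run
  have hsq : ∀ v, X v * X v = 1 := fun v => by
    obtain ⟨-, -, h3⟩ := hC.near.dec v
    have e := hdec v
    set P := X (C.dec v).1 with hP
    set Q := X (C.dec v).2 with hQ
    rw [Bool.or_eq_true] at h3
    rcases h3 with h | h
    · have hk : Commute P (X v) := hnear _ h
      calc X v * X v = P * X v * P⁻¹ * X v := by rw [hk.eq, mul_inv_cancel_right]
        _ = ⁅P * P, Q⁆ := by rw [← e]; simp only [commutatorElement_def]; group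
        _ = 1 := by
          rw [comm_congr hc (a' := 1) (b' := Q) (by rw [map_mul, hP, hX, R.sq, map_one]) rfl,
            commutatorElement_one_left]
    · have hk : Commute Q (X v) := hnear _ h
      calc X v * X v = X v * (Q * X v * Q⁻¹) := by rw [hk.eq, mul_inv_cancel_right]
        _ = ⁅P, Q * Q⁆ := by rw [← e]; simp only [commutatorElement_def]; group
        _ = 1 := by
          rw [comm_congr hc (a' := P) (b' := 1) rfl (by rw [map_mul, hQ, hX, R.sq, map_one]),
            commutatorElement_one_right]
  have hword : ∀ r s, T.ok r s = true → ∀ t ∈ T.word r s,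
      Commute (X s) (X t) ∧ ∀ t' ∈ T.word r s, Commute (X t) (X t') := by
    intro r s h t ht
    have hh := (hC.near.pairs r s h).2
    simp only [List.all_eq_true, Bool.and_eq_true, Bool.or_eq_true, decide_eq_true_eq] at hh
    refine ⟨hnear _ (hh t ht).1, fun t' ht' => ?_⟩
    rcases (hh t ht).2 t' ht' with e | e
    exacts [e ▸ Commute.refl _, hnear _ e]
  have hd2 : ∀ p : Fin n × Fin n, T.ok p.1 p.2 = true → delta T X p * delta T X p = 1 := by
    rintro ⟨r, s⟩ h
    set P := ((T.word r s).map X).prod with hP
    have hPP : P * P = 1 := prod_sq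
      (fun y hy => by obtain ⟨t, -, rfl⟩ := List.mem_map.1 hy; exact hsq t)
      (fun y hy z hz => by
        obtain ⟨t, ht, rfl⟩ := List.mem_map.1 hy
        obtain ⟨t', ht', rfl⟩ := List.mem_map.1 hz
        exact (hword r s h t ht).2 t' ht')
    have hSP : Commute (X s) P := Commute.list_prod_right _ _ fun y hy => by
      obtain ⟨t, ht, rfl⟩ := List.mem_map.1 hy
      exact (hword r s h t ht).1
    have hd := delta_central hc hX R (p := (r, s)) h
    set d := delta T X (r, s) with hddef
    have e : ⁅X r, X s⁆ = d * P := comm_eq_delta X r s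
    calc d * d = d * d * (P * P) := by rw [hPP, mul_one]
      _ = (d * P) * (d * P) := (hd P).mul_mul_mul_comm d P
      _ = ⁅X r, X s⁆ * (X s * ⁅X r, X s⁆ * (X s)⁻¹) := by
          rw [e, ((hd (X s)).symm.mul_right hSP).eq, mul_inv_cancel_right]
      _ = ⁅X r, X s * X s⁆ := by simp only [commutatorElement_def]; group
      _ = 1 := by rw [hsq, commutatorElement_one_right]
  set c := delta T X C.base with hcdef
  have hcc : c * c = 1 := hd2 C.base hC.base
  have hcz : ∀ g, Commute c g := delta_central hc hX R hC.base
  have hinit : ∀ p, mem C.known p = true → delta T X p = c ^ (mem C.val p).toNat := by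
    rintro ⟨r, s⟩ hp
    have hh := hC.init
    simp only [Cert.initOk, List.all_eq_true, List.mem_finRange, forall_const, Bool.or_eq_true,
      Bool.not_eq_true', Bool.and_eq_true, decide_eq_true_eq, decide_eq_false_iff_not,
      List.any_eq_true, true_and] at hh
    obtain ⟨hok, hh⟩ := (hh r s).resolve_left (by simp [hp])
    rcases hh with ⟨hb, hv⟩ | ⟨⟨-, hv⟩, hh⟩
    · rw [hv, hb]; simp [hcdef]
    · rw [hv, Bool.toNat_false, pow_zero]
      have com : ∀ {a b : Fin n}, T.word a b = [] → Commute (X a) (X b) →
          delta T X (a, b) = 1 := fun hw hab => by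
        simp [delta, hw, commutatorElement_eq_one_iff_commute.2 hab]
      rcases hh with (h1 | ⟨hw, h1⟩) | ⟨v, hv'⟩
      · exact com h1.1 (hnear _ h1.2)
      · exact com hw (hnear _ h1).symm
      · obtain ⟨-, h2, -⟩ := hC.near.dec v
        have e := hdec v
        rw [hv'] at h2 e
        simp only [delta, h2, e, List.map_cons, List.map_nil, List.prod_cons, List.prod_nil, mul_one,
          mul_inv_cancel]
  have hchain : ∀ (bs : List (List (Eqn n) × ℕ)) (k : ℕ),
      (∀ p, mem k p = true → delta T X p = c ^ (mem C.val p).toNat) →
      (List.zip (k :: bs.map Prod.snd) bs).all (fun b => eqRun T C.val b.2.1 b.1 == some b.2.2) = true →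
      ∀ p, mem ((bs.map Prod.snd).getLastD k) p = true → delta T X p = c ^ (mem C.val p).toNat := by
    intro bs
    induction bs with
    | nil => intro k hk _; simpa using hk
    | cons b bs ih =>
      intro k hk h
      simp only [List.map_cons, List.zip_cons_cons, List.all_cons, Bool.and_eq_true, beq_iff_eq] at h
      rw [List.map_cons, List.getLastD_cons]
      exact ih b.2 (eqRun_spec hc hX R hsq hd2 hcc hcz C.val b.1 k b.2 hk h.1) h.2
  refine ⟨c, X, delta_ker hc hX R hC.base, hcc, hX, hsq, fun r s h => ?_⟩
  rw [hchain C.blocks C.known hinit hC.chain (r, s) (hC.total r s h)]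
  exact pow_mem (Subgroup.mem_zpowers c) _

end CfsgLib.Schur.F4Two
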