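import Cfsg.Agent.Lib.Schur.F4Two.MatChecks
import Cfsg.Agent.Lib.Schur.F4Two.PackedSpec
import Cfsg.Agent.Lib.Schur.F4Two.Upper

/-!
The units given by the matrices satisfy the relations up to sign, and the sign is a product of commutators.
-/

set_option autoImplicit false
set_option linter.unusedSectionVars false

namespace CfsgLib.Schur.F4Two

open Packed
open scoped commutatorElement

/-- The ambient group. -/
abbrev GL52 : Type := (Matrix (Fin 52) (Fin 52) (ZMod 11))ˣ

theorem wf_matL (r : Fin 48) : wf (matL r) = true := by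
  have h := shapeCheck_eq
  simp only [shapeCheck, Bool.and_eq_true, List.all_eq_true, List.mem_finRange, forall_const] at h
  exact h.1.1.1 r

theorem wf_id : wf idRows = true := by
  have h := shapeCheck_eq
  simp only [shapeCheck, Bool.and_eq_true] at h
  exact h.1.1.2

theorem wf_nL (k : Bool) : wf (nL k) = true := by
  have h := shapeCheck_eq
  simp only [shapeCheck, Bool.and_eq_true] at h
  cases k
  exacts [h.1.2, h.2]

theorem toMat_id : toMat idRows = 1 := by
  ext i j
  have h := idCheck_eq
  simp only [idCheck, List.all_eq_true, List.mem_finRange, forall_const] at h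
  have e : slot (idRows.getD i.val 0) j.val = bif decide (i = j) then 1 else 0 :=
    Nat.eq_of_beq_eq_true (h i j)
  simp only [toMat, e, Matrix.one_apply]
  by_cases hij : i = j <;> simp [hij]

theorem chainOk_spec {base : List ℕ} (hb : wf base = true) :
    ∀ (l : List (Fin 48)) (Ss : List (List ℕ)), chainOk base l Ss = true →
      wf (Ss.headD []) = true ∧
        toMat (Ss.headD []) = (l.map fun r => toMat (matL r)).prod * toMat base := by
  intro l
  induction l with
  | nil =>
    intro Ss h
    match Ss with
    | [S] =>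
      simp only [chainOk, beq_iff_eq] at h
      subst h
      exact ⟨hb, by simp⟩
    | [] => simp [chainOk] at h
    | _ :: _ :: _ => simp [chainOk] at h
  | cons r l ih =>
    intro Ss h
    match Ss with
    | S :: S' :: rest =>
      simp only [chainOk, Bool.and_eq_true] at h
      obtain ⟨⟨h1, h2⟩, h3⟩ := h
      obtain ⟨w', e'⟩ := ih _ h3
      have e : toMat (matL r) * toMat S' = toMat S := eqMul1_spec (wf_matL r) w' h2 h1
      refine ⟨h2, ?_⟩
      rw [List.map_cons, List.prod_cons, mul_assoc, ← e']
      exact e.symm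
    | [] => simp [chainOk] at h
    | [_] => simp [chainOk] at h

/-- The matrix. -/
def matV (r : Fin 48) : Matrix (Fin 52) (Fin 52) (ZMod 11) := toMat (matL r)

/-- The matrix of a Weyl element. -/
def nV (k : Bool) : Matrix (Fin 52) (Fin 52) (ZMod 11) := toMat (nL k)

theorem word_prod (k : Bool) : ((wordW k).map matV).prod = nV k := by
  have h := wordCheck_eq
  simp only [wordCheck, List.all_eq_true] at h
  have h := h k (by cases k <;> simp)
  split at h
  · cases h
  · rename_i r hr
    have e : wordW k = (wordW k).dropLast ++ [r] :=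
      (List.dropLast_append_getLast? r hr).symm
    rw [nV, nL, (chainOk_spec (wf_matL r) _ _ h).2]
    conv_lhs => rw [e, List.map_append, List.prod_append]
    simp only [List.map_cons, List.map_nil, List.prod_cons, List.prod_nil, mul_one]
    rfl

theorem conj_sign (k : Bool) (r : Fin 48) :
    nV k * matV r = matV (permW k r) * nV k ∨ nV k * matV r = -(matV (permW k r) * nV k) := by
  have h : conjCheck k = true := by
    cases k
    exacts [conjCheck_false, conjCheck_true]
  simp only [conjCheck, List.all_eq_true, List.mem_finRange, forall_const] at h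
  have h1 := eqMul2_spec (wf_nL k) (wf_matL r) (wf_matL _) (wf_nL k) (h r)
  cases hs : (signW k).testBit r.val
  · rw [hs] at h1; exact Or.inl h1
  · rw [hs] at h1; exact Or.inr h1

theorem sq_some {r : Fin 48} (hr : r ∈ sqReps ++ wordW false ++ wordW true) :
    matV r * matV r = 1 := by
  have h := sqCheck_eq
  simp only [sqCheck, List.all_eq_true] at h
  have e := eqMul1_spec (wf_matL r) (wf_matL r) wf_id (h r hr)
  simp only [cond_false, toMat_id] at e
  exact e

theorem nV_inv (k : Bool) : ∃ B, nV k * B = 1 := by
  rw [← word_prod k]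
  have hl : ∀ a ∈ wordW k, matV a * matV a = 1 := fun a ha =>
    sq_some (by cases k <;> simp [ha])
  revert hl
  generalize wordW k = l
  intro hl
  induction l with
  | nil => exact ⟨1, by simp⟩
  | cons a l ih =>
    obtain ⟨C, hC⟩ := ih fun b hb => hl b (List.mem_cons_of_mem _ hb)
    refine ⟨C * matV a, ?_⟩
    rw [List.map_cons, List.prod_cons, mul_assoc, ← mul_assoc _ C, hC, one_mul,
      hl a List.mem_cons_self]

theorem sq_transport {M P A B : Matrix (Fin 52) (Fin 52) (ZMod 11)} (h : M * A = P * M ∨ M * A = -(P * M))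
    (ha : A * A = 1) (hB : M * B = 1) : P * P = 1 := by
  have e : M * (A * A) = P * P * M := by
    rcases h with e1 | e1
    · rw [← mul_assoc, e1, mul_assoc, e1, ← mul_assoc]
    · rw [← mul_assoc, e1, neg_mul, mul_assoc, e1, mul_neg, neg_neg, ← mul_assoc]
  rw [ha, mul_one] at e
  calc P * P = P * P * 1 := (Matrix.mul_one _).symm
    _ = P * P * (M * B) := congrArg (fun Z => P * P * Z) hB.symm
    _ = P * P * M * B := (Matrix.mul_assoc _ _ _).symm
    _ = M * B := congrArg (fun Z => Z * B) e.symm
    _ = 1 := hB

theorem matV_sq (r : Fin 48) : matV r * matV r = 1 := by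
  have key : ∀ (l : List (Fin 48 × Bool)) (m m' : ℕ),
      (∀ a : Fin 48, m.testBit a.val = true → matV a * matV a = 1) → sqRun l m = some m' →
      ∀ a : Fin 48, m'.testBit a.val = true → matV a * matV a = 1 := by
    intro l
    induction l with
    | nil =>
      intro m m' hm e
      simp only [sqRun, Option.some.injEq] at e
      exact e ▸ hm
    | cons st l ih =>
      obtain ⟨a, k⟩ := st
      intro m m' hm e
      simp only [sqRun] at e
      split at e
      · rename_i ha
        refine ih _ m' (fun b hb => ?_) e
        simp only [Nat.testBit_or, Nat.testBit_two_pow, Bool.or_eq_true, decide_eq_true_eq] at hb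
        rcases hb with hb | hb
        · exact hm b hb
        obtain rfl : permW k a = b := Fin.ext hb
        obtain ⟨B, hB⟩ := nV_inv k
        have e1 := conj_sign k a
        have e2 := hm a ha
        revert e1 e2 hB
        generalize nV k = M
        generalize matV a = A
        generalize matV (permW k a) = P
        exact fun hB e1 e2 => sq_transport e1 e2 hB
      · cases e
  have h := sqCover_eq
  unfold sqCover at h
  split at h
  · rename_i m hm
    simp only [List.all_eq_true, List.mem_finRange, forall_const] at h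
    refine key _ _ m (fun a ha => ?_) hm r (h r)
    have : ∀ l : List (Fin 48),
        (l.foldr (fun (r : Fin 48) m => m ||| 2 ^ r.val) 0).testBit a.val = true → a ∈ l := by
      intro l
      induction l with
      | nil => simp
      | cons b l ih =>
        simp only [List.foldr_cons, Nat.testBit_or, Nat.testBit_two_pow, Bool.or_eq_true,
          decide_eq_true_eq, List.mem_cons]
        rintro (hh | hh)
        exacts [Or.inr (ih hh), Or.inl (Fin.ext hh.symm)]
    exact sq_some (List.mem_append_left _ (List.mem_append_left _ (this _ ha)))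
  · cases h

/-- The matrix of a root as a unit. -/
def uF (r : Fin 48) : GL52 := ⟨matV r, matV r, matV_sq r, matV_sq r⟩

theorem uF_sq (r : Fin 48) : uF r * uF r = 1 := Units.ext (matV_sq r)

/-- The subgroup of signs. -/
def signs : Subgroup GL52 := Subgroup.zpowers (-1)

theorem mem_signs {g : GL52} (h : g = 1 ∨ g = -1) : g ∈ signs := by
  rcases h with rfl | rfl
  exacts [one_mem _, Subgroup.mem_zpowers _]

instance : signs.Normal where
  conj_mem z hz g := by
    have hle : signs ≤ Subgroup.center GL52 := by
      rw [signs, Subgroup.zpowers_le, Subgroup.mem_center_iff]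
      exact fun h => (Commute.neg_one_right h).eq
    rw [Subgroup.mem_center_iff.1 (hle hz) g, mul_inv_cancel_right]
    exact hz

theorem mk_eq {a b : GL52} (h : (a : Matrix (Fin 52) (Fin 52) (ZMod 11)) = b ∨
    (a : Matrix (Fin 52) (Fin 52) (ZMod 11)) = -b) :
    QuotientGroup.mk' signs a = QuotientGroup.mk' signs b := by
  rcases h with h | h
  · rw [Units.ext h]
  · rw [← mul_inv_eq_one, ← map_inv, ← map_mul]
    refine (QuotientGroup.eq_one_iff _).2 (mem_signs (Or.inr ?_))
    rw [show a = -b from Units.ext h, neg_mul, mul_inv_cancel]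

/-- The images modulo signs. -/
def qF (r : Fin 48) : GL52 ⧸ signs := QuotientGroup.mk' signs (uF r)

theorem coe_prod (l : List (Fin 48)) :
    (((l.map uF).prod : GL52) : Matrix (Fin 52) (Fin 52) (ZMod 11)) = (l.map matV).prod := by
  induction l with
  | nil => simp
  | cons a l ih =>
    simp only [List.map_cons, List.prod_cons, Units.val_mul, ih]
    rfl

theorem prod_qF (l : List (Fin 48)) : (l.map qF).prod = QuotientGroup.mk' signs (l.map uF).prod := by
  rw [map_list_prod, List.map_map]
  rfl

theorem conj_q (k : Bool) (r : Fin 48) :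
    ((wordW k).map qF).prod * qF r * (((wordW k).map qF).prod)⁻¹ = qF (permW k r) := by
  rw [mul_inv_eq_iff_eq_mul, prod_qF, qF, qF, ← map_mul, ← map_mul]
  refine mk_eq ?_
  simp only [Units.val_mul, coe_prod, word_prod]
  exact conj_sign k r

theorem pair_rep {d : (Fin 48 × Fin 48) × Bool × List (List ℕ)} (h : d ∈ repData) :
    ⁅qF d.1.1, qF d.1.2⁆ = ((tab.word d.1.1 d.1.2).map qF).prod ∧
      (d.2.1 = true → matV d.1.1 * matV d.1.2 =
        -(((tab.word d.1.1 d.1.2).map matV).prod * (matV d.1.2 * matV d.1.1))) := by
  obtain ⟨⟨r, s⟩, ng, Ss⟩ := d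
  have h' := repCheck_eq
  simp only [repCheck, Bool.and_eq_true, List.all_eq_true] at h'
  have h1 := h'.1 _ h
  unfold repOne at h1
  simp only at h1
  split at h1
  · cases h1
  rename_i P hP
  simp only [Bool.and_eq_true] at h1
  obtain ⟨⟨⟨⟨⟨-, wP⟩, eP⟩, hch⟩, wh⟩, he⟩ := h1
  obtain ⟨-, eh⟩ := chainOk_spec wP _ _ hch
  have eP' : toMat (matL s) * toMat (matL r) = toMat P := eqMul1_spec (wf_matL s) (wf_matL r) wP eP
  have h2 := eqMul1_spec (wf_matL r) (wf_matL s) wh he
  rw [eh, ← eP'] at h2
  dsimp only
  refine ⟨?_, fun hng => ?_⟩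
  · have key : qF r * qF s = ((tab.word r s).map qF).prod * (qF s * qF r) := by
      rw [prod_qF, qF, qF, ← map_mul, ← map_mul, ← map_mul]
      refine mk_eq ?_
      simp only [Units.val_mul, coe_prod]
      cases ng
      · exact Or.inl h2
      · exact Or.inr h2
    rw [commutatorElement_def, mul_assoc (qF r * qF s), ← mul_inv_rev, key, mul_inv_cancel_right]
  · subst hng
    exact h2

theorem pair_q {r s : Fin 48} (h : tab.ok r s = true) :
    ⁅qF r, qF s⁆ = ((tab.word r s).map qF).prod := by
  have key : ∀ (l : List (Fin 48 × Fin 48 × Bool)) (m m' : ℕ),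
      (∀ a b : Fin 48, mem m (a, b) = true → ⁅qF a, qF b⁆ = ((tab.word a b).map qF).prod) →
      pairRun l m = some m' →
      ∀ a b : Fin 48, mem m' (a, b) = true → ⁅qF a, qF b⁆ = ((tab.word a b).map qF).prod := by
    intro l
    induction l with
    | nil =>
      intro m m' hm e
      simp only [pairRun, Option.some.injEq] at e
      exact e ▸ hm
    | cons st l ih =>
      obtain ⟨a, b, k⟩ := st
      intro m m' hm e
      simp only [pairRun] at e
      split at e
      · rename_i hh
        simp only [Bool.and_eq_true, decide_eq_true_eq] at hh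
        refine ih _ m' (fun a' b' hp => ?_) e
        rcases mem_ins hp with hp | hp
        · exact hm a' b' hp
        obtain ⟨rfl, rfl⟩ := Prod.mk.inj hp
        set g := ((wordW k).map qF).prod
        rw [hh.2, ← conj_q k a, ← conj_q k b, ← conjugate_commutatorElement, hm a b hh.1,
          List.map_map, show (qF ∘ permW k) = (MulAut.conj g : GL52 ⧸ signs →* GL52 ⧸ signs) ∘ qF from
            funext fun x => (conj_q k x).symm, ← List.map_map, ← map_list_prod]
        rfl
      · cases e
  have h' := pairCover_eq
  unfold pairCover at h'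
  split at h'
  · rename_i m hm
    simp only [List.all_eq_true, List.mem_finRange, forall_const, Bool.or_eq_true,
      Bool.not_eq_true'] at h'
    refine key _ _ m (fun a b hab => ?_) hm r s ((h' r s).resolve_left (by simp [h]))
    have : ∀ l : List ((Fin 48 × Fin 48) × Bool × List (List ℕ)),
        mem (l.foldr (fun d m => ins m d.1) 0) (a, b) = true → ∃ d ∈ l, d.1 = (a, b) := by
      intro l
      induction l with
      | nil => simp [mem]
      | cons c l ih =>
        intro hh
        rcases mem_ins (show mem (ins (l.foldr (fun d m => ins m d.1) 0) c.1) (a, b) = true from hh) with hh | hh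
        · obtain ⟨d, hd, e⟩ := ih hh
          exact ⟨d, List.mem_cons_of_mem _ hd, e⟩
        · exact ⟨c, List.mem_cons_self, hh.symm⟩
    obtain ⟨⟨⟨a', b'⟩, d⟩, hd, e⟩ := this _ hab
    obtain ⟨rfl, rfl⟩ := Prod.mk.inj e
    exact (pair_rep hd).1
  · cases h'

/-- The base defect is the sign. -/
theorem base_defect : ⁅uF 0, uF 29⁆ * ((tab.word 0 29).map uF).prod⁻¹ = -1 := by
  have h' := repCheck_eq
  simp only [repCheck, Bool.and_eq_true, List.any_eq_true, decide_eq_true_eq] at h'
  obtain ⟨⟨⟨r, s⟩, d⟩, hd, e, hng⟩ := h'.2
  obtain ⟨rfl, rfl⟩ := Prod.mk.inj e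
  have h2 := (pair_rep hd).2 hng
  have key : uF 0 * uF 29 = -1 * (((tab.word 0 29).map uF).prod * (uF 29 * uF 0)) := by
    refine Units.ext ?_
    simp only [Units.val_mul, Units.val_neg, Units.val_one, coe_prod, neg_mul, one_mul]
    exact h2
  rw [commutatorElement_def, mul_assoc (uF 0 * uF 29), ← mul_inv_rev, key, ← mul_assoc,
    mul_inv_cancel_right, mul_inv_cancel_right]

/-- The roots in the base word are exact commutators. -/
theorem exact_dec {v : Fin 48} (hv : v ∈ tab.word 0 29) :
    uF v = ⁅uF (cert.dec v).1, uF (cert.dec v).2⁆ := by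
  have h' := exactCheck_eq
  rw [exactCheck, List.all_eq_true] at h'
  obtain ⟨⟨w, Q⟩, -, hh⟩ := List.any_eq_true.1 (h' v hv)
  obtain ⟨h123, he⟩ := Bool.and_eq_true_iff.1 hh
  obtain ⟨h12, eQ⟩ := Bool.and_eq_true_iff.1 h123
  obtain ⟨h1', wQ⟩ := Bool.and_eq_true_iff.1 h12
  obtain rfl : w = v := of_decide_eq_true h1'
  set a := (cert.dec w).1
  set b := (cert.dec w).2
  have h1 : toMat (matL b) * toMat (matL a) = toMat Q := eqMul1_spec (neg := false) (wf_matL b) (wf_matL a) wQ eQ
  have h2 : toMat (matL a) * toMat (matL b) = toMat (matL w) * toMat Q :=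
    eqMul2_spec (neg := false) (wf_matL a) (wf_matL b) (wf_matL w) wQ he
  rw [← h1] at h2
  have key : uF a * uF b = uF w * (uF b * uF a) := Units.ext h2
  rw [commutatorElement_def, mul_assoc (uF a * uF b), ← mul_inv_rev, key, mul_inv_cancel_right]

theorem neg_one_ne : (-1 : GL52) ≠ 1 := fun h => by
  have h' := congrArg (fun M : GL52 => (M : Matrix (Fin 52) (Fin 52) (ZMod 11)) 0 0) h
  simp only [Units.val_neg, Units.val_one, Matrix.neg_apply, Matrix.one_apply_eq] at h'
  exact absurd h' (by decide)

end CfsgLib.Schur.F4Two
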