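import Cfsg.Agent.Lib.Schur.F4Two.Cover
import Cfsg.Agent.Lib.Schur.F4Two.Checks
import Cfsg.Agent.Lib.Schur.F4Two.Ext
import Cfsg.Agent.Lib.Schur.F4Two.MatUnits
import Cfsg.Agent.Lib.Steinberg.KerTorus
import Cfsg.Agent.Lib.Chev.Simple
import Cfsg.Prelude.Def_KGroupFacts

/-!
The Schur multiplier of the Chevalley group of type F4 over the field with two elements.
-/

set_option autoImplicit false
set_option linter.unusedSectionVars false

namespace CfsgLib.Schur.F4Two

open Cfsg.Lie Subgroup
open scoped commutatorElement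

universe u

theorem delta_mem {r s : Fin 48} (h : tab.ok r s = true) : delta tab uF (r, s) ∈ signs := by
  refine (QuotientGroup.eq_one_iff _).1 ?_
  show QuotientGroup.mk' signs _ = 1
  rw [delta, map_mul, map_inv, map_commutatorElement, map_list_prod, List.map_map, mul_inv_eq_one]
  exact pair_q h

theorem gen_mem_signs : ∀ z ∈ signs, ∀ g : GL52, Commute z g := by
  intro z hz
  obtain ⟨k, rfl⟩ := mem_zpowers_iff.1 hz
  exact fun g => (Commute.neg_one_left g).zpow_left k

theorem neg_one_zpow_two {U : Type*} [Group U] [HasDistribNeg U] : (-1 : U) ^ (2 : ℤ) = 1 := by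
  rw [zpow_two, neg_mul_neg, one_mul]

/-- The extension from a model in the lowest universe. -/
theorem stem_of_model {n : ℕ} {T : Tab n} {G : Type u} [Group G] [Finite G] [IsSimpleGroup G]
    {x : Fin n → G} (hP : Presents T x) {U : Type} [Group U] [Finite U] (Y : Fin n → U) (z : U)
    (hzc : z ∈ center U) (q1 : z ^ 2 = 1) (n1 : z ≠ 1) (hsq : ∀ r, Y r * Y r = 1)
    (hdel : ∀ r s, T.ok r s = true → delta T Y (r, s) ∈ zpowers z)
    {a b : Fin n} (e : delta T Y (a, b) = z)
    (hdec : ∀ v ∈ T.word a b, ∃ p q, Y v = ⁅Y p, Y q⁆)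
    (hne : ∃ r, Y r ∉ zpowers z) :
    ∃ (Γ : Type u) (_ : Group Γ) (_ : Finite Γ) (σ : Γ →* G),
      Cfsg.IsStemExtension σ ∧ Nonempty (σ.ker ≃* Multiplicative (ZMod 2)) := by
  have hz : ∀ g, Commute z g := fun g => (mem_center_iff.1 hzc g).symm
  rw [pow_two] at q1
  set φ : U →* ULift.{u} U := MulEquiv.ulift.symm.toMonoidHom with hφ
  have hi : Function.Injective φ := MulEquiv.ulift.symm.injective
  have hs : Function.Surjective φ := MulEquiv.ulift.symm.surjective
  have hd : ∀ r s, delta T (φ ∘ Y) (r, s) = φ (delta T Y (r, s)) := by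
    intro r s
    rw [delta, delta, map_mul, map_inv, map_list_prod, List.map_map, map_commutatorElement]
    rfl
  refine exists_stem hP (φ ∘ Y) (φ z) (fun g => ?_) (by rw [← map_mul, q1, map_one])
    (fun h => n1 (hi (by rw [h, map_one]))) (fun r => by
      show φ (Y r) * φ (Y r) = 1
      rw [← map_mul, hsq, map_one])
    (fun r s h => ?_) (by rw [hd, e]) (fun v hv => ?_) ?_
  · obtain ⟨g, rfl⟩ := hs g
    exact (hz g).map φ
  · rw [hd, ← MonoidHom.map_zpowers]
    exact mem_map_of_mem φ (hdel r s h)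
  · obtain ⟨p, q, hpq⟩ := hdec v hv
    refine ⟨p, q, ?_⟩
    show φ (Y v) = _
    rw [hpq, map_commutatorElement]
    rfl
  · obtain ⟨r, hr⟩ := hne
    refine ⟨r, fun h => hr ?_⟩
    rw [← MonoidHom.map_zpowers] at h
    obtain ⟨y, hy, ey⟩ := h
    exact hi ey ▸ hy

theorem neg_one_sq' {U : Type*} [Group U] [HasDistribNeg U] : (-1 : U) * -1 = 1 := by
  rw [neg_mul_neg, one_mul]

theorem root_entry : Packed.slot ((matL 0).getD 2 0) 15 = 10 := by decide +kernel

theorem root_ne : uF 0 ∉ signs := by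
  intro h
  obtain ⟨k, hk⟩ := mem_zpowers_iff.1 h
  have he : (uF 0 : Matrix (Fin 52) (Fin 52) (ZMod 11)) 2 15 = 10 := by
    show ((Packed.slot ((matL 0).getD 2 0) 15 : ℕ) : ZMod 11) = 10
    rw [root_entry]
    rfl
  rw [← hk] at he
  rcases Int.even_or_odd k with ⟨j, rfl⟩ | ⟨j, rfl⟩
  · rw [← two_mul, zpow_mul, neg_one_zpow_two (U := GL52), one_zpow, Units.val_one,
      Matrix.one_apply_ne (by decide)] at he
    exact absurd he (by decide)
  · rw [zpow_add, zpow_mul, neg_one_zpow_two (U := GL52), one_zpow, one_mul, zpow_one,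
      Units.val_neg, Units.val_one, Matrix.neg_apply, Matrix.one_apply_ne (by decide), neg_zero] at he
    exact absurd he (by decide)

/-- The multiplier of a group isomorphic to the covering group. -/
theorem hasMultiplier {F : Type u} [Field F] (h2 : ∀ t : F, t = 0 ∨ t = 1) (htwo : (1 : F) + 1 = 0)
    {G : Type u} [Group G] [Finite G] [IsSimpleGroup G] (ψ : chevF4.SteinbergCover F ≃* G) :
    Cfsg.HasCyclicSchurMultiplier G 2 := by
  have R0 := gen_rels h2 htwo
  let x : Fin 48 → G := fun r => ψ (gen F r)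
  have R : Rels tab x := ⟨fun r => by simp only [x]; rw [← map_mul, R0.sq, map_one],
    fun r s a b => by
      simp only [x]
      rw [← map_commutatorElement, R0.pair r s a b, map_list_prod, List.map_map]
      rfl⟩
  have hP : Presents tab x := by
    refine ⟨?_, fun H _ Y RY => ?_⟩
    · rw [show Set.range x = ψ.toMonoidHom '' Set.range (gen F) by rw [← Set.range_comp]; rfl,
        ← MonoidHom.map_closure, closure_gen h2 htwo, Subgroup.map_top_of_surjective]
      exact ψ.surjective
    · obtain ⟨f, hf⟩ := gen_presents h2 htwo RY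
      exact ⟨f.comp ψ.symm.toMonoidHom, fun r => by simp [x, hf]⟩
  refine ⟨?_, fun E _ _ σ hσ =>
    exists_surjective (commutator_eq_top R hP.1 cert_ok) R hP cert_ok hσ⟩
  have a3 : ∀ r s, tab.ok r s = true → delta tab uF (r, s) ∈ Subgroup.zpowers (-1 : GL52) :=
    fun r s h => delta_mem h
  have a4 : ∀ v ∈ tab.word 0 29, ∃ p q, uF v = ⁅uF p, uF q⁆ := fun v hv => ⟨_, _, exact_dec hv⟩
  have a5 : (-1 : GL52) ∈ center GL52 :=
    mem_center_iff.2 fun g => (gen_mem_signs _ (mem_signs (Or.inr rfl)) g).eq.symm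
  have a6 : (-1 : GL52) ^ 2 = 1 := (pow_two _).trans neg_one_sq'
  exact stem_of_model (U := GL52) hP uF (-1) a5 a6 neg_one_ne uF_sq a3 base_defect a4 ⟨0, root_ne⟩

/-- The multiplier of the Chevalley group. -/
theorem hasMultiplier_group {F : Type u} [Field F] [Fintype F] (hF : Fintype.card F = 2) :
    Cfsg.HasCyclicSchurMultiplier ↥(chevF4.group F) 2 := by
  classical
  have h2 : ∀ t : F, t = 0 ∨ t = 1 := by
    intro t
    by_contra h
    push Not at h
    have h3 : ({0, 1, t} : Finset F).card = 3 := by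
      simp [h.1.symm, h.2.symm]
    have := Finset.card_le_univ ({0, 1, t} : Finset F)
    omega
  have htwo : (1 : F) + 1 = 0 := by
    rcases h2 ((1 : F) + 1) with h | h
    · exact h
    · simp at h
  have hD : chevF4 ∈ [chevG2, chevB2, chevD4, chevF4, chevE6, chevE7, chevE8] := by simp
  obtain ⟨T, S⟩ := CfsgLib.Steinberg.exists_setup hD
  obtain ⟨θ, hs, -, hθ⟩ := (CfsgLib.Steinberg.coverSys F S).exists_toGroup
    (CfsgLib.Steinberg.cover_top F)
  have hi : Function.Injective θ := by
    refine (injective_iff_map_eq_one θ).2 fun g hg => ?_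
    have hm := (CfsgLib.Steinberg.coverSys F S).ker_le_hBar (CfsgLib.Steinberg.cover_top F)
      (g := g) (by rw [← hθ g, hg]; rfl)
    have hb : CfsgLib.Steinberg.hBar chevF4 (chevF4.scGen F) ≤ ⊥ := by
      rw [CfsgLib.Steinberg.hBar, closure_le]
      rintro y ⟨i, t, rfl⟩
      rw [show (t : F) = 1 from (h2 t).resolve_left t.ne_zero]
      exact Subgroup.mem_bot.2 ((CfsgLib.Steinberg.coverSys F S).hE_one
        (CfsgLib.Chev.simple_lt S.checked i.2))
    exact Subgroup.mem_bot.1 (hb hm)
  let ψ : chevF4.SteinbergCover F ≃* ↥(chevF4.group F) := MulEquiv.ofBijective θ ⟨hi, hs⟩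
  have hperf : commutator ↥(chevF4.group F) = ⊤ := by
    rw [eq_top_iff, ← (map_top_of_surjective ψ.toMonoidHom ψ.surjective),
      ← (commutator_eq_top (gen_rels h2 htwo) (closure_gen h2 htwo) cert_ok),
      _root_.commutator_def, map_commutator, _root_.commutator_def]
    exact commutator_mono le_top le_top
  have := (CfsgLib.Chev.isSimple_group_of_perfect (F := F) hD hperf).1
  exact hasMultiplier h2 htwo ψ

end CfsgLib.Schur.F4Two
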