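import Cfsg.Agent.Lib.Schur.F4Two.MatDefs

/-!
The evaluation of the checks on the matrices.
-/

set_option autoImplicit false
set_option maxRecDepth 20000
set_option maxHeartbeats 0

namespace CfsgLib.Schur.F4Two

theorem shapeCheck_eq : shapeCheck = true := by decide +kernel

theorem idCheck_eq : idCheck = true := by decide +kernel

theorem wordCheck_eq : wordCheck = true := by decide +kernel

theorem sqCheck_eq : sqCheck = true := by decide +kernel

theorem repCheck_eq : repCheck = true := by decide +kernel

theorem exactCheck_eq : exactCheck = true := by decide +kernel

theorem conjCheck_false : conjCheck false = true := by decide +kernel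

theorem conjCheck_true : conjCheck true = true := by decide +kernel

theorem sqCover_eq : sqCover = true := by decide +kernel

theorem pairCover_eq : pairCover = true := by decide +kernel

end CfsgLib.Schur.F4Two
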