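import Mathlib

/-!
Relations of involutions with commutators given by words, sequences of rewriting moves on words, and the
certificates used to bound the central extensions of a group with such relations.
-/

set_option autoImplicit false

namespace CfsgLib.Schur.F4Two

open scoped commutatorElement

/-- The words of the commutators. -/
structure Tab (n : ℕ) where
  /-- The word of the commutator of two root elements. -/
  word : Fin n → Fin n → List (Fin n)
  /-- The negative of a root. -/
  neg : Fin n → Fin n

variable {n : ℕ} (T : Tab n)

/-- The relations. -/
structure Rels {G : Type*} [Group G] (x : Fin n → G) : Prop where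
  sq : ∀ r, x r * x r = 1
  pair : ∀ r s, s ≠ r → s ≠ T.neg r → ⁅x r, x s⁆ = ((T.word r s).map x).prod

/-- The pair is neither equal nor opposite. -/
def Tab.ok (r s : Fin n) : Bool := decide (s ≠ r) && decide (s ≠ T.neg r)

/-- The root elements commute. -/
def Tab.com (r s : Fin n) : Bool := T.ok r s && (T.word r s).isEmpty

/-- The number of a pair. -/
def pid (p : Fin n × Fin n) : ℕ := n * p.1.val + p.2.val

/-- Membership of a pair in a set coded as a number. -/
def mem (m : ℕ) (p : Fin n × Fin n) : Bool := m.testBit (pid p)

/-- Adding a pair. -/
def ins (m : ℕ) (p : Fin n × Fin n) : ℕ := m ||| 2 ^ pid p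

/-- A step showing that lifts of `a` and `t` commute. -/
inductive Near (n : ℕ) where
  | symm (a t : Fin n)
  | dec (a t p q : Fin n) (pre post : List (Fin n))

/-- Running the steps. -/
def nearRun : List (Near n) → ℕ → Option ℕ
  | [], m => some m
  | .symm a t :: l, m => if mem m (t, a) then nearRun l (ins m (a, t)) else none
  | .dec a t p q pre post :: l, m =>
    if T.com a p && T.com a q && T.ok p q && decide (T.word p q = pre ++ t :: post) &&
        (pre ++ post).all (fun u => mem m (a, u)) then nearRun l (ins m (a, t)) else none

/-- A move on a word. -/
inductive Move where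
  | swap (i : ℕ)
  | cancel (i : ℕ)

/-- Applying a move: the new word and the pair whose defect appears. -/
def move : Move → List (Fin n) → Option (List (Fin n) × List (Fin n × Fin n))
  | .swap 0, r :: s :: w => if T.ok r s then some (T.word r s ++ s :: r :: w, [(r, s)]) else none
  | .swap (i + 1), a :: w => (move (.swap i) w).map fun o => (a :: o.1, o.2)
  | .cancel 0, r :: s :: w => if r = s then some (w, []) else none
  | .cancel (i + 1), a :: w => (move (.cancel i) w).map fun o => (a :: o.1, o.2)
  | _, _ => none

/-- Applying moves. -/
def moves : List Move → List (Fin n) → Option (List (Fin n) × List (Fin n × Fin n))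
  | [], w => some (w, [])
  | m :: l, w =>
    match move T m w with
    | some (w', o) => (moves l w').map fun p => (p.1, o ++ p.2)
    | none => none

/-- The sum modulo two of the values of the known pairs different from `u`. -/
def valSum (val : ℕ) (u : Fin n × Fin n) : List (Fin n × Fin n) → Bool
  | [] => false
  | p :: l => if p = u then valSum val u l else xor (mem val p) (valSum val u l)

/-- The parity of the occurrences of `u`. -/
def parity (u : Fin n × Fin n) : List (Fin n × Fin n) → Bool
  | [] => false
  | p :: l => if p = u then !parity u l else parity u l

/-- Toggling a pair in a list. -/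
def toggle (p : Fin n × Fin n) : List (Fin n × Fin n) → List (Fin n × Fin n)
  | [] => [p]
  | q :: l => if p = q then l else q :: toggle p l

/-- The pairs occurring an odd number of times. -/
def oddPairs : List (Fin n × Fin n) → List (Fin n × Fin n)
  | [] => []
  | p :: l => toggle p (oddPairs l)

/-- A step determining the defect of a pair by two ways of rewriting the same word. -/
structure Eqn (n : ℕ) where
  u : Fin n × Fin n
  start : List (Fin n)
  left : List Move
  right : List Move

/-- Checking one step against the known pairs and the values. -/
def Eqn.check (val known : ℕ) (e : Eqn n) : Bool :=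
  match moves T e.left e.start, moves T e.right e.start with
  | some (w, o), some (w', o') =>
    let occ := oddPairs (o ++ o')
    decide (w = w') && occ.all (fun p => decide (p = e.u) || mem known p) &&
      parity e.u occ && (valSum val e.u occ == mem val e.u)
  | _, _ => false

/-- Running the steps. -/
def eqRun (val : ℕ) : List (Eqn n) → ℕ → Option ℕ
  | [], k => some k
  | e :: l, k => if e.check T val k then eqRun val l (ins k e.u) else none

/-- A certificate. -/
structure Cert (n : ℕ) where
  dp : List (Fin n × Fin n)
  base : Fin n × Fin n
  nears : List (Near n)
  nearSet : ℕ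
  val : ℕ
  known : ℕ
  blocks : List (List (Eqn n) × ℕ)

variable (C : Cert n)

/-- The chosen decomposition of a root. -/
def Cert.dec (v : Fin n) : Fin n × Fin n := C.dp.getD v.val (v, v)

/-- The checks on the commuting lifts. -/
structure Cert.NearOk : Prop where
  run : nearRun T C.nears 0 = some C.nearSet
  dec : ∀ v, T.ok (C.dec v).1 (C.dec v).2 = true ∧ T.word (C.dec v).1 (C.dec v).2 = [v] ∧
    (mem C.nearSet ((C.dec v).1, v) || mem C.nearSet ((C.dec v).2, v)) = true
  pairs : ∀ r s, T.ok r s = true →
    ((T.word r s).isEmpty && !mem C.nearSet (r, s)) = false ∧
    (T.word r s).all (fun t => mem C.nearSet (s, t) &&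
      (T.word r s).all fun t' => decide (t = t') || mem C.nearSet (t, t')) = true

/-- The initially known pairs. -/
def Cert.initOk : Bool :=
  (List.finRange n).all fun r => (List.finRange n).all fun s =>
    !mem C.known (r, s) || (T.ok r s &&
      ((decide ((r, s) = C.base) && mem C.val (r, s)) ||
        (!decide ((r, s) = C.base) && !mem C.val (r, s) &&
          (decide (T.word r s = [] ∧ mem C.nearSet (r, s) = true) || decide (T.word r s = [] ∧ mem C.nearSet (s, r) = true) ||
            (List.finRange n).any fun v => decide (C.dec v = (r, s))))))

/-- The checks. -/
structure Cert.Ok : Prop where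
  near : C.NearOk T
  base : T.ok C.base.1 C.base.2 = true
  init : C.initOk T = true
  chain : (List.zip (C.known :: C.blocks.map Prod.snd) C.blocks).all
    (fun b => eqRun T C.val b.2.1 b.1 == some b.2.2) = true
  total : ∀ r s, T.ok r s = true → mem ((C.blocks.map Prod.snd).getLastD C.known) (r, s) = true

end CfsgLib.Schur.F4Two
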