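import Cfsg.Agent.Lib.Schur.F4Two.Packed
import Cfsg.Agent.Lib.Schur.F4Two.MatData
import Cfsg.Agent.Lib.Schur.F4Two.Tab
import Cfsg.Agent.Lib.Schur.F4Two.Data

/-!
The checks on the matrices.
-/

set_option autoImplicit false

namespace CfsgLib.Schur.F4Two

open Packed

/-- The matrix of a root. -/
def matL (r : Fin 48) : List ℕ := pmats.getD r.val []

/-- The word of a Weyl element. -/
def wordW (k : Bool) : List (Fin 48) := bif k then word1 else word0

/-- The partial products of a Weyl element. -/
def chainW (k : Bool) : List (List ℕ) := bif k then chain1 else chain0

/-- The matrix of a Weyl element. -/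
def nL (k : Bool) : List ℕ := (chainW k).headD []

/-- The signs of the conjugation by a Weyl element. -/
def signW (k : Bool) : ℕ := bif k then conjSigns1 else conjSigns0

/-- The permutation of a Weyl element. -/
def permW (k : Bool) (r : Fin 48) : Fin 48 := (bif k then perm1 else perm0).getD r.val r

/-- Partial products along a word, ending at the matrix `base`. -/
def chainOk (base : List ℕ) : List (Fin 48) → List (List ℕ) → Bool
  | [], [S] => S == base
  | r :: l, S :: S' :: rest => eqMul1 false (matL r) S' S && wf S && chainOk base l (S' :: rest)
  | _, _ => false

/-- The Weyl elements are the products of their words. -/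
def wordCheck : Bool :=
  [false, true].all fun k => match (wordW k).getLast? with
    | none => false
    | some r => chainOk (matL r) (wordW k).dropLast (chainW k)

/-- Shapes. -/
def shapeCheck : Bool :=
  (List.finRange 48).all (fun r => wf (matL r)) && wf idRows && wf (nL false) && wf (nL true)

/-- The identity rows. -/
def idCheck : Bool :=
  (List.finRange 52).all fun i => (List.finRange 52).all fun j =>
    Nat.beq (Packed.at' (idRows.getD i.val 0) (32 + 16 * j.val)) (bif decide (i = j) then 1 else 0)

/-- The squares at the representatives and in the words. -/
def sqCheck : Bool :=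
  (sqReps ++ wordW false ++ wordW true).all fun r => eqMul1 false (matL r) (matL r) idRows

/-- Conjugation by the Weyl elements. -/
def conjCheck (k : Bool) : Bool :=
  (List.finRange 48).all fun r =>
    eqMul2 ((signW k).testBit r.val) (nL k) (matL r) (matL (permW k r)) (nL k)

/-- The defect at a representative is the given sign. -/
def repOne (d : (Fin 48 × Fin 48) × Bool × List (List ℕ)) : Bool :=
  match d.2.2.getLast? with
  | none => false
  | some P => tab.ok d.1.1 d.1.2 && wf P && eqMul1 false (matL d.1.2) (matL d.1.1) P &&
      chainOk P (tab.word d.1.1 d.1.2) d.2.2 && wf (d.2.2.headD []) &&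
      eqMul1 d.2.1 (matL d.1.1) (matL d.1.2) (d.2.2.headD [])

/-- The representatives, with a negative sign at the base pair. -/
def repCheck : Bool :=
  repData.all repOne && repData.any fun d => decide (d.1 = (0, 29)) && d.2.1

/-- The decompositions of the roots in the word of the base pair hold exactly. -/
def exactCheck : Bool :=
  (tab.word 0 29).all fun v => decData.any fun d => decide (d.1 = v) && wf d.2 &&
    eqMul1 false (matL (cert.dec v).2) (matL (cert.dec v).1) d.2 &&
    eqMul2 false (matL (cert.dec v).1) (matL (cert.dec v).2) (matL v) d.2

/-- Running the transport of roots. -/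
def sqRun : List (Fin 48 × Bool) → ℕ → Option ℕ
  | [], m => some m
  | (r, k) :: l, m => if m.testBit r.val then sqRun l (m ||| 2 ^ (permW k r).val) else none

/-- Running the transport of pairs. -/
def pairRun : List (Fin 48 × Fin 48 × Bool) → ℕ → Option ℕ
  | [], m => some m
  | (r, s, k) :: l, m =>
    if mem m (r, s) && decide (tab.word (permW k r) (permW k s) = (tab.word r s).map (permW k)) then
      pairRun l (ins m (permW k r, permW k s)) else none

/-- Every root is reached. -/
def sqCover : Bool :=
  match sqRun sqSteps (sqReps.foldr (fun r m => m ||| 2 ^ r.val) 0) with
  | some m => (List.finRange 48).all fun r => m.testBit r.val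
  | none => false

/-- Every pair is reached. -/
def pairCover : Bool :=
  match pairRun pairSteps (repData.foldr (fun d m => ins m d.1) 0) with
  | some m => (List.finRange 48).all fun r => (List.finRange 48).all fun s =>
      !tab.ok r s || mem m (r, s)
  | none => false

end CfsgLib.Schur.F4Two
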