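import Mathlib

/-!
Comparison of products of matrices modulo eleven, the rows packed into numbers with slots of sixteen bits above
thirty-two low bits holding an arbitrary tag (tags keep the numbers apart in their low words).
-/

set_option autoImplicit false
set_option maxRecDepth 20000

namespace CfsgLib.Schur.F4Two.Packed

/-- The positions of the slots. -/
def offs : List ℕ := [32, 48, 64, 80, 96, 112, 128, 144, 160, 176, 192, 208, 224, 240, 256, 272, 288, 304, 320, 336, 352, 368, 384, 400, 416, 432, 448, 464, 480, 496, 512, 528, 544, 560, 576, 592, 608, 624, 640, 656, 672, 688, 704, 720, 736, 752, 768, 784, 800, 816, 832, 848]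

/-- The bias, `11704` in every slot. -/
def bias : ℕ := 21967329435928682155765415849308762772895793040224141784076736936721690690912392979544264212851055282217150938047931581017237727049253825298582286906024560382803566469374109818695096730375651311948015867087864380886312123438232270139426198255887035657990701056

/-- The slot at a position. -/
def at' (x o : ℕ) : ℕ := Nat.land (Nat.shiftRight x o) 65535

/-- The combination of rows. -/
def dotR (x : ℕ) : List (ℕ × ℕ) → ℕ
  | [] => 0
  | (o, b) :: l => Nat.add (Nat.mul (at' x o) b) (dotR x l)

/-- All slots are divisible by eleven. -/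
def okD (d : ℕ) : List ℕ → Bool
  | [] => true
  | o :: l => Nat.beq (Nat.mod (at' d o) 11) 0 && okD d l

/-- The slots are at most fifteen, the tag is small. -/
def rowWf (x : ℕ) : Bool :=
  Nat.blt (Nat.mod x 4294967296) 65536 && Nat.beq (Nat.shiftRight x 864) 0 && offs.all fun o => Nat.ble (at' x o) 15

/-- The shape. -/
def wf (A : List ℕ) : Bool := decide (A.length = 52) && A.all rowWf

/-- Comparing rows of two products. -/
def rows2 (neg : Bool) (B D : List (ℕ × ℕ)) : List ℕ → List ℕ → Bool
  | a :: A, c :: C =>
    okD (bif neg then Nat.add (dotR a B) (dotR c D)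
      else Nat.sub (Nat.add (dotR a B) bias) (dotR c D)) offs && rows2 neg B D A C
  | [], [] => true
  | _, _ => false

/-- Comparing rows of a product with given rows. -/
def rows1 (neg : Bool) (B : List (ℕ × ℕ)) : List ℕ → List ℕ → Bool
  | a :: A, c :: C =>
    okD (bif neg then Nat.add (dotR a B) c else Nat.sub (Nat.add (dotR a B) bias) c) offs &&
      rows1 neg B A C
  | [], [] => true
  | _, _ => false

/-- `A * B = ± C * D`. -/
def eqMul2 (neg : Bool) (A B C D : List ℕ) : Bool := rows2 neg (offs.zip B) (offs.zip D) A C

/-- `A * B = ± C`. -/
def eqMul1 (neg : Bool) (A B C : List ℕ) : Bool := rows1 neg (offs.zip B) A C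

end CfsgLib.Schur.F4Two.Packed
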